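import Cfsg.Agent.H57.CSix.Model

/-!
Block elements of GL(ι, F) with respect to the two eigenspaces of an involution.
-/

set_option autoImplicit false
set_option linter.unusedSectionVars false

namespace Cfsg.Agent.H57.CSix

open Matrix

variable {ι : Type} [Fintype ι] [DecidableEq ι] {F : Type*} [Field F]

/-- The matrix acting as X on the fixed space of C and as Y on the negated space. -/
def blM (C X Y : Matrix ι ι F) : Matrix ι ι F := (2 : F)⁻¹ • ((1 + C) * X + (1 - C) * Y)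

open Classical in
/-- The element acting as X on the fixed space of C and as Y on the negated space. -/
noncomputable def bl (C X Y : GL ι F) : GL ι F :=
  if h : IsUnit (blM (C : Matrix ι ι F) X Y) then h.unit else 1

/-- An involution with two elements commuting with it. -/
structure BlOK (C X Y : GL ι F) : Prop where
  two : (2 : F) ≠ 0
  sq : C * C = 1
  cx : C * X = X * C
  cy : C * Y = Y * C

namespace BlOK

variable {C X Y X' Y' : GL ι F}

theorem smul_two (h : BlOK C X Y) (A : Matrix ι ι F) : (2 : F)⁻¹ • (A + A) = A := by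
  rw [← two_smul F A, smul_smul, inv_mul_cancel₀ h.two, one_smul]

theorem matrix_sq (h : BlOK C X Y) : (C : Matrix ι ι F) * C = 1 := by
  rw [← Units.val_mul, h.sq, Units.val_one]

theorem commute_x (h : BlOK C X Y) : (C : Matrix ι ι F) * X = (X : Matrix ι ι F) * C := by
  rw [← Units.val_mul, h.cx, Units.val_mul]

theorem commute_y (h : BlOK C X Y) : (C : Matrix ι ι F) * Y = (Y : Matrix ι ι F) * C := by
  rw [← Units.val_mul, h.cy, Units.val_mul]

theorem mul (h : BlOK C X Y) (h' : BlOK C X' Y') : BlOK C (X * X') (Y * Y') :=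
  ⟨h.two, h.sq, by rw [← mul_assoc, h.cx, mul_assoc, h'.cx, mul_assoc],
    by rw [← mul_assoc, h.cy, mul_assoc, h'.cy, mul_assoc]⟩

theorem inv (h : BlOK C X Y) : BlOK C X⁻¹ Y⁻¹ :=
  ⟨h.two, h.sq, ((Commute.inv_right (show Commute C X from h.cx))).eq,
    ((Commute.inv_right (show Commute C Y from h.cy))).eq⟩

theorem swap (h : BlOK C X Y) : BlOK C Y X := ⟨h.two, h.sq, h.cy, h.cx⟩

theorem blM_mul (h : BlOK C X Y) :
    blM (C : Matrix ι ι F) X Y * blM (C : Matrix ι ι F) (X' : Matrix ι ι F) Y' =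
      blM (C : Matrix ι ι F) ((X * X' : GL ι F) : Matrix ι ι F) ((Y * Y' : GL ι F) : Matrix ι ι F) := by
  set c := (C : Matrix ι ι F) with hc
  have hs : c * c = 1 := h.matrix_sq
  have hxp : (X : Matrix ι ι F) * (1 + c) = (1 + c) * X := by rw [mul_add, add_mul, h.commute_x, one_mul, mul_one]
  have hxm : (X : Matrix ι ι F) * (1 - c) = (1 - c) * X := by rw [mul_sub, sub_mul, h.commute_x, one_mul, mul_one]
  have hyp : (Y : Matrix ι ι F) * (1 + c) = (1 + c) * Y := by rw [mul_add, add_mul, h.commute_y, one_mul, mul_one]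
  have hym : (Y : Matrix ι ι F) * (1 - c) = (1 - c) * Y := by rw [mul_sub, sub_mul, h.commute_y, one_mul, mul_one]
  have hpp : (1 + c) * (1 + c) = (2 : F) • (1 + c) := by
    rw [two_smul, add_mul, one_mul, mul_add, mul_one, hs, add_comm c 1]
  have hmm : (1 - c) * (1 - c) = (2 : F) • (1 - c) := by
    rw [two_smul, sub_mul, one_mul, mul_sub, mul_one, hs, ← neg_sub 1 c, sub_neg_eq_add]
  have hpm : (1 + c) * (1 - c) = 0 := by rw [add_mul, one_mul, mul_sub, mul_one, hs]; abel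
  have hmp : (1 - c) * (1 + c) = 0 := by rw [sub_mul, one_mul, mul_add, mul_one, hs]; abel
  have hexp : ∀ a b a' b' : Matrix ι ι F, (a + b) * (a' + b') = a * a' + a * b' + (b * a' + b * b') :=
    fun a b a' b' => by rw [add_mul, mul_add, mul_add]
  simp only [blM, Units.val_mul, smul_mul_assoc, mul_smul_comm]
  rw [← smul_assoc, smul_eq_mul, hexp]
  rw [show (1 + c) * (X : Matrix ι ι F) * ((1 + c) * X') = (2 : F) • ((1 + c) * (X * X')) by
      rw [← mul_assoc, mul_assoc (1 + c), hxp, ← mul_assoc, hpp, smul_mul_assoc, smul_mul_assoc, mul_assoc],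
    show (1 + c) * (X : Matrix ι ι F) * ((1 - c) * Y') = 0 by
      rw [← mul_assoc, mul_assoc (1 + c), hxm, ← mul_assoc, hpm, zero_mul, zero_mul],
    show (1 - c) * (Y : Matrix ι ι F) * ((1 + c) * X') = 0 by
      rw [← mul_assoc, mul_assoc (1 - c), hyp, ← mul_assoc, hmp, zero_mul, zero_mul],
    show (1 - c) * (Y : Matrix ι ι F) * ((1 - c) * Y') = (2 : F) • ((1 - c) * (Y * Y')) by
      rw [← mul_assoc, mul_assoc (1 - c), hym, ← mul_assoc, hmm, smul_mul_assoc, smul_mul_assoc, mul_assoc],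
    zero_add, add_zero, ← smul_add, smul_smul, mul_assoc (2 : F)⁻¹, inv_mul_cancel₀ h.two, mul_one]

theorem blM_one (h : BlOK C X Y) : blM (C : Matrix ι ι F) ((1 : GL ι F) : Matrix ι ι F) (1 : GL ι F) = 1 := by
  rw [blM, Units.val_one, mul_one, mul_one, show (1 : Matrix ι ι F) + C + (1 - C) = 1 + 1 by abel, h.smul_two]

theorem val (h : BlOK C X Y) : (bl C X Y : Matrix ι ι F) = blM (C : Matrix ι ι F) X Y := by
  have h1 := h.blM_mul (X' := X⁻¹) (Y' := Y⁻¹)
  have h2 := h.inv.blM_mul (X' := X) (Y' := Y)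
  rw [mul_inv_cancel, mul_inv_cancel, h.blM_one] at h1
  rw [inv_mul_cancel, inv_mul_cancel, h.blM_one] at h2
  have hu : IsUnit (blM (C : Matrix ι ι F) X Y) := ⟨⟨_, _, h1, h2⟩, rfl⟩
  rw [bl, dif_pos hu]
  exact IsUnit.unit_spec _

theorem bl_mul (h : BlOK C X Y) (h' : BlOK C X' Y') : bl C X Y * bl C X' Y' = bl C (X * X') (Y * Y') :=
  Units.ext (by rw [Units.val_mul, h.val, h'.val, (h.mul h').val, h.blM_mul])

theorem bl_same (h : BlOK C X X) : bl C X X = X := Units.ext (by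
  rw [h.val, blM, ← add_mul, show (1 : Matrix ι ι F) + C + (1 - C) = 1 + 1 by abel, add_mul, one_mul, h.smul_two])

theorem bl_inv (h : BlOK C X Y) : (bl C X Y)⁻¹ = bl C X⁻¹ Y⁻¹ :=
  inv_eq_of_mul_eq_one_right (by
    rw [h.bl_mul h.inv, mul_inv_cancel, mul_inv_cancel, bl_same ⟨h.two, h.sq, by simp, by simp⟩])

theorem bl_neg (h : BlOK C X Y) : bl C (-X) (-Y) = -bl C X Y := Units.ext (by
  have h' : BlOK C (-X) (-Y) := ⟨h.two, h.sq, by rw [mul_neg, neg_mul, h.cx], by rw [mul_neg, neg_mul, h.cy]⟩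
  rw [h'.val, Units.val_neg (bl C X Y), h.val, blM, blM, Units.val_neg, Units.val_neg, mul_neg, mul_neg, ← neg_add,
    smul_neg])

theorem bl_anti (h : BlOK C X X) : bl C X (-X) = C * X := Units.ext (by
  have h' : BlOK C X (-X) := ⟨h.two, h.sq, h.cx, by rw [mul_neg, neg_mul, h.cx]⟩
  rw [h'.val, blM, Units.val_neg, Units.val_mul, mul_neg, ← sub_eq_add_neg, ← sub_mul,
    show (1 : Matrix ι ι F) + C - (1 - C) = C + C by abel, add_mul, h.smul_two])

theorem bl_negC (h : BlOK C X Y) : bl (-C) X Y = bl C Y X := Units.ext (by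
  have h' : BlOK (-C) X Y :=
    ⟨h.two, by rw [neg_mul_neg, h.sq], by rw [neg_mul, mul_neg, h.cx], by rw [neg_mul, mul_neg, h.cy]⟩
  rw [h'.val, h.swap.val, blM, blM, Units.val_neg, sub_neg_eq_add, ← sub_eq_add_neg, add_comm])

theorem conj_ok (g : GL ι F) (h : BlOK C X Y) : BlOK (g * C * g⁻¹) (g * X * g⁻¹) (g * Y * g⁻¹) := by
  have e : ∀ A B : GL ι F, g * A * g⁻¹ * (g * B * g⁻¹) = g * (A * B) * g⁻¹ := fun A B => by group
  exact ⟨h.two, by rw [e, h.sq, mul_one, mul_inv_cancel], by rw [e, e, h.cx], by rw [e, e, h.cy]⟩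

theorem bl_conj (g : GL ι F) (h : BlOK C X Y) :
    g * bl C X Y * g⁻¹ = bl (g * C * g⁻¹) (g * X * g⁻¹) (g * Y * g⁻¹) := Units.ext (by
  rw [Units.val_mul, Units.val_mul, h.val, (h.conj_ok g).val, blM, blM, mul_smul_comm, smul_mul_assoc]
  congr 1
  simp only [Units.val_mul, mul_add, add_mul, mul_sub, sub_mul, mul_assoc, one_mul,
    Units.inv_mul_cancel_left])

/-- An element commuting with all the entries commutes with the block element. -/
theorem commute_bl {g : GL ι F} (h : BlOK C X Y) (hC : g * C = C * g) (hX : g * X = X * g)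
    (hY : g * Y = Y * g) : g * bl C X Y = bl C X Y * g := by
  have := h.bl_conj g
  rwa [hC, hX, hY, mul_inv_cancel_right, mul_inv_cancel_right, mul_inv_cancel_right,
    mul_inv_eq_iff_eq_mul] at this

section Isometry

variable {f : (ι → F) → (ι → F) → F} (hf : Cfsg.Geo.IsSymplecticForm f)
include hf

theorem bl_mem (h : BlOK C X Y) (hC : C ∈ H95.isoGrp f) (hX : X ∈ H95.isoGrp f) (hY : Y ∈ H95.isoGrp f) :
    bl C X Y ∈ H95.isoGrp f := by
  refine H95.mem_isoGrp.2 fun u v => ?_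
  rw [h.val, blM]
  have key : ∀ w : ι → F, ((2 : F)⁻¹ • ((1 + (C : Matrix ι ι F)) * (X : Matrix ι ι F) +
      (1 - (C : Matrix ι ι F)) * (Y : Matrix ι ι F))) *ᵥ w = (2 : F)⁻¹ • (((X : Matrix ι ι F) *ᵥ w +
      (C : Matrix ι ι F) *ᵥ ((X : Matrix ι ι F) *ᵥ w)) + ((Y : Matrix ι ι F) *ᵥ w -
      (C : Matrix ι ι F) *ᵥ ((Y : Matrix ι ι F) *ᵥ w))) := by
    intro w
    simp only [smul_mulVec, add_mulVec, sub_mulVec, add_mul, sub_mul, one_mul, mulVec_mulVec]
  have hsw : ∀ a b, f ((C : Matrix ι ι F) *ᵥ a) b = f a ((C : Matrix ι ι F) *ᵥ b) := fun a b => by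
    conv_lhs => rw [← H95.mem_isoGrp.1 hC]
    rw [mulVec_mulVec, h.matrix_sq, one_mulVec]
  have hCX : ∀ w, (C : Matrix ι ι F) *ᵥ ((X : Matrix ι ι F) *ᵥ w) =
      (X : Matrix ι ι F) *ᵥ ((C : Matrix ι ι F) *ᵥ w) := fun w => by rw [mulVec_mulVec, mulVec_mulVec, h.commute_x]
  have hCY : ∀ w, (C : Matrix ι ι F) *ᵥ ((Y : Matrix ι ι F) *ᵥ w) =
      (Y : Matrix ι ι F) *ᵥ ((C : Matrix ι ι F) *ᵥ w) := fun w => by rw [mulVec_mulVec, mulVec_mulVec, h.commute_y]
  have hCC : ∀ a b, f ((C : Matrix ι ι F) *ᵥ a) ((C : Matrix ι ι F) *ᵥ b) = f a b := H95.mem_isoGrp.1 hC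
  rw [key, key, H95.f_smul_left hf, H95.f_smul_right hf]
  simp only [H95.f_add_left hf, H95.f_add_right hf, H95.f_sub_left hf, H95.f_sub_right hf, hCC]
  simp only [hsw]
  simp only [hCX, hCY, H95.mem_isoGrp.1 hX, H95.mem_isoGrp.1 hY]
  have h4 : (2 : F)⁻¹ * ((2 : F)⁻¹ * 4) = 1 := by
    have : (2 : F)⁻¹ * 2 = 1 := inv_mul_cancel₀ h.two
    linear_combination ((2 : F)⁻¹ * 2 + 1) * this
  linear_combination f u v * h4

end Isometry

end BlOK

end Cfsg.Agent.H57.CSix
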