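import Cfsg.Agent.H57.CSix.Plane

/-!
Normal subsets of the isometry group of a minus type space contain an element fixing a singular vector and
acting non-trivially on the quotient of its orthogonal.
-/

set_option autoImplicit false
set_option linter.unusedSectionVars false

namespace Cfsg.Agent.H57.CSix

open Module

namespace QForm

variable {k : ℕ} (q : QForm k)

/-- The reflection in a vector, as a linear map. -/
def rfl' (u : W k) : W k →ₗ[ZMod 2] W k := LinearMap.id + (q.B u).smulRight u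

theorem rfl'_apply (u x : W k) : q.rfl' u x = x + q.B u x • u := rfl

theorem rfl'_sq (u x : W k) : q.rfl' u (q.rfl' u x) = x := by
  rw [rfl'_apply, rfl'_apply, map_add, map_smul, q.B_self, smul_zero, add_zero, vadd_cancel']

theorem rfl'_fix {u x : W k} (h : q.B u x = 0) : q.rfl' u x = x := by rw [rfl'_apply, h, zero_smul, add_zero]

/-- The product of two reflections. -/
def pair (u v : W k) : W k →ₗ[ZMod 2] W k := (q.rfl' u).comp (q.rfl' v)

theorem pair_apply (u v x : W k) : q.pair u v x = q.rfl' u (q.rfl' v x) := rfl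

theorem pair_fix {u v x : W k} (hu : q.B u x = 0) (hv : q.B v x = 0) : q.pair u v x = x := by
  rw [pair_apply, q.rfl'_fix hv, q.rfl'_fix hu]

theorem pair_inv (u v x : W k) : q.pair u v (q.pair v u x) = x := by
  rw [pair_apply, pair_apply, q.rfl'_sq, q.rfl'_sq]

theorem pair_orth {u v : W k} (h : q.B u v = 0) (x : W k) : q.pair u v x = x + q.B u x • u + q.B v x • v := by
  rw [pair_apply, rfl'_apply, rfl'_apply, map_add, map_smul, h, smul_zero, add_zero, add_right_comm]

theorem pair_iso {u v : W k} (hu : q.Q u = 1) (hv : q.Q v = 1) : q.Iso (q.pair u v) := by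
  have key : ∀ {w : W k}, q.Q w = 1 → ∀ x, q.Q (q.rfl' w x) = q.Q x := fun {w} hw x => by
    rcases z2_cases (q.B w x) with e | e
    · rw [q.rfl'_fix e]
    · rw [rfl'_apply, e, one_smul, q.Q_add, hw, q.B_symm, e, add_assoc, z2_self, add_zero]
  exact fun x => (key hu _).trans (key hv x)

/-- A set of isometries closed under products, inverses and conjugation by products of two reflections. -/
structure Closed (G : Set (W k →ₗ[ZMod 2] W k)) : Prop where
  iso : ∀ g ∈ G, q.Iso g
  mul : ∀ g ∈ G, ∀ h ∈ G, g.comp h ∈ G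
  inv : ∀ g ∈ G, ∃ h ∈ G, (∀ x, h (g x) = x) ∧ ∀ x, g (h x) = x
  conj : ∀ g ∈ G, ∀ u v, q.Q u = 1 → q.Q v = 1 → (q.pair u v).comp (g.comp (q.pair v u)) ∈ G

variable {q}
variable {G : Set (W k →ₗ[ZMod 2] W k)}

theorem Closed.conj_shape (hG : q.Closed G) {g : W k →ₗ[ZMod 2] W k} (hg : g ∈ G) {u v z w : W k} {c : ZMod 2}
    (hu : q.Q u = 1) (hv : q.Q v = 1)
    (hform : ∀ x, dif g x = (q.B w x + c * q.B z x) • z + q.B z x • w) :
    ∃ h ∈ G, ∀ x, dif h x = (q.B (q.pair u v w) x + c * q.B (q.pair u v z) x) • q.pair u v z +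
      q.B (q.pair u v z) x • q.pair u v w := by
  refine ⟨_, hG.conj g hg u v hu hv, fun x => ?_⟩
  have hB : ∀ y, q.B y (q.pair v u x) = q.B (q.pair u v y) x := fun y => by
    conv_rhs => rw [← q.pair_inv u v x]
    rw [(q.pair_iso hu hv).B_map]
  rw [dif_apply, LinearMap.comp_apply, LinearMap.comp_apply, apply_eq_dif g, map_add, q.pair_inv, vadd_cancel',
    hform, map_add, map_smul, map_smul, hB, hB]

/-- An element fixing a singular vector leads to a good one. -/
theorem Closed.of_fixed (hG : q.Closed G) (hk : 2 ≤ k) {g : W k →ₗ[ZMod 2] W k} (hg : g ∈ G) {x0 : W k}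
    (hx0 : g x0 ≠ x0) {z : W k} (hz0 : z ≠ 0) (hzQ : q.Q z = 0) (hgz : g z = z) :
    ∃ g ∈ G, ∃ z v, z ≠ 0 ∧ q.Q z = 0 ∧ g z = z ∧ q.B z v = 0 ∧ dif g v ≠ 0 ∧ dif g v ≠ z := by
  by_contra hno
  push Not at hno
  have hiso := hG.iso g hg
  have hquot : ∀ v, q.B z v = 0 → dif g v = 0 ∨ dif g v = z := fun v hv =>
    or_iff_not_imp_left.2 fun h1 => hno g hg z v hz0 hzQ hgz hv h1
  obtain ⟨p, hzp⟩ := q.exists_B_one hz0
  set w := dif g p with hw
  have hgp : g p = p + w := by rw [apply_eq_dif, add_comm]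
  have hzw : q.B z w = 0 := by
    have := hiso.B_map z p
    rw [hgz, hgp, map_add, hzp] at this
    simpa using this
  have hwQ : q.Q w = q.B p w := hiso.Q_dif p
  have hform : ∀ x, dif g x = (q.B w x + q.Q w * q.B z x) • z + q.B z x • w := by
    have hperp : ∀ v, q.B z v = 0 → dif g v = q.B w v • z := by
      intro v hv
      have e := hiso.B_map p v
      rw [hgp, apply_eq_dif g v] at e
      rcases hquot v hv with h1 | h1 <;> rw [h1] at e ⊢ <;>
        simp only [zero_add, map_add, LinearMap.add_apply, q.B_symm p z, hzp, q.B_symm w z, hzw] at e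
      · rw [add_eq_left.1 e, zero_smul]
      · have : q.B w v = 1 := by linear_combination e - z2_self (1 : ZMod 2)
        rw [this, one_smul]
    intro x
    have hv : q.B z (x + q.B z x • p) = 0 := by rw [map_add, map_smul, hzp, smul_eq_mul, mul_one, z2_self]
    have e := hperp _ hv
    rw [map_add, map_smul, ← hw, map_add, map_smul, smul_eq_mul, q.B_symm w p, ← hwQ] at e
    rw [← vadd_cancel' (dif g x) (q.B z x • w), e, mul_comm (q.B z x)]
  have hwz : w ≠ 0 ∧ w ≠ z := by
    refine ⟨fun e => hx0 ?_, fun e => ?_⟩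
    · rw [apply_eq_dif, hform, e, q.Q_zero]
      simp
    · rw [e, hzQ, q.B_symm, hzp] at hwQ
      exact zero_ne_one hwQ
  -- a non-singular vector in the plane
  obtain ⟨g1, hg1, w1, hw1Q, hzw1, hform1⟩ : ∃ g1 ∈ G, ∃ w1, q.Q w1 = 1 ∧ q.B z w1 = 0 ∧
      ∀ x, dif g1 x = (q.B w1 x + q.B z x) • z + q.B z x • w1 := by
    rcases z2_cases (q.Q w) with hw0 | hw1
    swap
    · exact ⟨g, hg, w, hw1, hzw, fun x => by rw [hform, hw1, one_mul]⟩
    obtain ⟨u0, hu01, hu00⟩ := q.exists_B_one_zero hwz.1 hwz.2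
    obtain ⟨u, huQ, huw, huz⟩ : ∃ u, q.Q u = 1 ∧ q.B w u = 1 ∧ q.B z u = 0 := by
      rcases z2_cases (q.Q u0) with e | e
      · exact ⟨u0 + w, by rw [q.Q_add, e, hw0, q.B_symm, hu01, zero_add, zero_add],
          by rw [map_add, q.B_self, add_zero, hu01], by rw [map_add, hu00, hzw, add_zero]⟩
      · exact ⟨u0, e, hu01, hu00⟩
    obtain ⟨u', hu', hu'Q⟩ := q.exists_nonsingular (U := q.orth (Submodule.span (ZMod 2) {z, w})) (by
      have := q.finrank_orth_two z w
      omega)
    obtain ⟨hu'z, hu'w⟩ := q.mem_orth_two.1 hu'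
    have htz : q.pair u u' z = z := q.pair_fix (by rw [q.B_symm]; exact huz) (by rw [q.B_symm]; exact hu'z)
    have htw : q.pair u u' w = w + u := by
      rw [pair_apply, q.rfl'_fix (show q.B u' w = 0 by rw [q.B_symm]; exact hu'w), rfl'_apply, q.B_symm u w, huw,
        one_smul]
    obtain ⟨h, hh, hhform⟩ := hG.conj_shape hg huQ hu'Q (c := 0) (z := z) (w := w) fun x => by
      rw [hform, hw0]
    refine ⟨g.comp h, hG.mul g hg h hh, u, huQ, huz, fun x => ?_⟩
    rw [dif_apply, LinearMap.comp_apply, apply_eq_dif h, hhform, htz, htw, apply_eq_dif g, hform, hw0]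
    simp only [zero_mul, add_zero, map_add, map_smul, LinearMap.add_apply, q.B_self, hzw, huz, huw,
      q.B_symm w z, add_zero, zero_add, smul_eq_mul, mul_zero, mul_one]
    refine funext fun i => ?_
    simp only [Pi.add_apply, Pi.smul_apply, smul_eq_mul]
    generalize q.B w x = a, q.B u x = b, q.B z x = c, z i = zi, w i = wi, u i = ui, x i = xi
    revert a b c zi wi ui xi
    decide
  -- rotate an anisotropic plane
  obtain ⟨p0, hzp0, hwp0⟩ := q.exists_B_one_zero hz0 (fun e : z = w1 => zero_ne_one (by rw [← hzQ, e, hw1Q]))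
  obtain ⟨p1, hp1Q, hzp1, hwp1⟩ : ∃ p1, q.Q p1 = 1 ∧ q.B z p1 = 1 ∧ q.B w1 p1 = 0 := by
    rcases z2_cases (q.Q p0) with e | e
    · exact ⟨p0 + z, by rw [q.Q_add, e, hzQ, q.B_symm, hzp0, zero_add, zero_add],
        by rw [map_add, q.B_self, add_zero, hzp0], by rw [map_add, hwp0, q.B_symm w1, hzw1, add_zero]⟩
    · exact ⟨p0, e, hzp0, hwp0⟩
  have htw1 : q.pair p1 w1 w1 = w1 := q.pair_fix (by rw [q.B_symm]; exact hwp1) (q.B_self w1)
  have htz : q.pair p1 w1 z = z + p1 := by
    rw [pair_apply, q.rfl'_fix (show q.B w1 z = 0 by rw [q.B_symm]; exact hzw1), rfl'_apply, q.B_symm p1 z, hzp1,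
      one_smul]
  obtain ⟨h, hh, hhform⟩ := hG.conj_shape hg1 hp1Q hw1Q (c := 1) (z := z) (w := w1) fun x => by
    rw [hform1, one_mul]
  have hn : ∀ x, dif (g1.comp h) x =
      (q.B z x + q.B w1 x) • (z + w1) + (q.B z x + q.B w1 x + q.B p1 x) • p1 := by
    intro x
    rw [dif_apply, LinearMap.comp_apply, apply_eq_dif h, hhform, htz, htw1, apply_eq_dif g1, hform1]
    simp only [one_mul, map_add, map_smul, LinearMap.add_apply, q.B_self, hzw1, hzp1, hwp1,
      q.B_symm w1 z, add_zero, zero_add, smul_eq_mul, mul_zero, mul_one]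
    refine funext fun i => ?_
    simp only [Pi.add_apply, Pi.smul_apply, smul_eq_mul]
    generalize q.B z x = a, q.B w1 x = b, q.B p1 x = c, z i = zi, w1 i = wi, p1 i = pi', x i = xi
    revert a b c zi wi pi' xi
    decide
  set v := z + w1 with hv
  set H := q.orth (Submodule.span (ZMod 2) {v, p1}) with hH
  have hvQ : q.Q v = 1 := by rw [hv, q.Q_add_of_orth hzw1, hzQ, hw1Q, zero_add]
  have hvp : q.B v p1 = 1 := by rw [hv, map_add, LinearMap.add_apply, hzp1, hwp1, add_zero]
  have hHd := q.finrank_orth_two v p1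
  rw [← hH] at hHd
  obtain ⟨z', hz'H, hz'0, hz'Q⟩ : ∃ z' ∈ H, z' ≠ 0 ∧ q.Q z' = 0 := by
    by_cases h3 : 3 ≤ k
    · exact q.exists_singular (by omega)
    by_contra hcon
    push Not at hcon
    have hone : ∀ a ∈ H, a ≠ 0 → q.Q a = 1 := fun a ha ha0 => z2_ne_zero (hcon a ha ha0)
    obtain ⟨h1, hh1, hh10⟩ := H.ne_bot_iff.1 fun e => by rw [e, finrank_bot] at hHd; omega
    obtain ⟨h2, hh2, hh2n⟩ := SetLike.not_le_iff_exists.1 (show ¬ H ≤ Submodule.span (ZMod 2) {h1} from fun hle => by
      have := Submodule.finrank_mono hle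
      rw [finrank_span_singleton (K := ZMod 2) hh10] at this
      omega)
    rw [mem_span_one, not_or] at hh2n
    obtain ⟨hv1, hp11⟩ := q.mem_orth_two.1 hh1
    obtain ⟨hv2, hp12⟩ := q.mem_orth_two.1 hh2
    have hB12 : q.B h1 h2 = 1 := by
      rw [q.B_eq_Q, hone _ (H.add_mem hh1 hh2) (fun e => hh2n.2 (vadd_eq_zero e).symm), hone _ hh1 hh10,
        hone _ hh2 hh2n.1]
      rfl
    have hA : q.Q (v + h1) = 0 := by rw [q.Q_add_of_orth hv1, hvQ, hone _ hh1 hh10]; rfl
    have hC : q.Q (p1 + h2) = 0 := by rw [q.Q_add_of_orth hp12, hp1Q, hone _ hh2 hh2n.1]; rfl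
    have hAC : q.B (v + h1) (p1 + h2) = 0 := by
      simp only [map_add, LinearMap.add_apply, hvp, hv2, q.B_symm h1 p1, hp11, hB12]
      decide
    have hA0 : v + h1 ≠ 0 := fun e => by
      rw [← vadd_eq_zero e, q.B_symm, hvp] at hp11
      exact one_ne_zero hp11
    have hC0 : p1 + h2 ≠ 0 := fun e => by
      rw [← vadd_eq_zero e, hvp] at hv2
      exact one_ne_zero hv2
    have hne' : v + h1 ≠ p1 + h2 := fun e => by
      have := congrArg (q.B v) e
      simp only [map_add, q.B_self, hv1, hvp, hv2] at this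
      exact zero_ne_one this
    have hts : q.Singular (Submodule.span (ZMod 2) {v + h1, p1 + h2}) := fun a ha => by
      rcases mem_span_two.1 ha with rfl | rfl | rfl | rfl
      exacts [q.Q_zero, hA, hC, by rw [q.Q_add_of_orth hAC, hA, hC]; rfl]
    have := q.minus _ hts
    rw [finrank_span_two hA0 hC0 hne'] at this
    omega
  obtain ⟨hvz', hpz'⟩ := q.mem_orth_two.1 hz'H
  have hfix : g1.comp h z' = z' := by
    rw [apply_eq_dif (g1.comp h), hn]
    have e1 : q.B z z' + q.B w1 z' = 0 := by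
      rw [← LinearMap.add_apply, ← map_add]; exact hvz'
    rw [e1, hpz', add_zero, zero_smul, zero_smul, add_zero, zero_add]
  have hval : dif (g1.comp h) v = p1 := by
    rw [hn, hv]
    simp [q.B_self, hzw1, q.B_symm w1 z, q.B_symm p1 z, hzp1, q.B_symm p1 w1, hwp1]
  have := hno _ (hG.mul g1 hg1 h hh) z' v hz'0 hz'Q hfix (by rw [q.B_symm]; exact hvz')
    (by rw [hval]; exact fun e => by rw [e, q.Q_zero] at hp1Q; exact zero_ne_one hp1Q)
  rw [hval] at this
  rw [this, hz'Q] at hp1Q
  exact zero_ne_one hp1Q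

/-- A non-trivial closed set contains a good element. -/
theorem Closed.exists_good (hG : q.Closed G) (hk : 2 ≤ k) {g : W k →ₗ[ZMod 2] W k} (hg : g ∈ G) {x0 : W k}
    (hx0 : g x0 ≠ x0) :
    ∃ g ∈ G, ∃ z v, z ≠ 0 ∧ q.Q z = 0 ∧ g z = z ∧ q.B z v = 0 ∧ dif g v ≠ 0 ∧ dif g v ≠ z := by
  by_contra hcon
  have hfree : ∀ g ∈ G, ∀ z, z ≠ 0 → q.Q z = 0 → g z = z → ∀ x, g x = x := fun g hg z hz hzQ hgz x => by
    by_contra hne
    exact hcon (hG.of_fixed hk hg hne hz hzQ hgz)
  have hinvol : ∀ g ∈ G, (∀ x, g (g x) = x) → ∀ x, g x = x := fun g hg hgg => by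
    obtain ⟨y, -, hy0, hyQ, hy⟩ := (⟨hG.iso g hg, hgg⟩ : q.Invol g).exists_fixed_singular (U := ⊤)
      (fun _ _ => trivial) (by rw [finrank_top, finrank_W]; omega)
    exact hfree g hg y hy0 hyQ hy
  obtain ⟨z, -, hz0, hzQ⟩ := q.exists_singular (U := ⊤) (by rw [finrank_top, finrank_W]; omega)
  have hiso := hG.iso g hg
  set z1 := g z with hz1
  have hz1ne : z1 ≠ z := fun e => hx0 (hfree g hg z hz0 hzQ e x0)
  have hz1Q : q.Q z1 = 0 := (hiso z).trans hzQ
  have hz10 : z1 ≠ 0 := fun e => hz0 (hiso.injective (e.trans (map_zero g).symm))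
  set H := q.orth (Submodule.span (ZMod 2) {z, z1}) with hH
  have hHd := q.finrank_orth_two z z1
  rw [← hH] at hHd
  obtain ⟨g', hg', hl, hr⟩ := hG.inv g hg
  have hcomm : ∀ u v, q.Q u = 1 → q.Q v = 1 → u ∈ H → v ∈ H → ∀ x, g (q.pair u v x) = q.pair u v (g x) := by
    intro u v hu hv huH hvH
    obtain ⟨huz, huz1⟩ := q.mem_orth_two.1 huH
    obtain ⟨hvz, hvz1⟩ := q.mem_orth_two.1 hvH
    have hn := hG.mul g hg _ (hG.conj g' hg' u v hu hv)
    have hfix : g ((q.pair u v).comp (g'.comp (q.pair v u)) z1) = z1 := by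
      have f1 : q.pair v u z1 = z1 := q.pair_fix (by rw [q.B_symm]; exact hvz1) (by rw [q.B_symm]; exact huz1)
      have f2 : q.pair u v z = z := q.pair_fix (by rw [q.B_symm]; exact huz) (by rw [q.B_symm]; exact hvz)
      rw [LinearMap.comp_apply, LinearMap.comp_apply, f1, hz1, hl, f2]
    intro x
    have e := hfree _ hn z1 hz10 hz1Q hfix (q.pair u v (g x))
    rw [LinearMap.comp_apply, LinearMap.comp_apply, LinearMap.comp_apply, q.pair_inv v u, hl] at e
    exact e
  by_cases h3 : 3 ≤ k
  · obtain ⟨u, huH, huQ⟩ := q.exists_nonsingular (U := H) (by omega)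
    have hd2 : 3 ≤ finrank (ZMod 2) ↥(H ⊓ q.orth (Submodule.span (ZMod 2) {u})) := by
      have h1 := Submodule.finrank_sup_add_finrank_inf_eq H (q.orth (Submodule.span (ZMod 2) {u}))
      have h2 := Submodule.finrank_le (H ⊔ q.orth (Submodule.span (ZMod 2) {u}))
      have h3 := q.finrank_orth_one u
      rw [finrank_W] at h2
      omega
    obtain ⟨s, hs, hs0, hsQ⟩ := q.exists_singular hd2
    have hus : q.B u s = 0 := q.mem_orth_one.1 hs.2
    have hvQ : q.Q (u + s) = 1 := by rw [q.Q_add_of_orth hus, huQ, hsQ, add_zero]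
    have huv : q.B u (u + s) = 0 := by rw [map_add, q.B_self, hus, add_zero]
    have hform : ∀ x, q.pair u (u + s) x = x + q.B u x • u + q.B (u + s) x • (u + s) :=
      q.pair_orth huv
    have hc := hcomm u (u + s) huQ hvQ huH (H.add_mem huH hs.1)
    have hmove : ∀ a, q.pair u (u + s) a ≠ a → g (q.pair u (u + s) a + a) ∈
        Submodule.span (ZMod 2) ({u, u + s} : Set (W k)) := fun a _ => by
      rw [map_add, hc, hform, show g a + q.B u (g a) • u + q.B (u + s) (g a) • (u + s) + g a =
        q.B u (g a) • u + q.B (u + s) (g a) • (u + s) from by rw [add_assoc (g a), add_comm (g a), vadd_cancel']]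
      exact Submodule.add_mem _ (Submodule.smul_mem _ _ (Submodule.subset_span (by simp)))
        (Submodule.smul_mem _ _ (Submodule.subset_span (by simp)))
    have hu0 : u ≠ 0 := fun e => by rw [e, q.Q_zero] at huQ; exact zero_ne_one huQ
    have huu : u ≠ u + s := fun e => hs0 (by simpa using e)
    have hget : ∀ y, y = u ∨ y = u + s → g y = u ∨ g y = u + s := by
      intro y hy
      have hy0 : y ≠ 0 := by
        rcases hy with rfl | rfl
        exacts [hu0, fun e => by rw [e, q.Q_zero] at hvQ; exact zero_ne_one hvQ]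
      obtain ⟨a, ha⟩ : ∃ a, q.pair u (u + s) a + a = y := by
        have hu0' : u + s ≠ 0 := fun e => by rw [e, q.Q_zero] at hvQ; exact zero_ne_one hvQ
        rcases hy with rfl | rfl
        · obtain ⟨a, h1, h2⟩ := q.exists_B_one_zero hu0 huu
          exact ⟨a, by rw [hform, h1, h2, one_smul, zero_smul, add_zero, add_comm a, vadd_cancel']⟩
        · obtain ⟨a, h1, h2⟩ := q.exists_B_one_zero hu0' huu.symm
          exact ⟨a, by rw [hform, h1, h2, one_smul, zero_smul, add_zero, add_comm a, vadd_cancel']⟩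
      have hm := hmove a (fun e => hy0 (by rw [← ha, e, vadd_self]))
      rw [ha, mem_span_two] at hm
      have hQy : q.Q (g y) = 1 := by rw [hiso]; rcases hy with rfl | rfl <;> assumption
      rcases hm with e | e | e | e
      · rw [e, q.Q_zero] at hQy; exact absurd hQy zero_ne_one
      · exact .inl e
      · exact .inr e
      · rw [e, vadd_cancel, hsQ] at hQy; exact absurd hQy zero_ne_one
    have hgs : g s = s := by
      have e1 := hget u (.inl rfl)
      have e2 := hget (u + s) (.inr rfl)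
      have hne' : g u ≠ g (u + s) := fun e => huu (hiso.injective e)
      have hs' : g s = g u + g (u + s) := by rw [← map_add, vadd_cancel]
      rcases e1 with e1 | e1 <;> rcases e2 with e2 | e2
      · exact absurd (e1.trans e2.symm) hne'
      · rw [hs', e1, e2, vadd_cancel]
      · rw [hs', e1, e2, add_comm, vadd_cancel]
      · exact absurd (e1.trans e2.symm) hne'
    exact hx0 (hfree g hg s hs0 hsQ hgs x0)
  · -- dimension four
    have hk2 : k = 2 := by omega
    have hzz1 : q.B z z1 = 1 := by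
      refine z2_ne_zero fun h0 => ?_
      have hts : q.Singular (Submodule.span (ZMod 2) {z, z1}) := fun a ha => by
        rcases mem_span_two.1 ha with rfl | rfl | rfl | rfl
        exacts [q.Q_zero, hzQ, hz1Q, by rw [q.Q_add_of_orth h0, hzQ, hz1Q, add_zero]]
      have := q.minus _ hts
      rw [finrank_span_two hz0 hz10 hz1ne.symm] at this
      omega
    have hH1 : ∀ a ∈ H, a ≠ 0 → q.Q a = 1 := fun a ha ha0 => z2_ne_zero fun haQ => by
      obtain ⟨h1, h2⟩ := q.mem_orth_two.1 ha
      have hts : q.Singular (Submodule.span (ZMod 2) {z, a}) := fun b hb => by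
        rcases mem_span_two.1 hb with rfl | rfl | rfl | rfl
        exacts [q.Q_zero, hzQ, haQ, by rw [q.Q_add_of_orth h1, hzQ, haQ, add_zero]]
      have := q.minus _ hts
      rw [finrank_span_two hz0 ha0 (fun e => by rw [← e, q.B_symm, hzz1] at h2; exact one_ne_zero h2)] at this
      omega
    obtain ⟨u, hu, hu0⟩ := H.ne_bot_iff.1 fun e => by rw [e, finrank_bot] at hHd; omega
    obtain ⟨v, hv, hvn⟩ := SetLike.not_le_iff_exists.1 (show ¬ H ≤ Submodule.span (ZMod 2) {u} from fun hle => by
      have := Submodule.finrank_mono hle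
      rw [finrank_span_singleton (K := ZMod 2) hu0] at this
      omega)
    rw [mem_span_one, not_or] at hvn
    have huQ := hH1 u hu hu0
    have hvQ := hH1 v hv hvn.1
    have huv : q.B u v = 1 := by
      rw [q.B_eq_Q, hH1 _ (H.add_mem hu hv) (fun e => hvn.2 (vadd_eq_zero e).symm), huQ, hvQ]; rfl
    have hc := hcomm u v huQ hvQ hu hv
    obtain ⟨huz, huz1⟩ := q.mem_orth_two.1 hu
    obtain ⟨hvz, hvz1⟩ := q.mem_orth_two.1 hv
    have e := hc z1
    rw [q.pair_fix (by rw [q.B_symm]; exact huz1) (by rw [q.B_symm]; exact hvz1), pair_apply, rfl'_apply,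
      rfl'_apply] at e
    have hzero : q.B u (g z1) = 0 ∧ q.B v (g z1) = 0 := by
      have e' : q.B v (g z1) • v + q.B u (g z1 + q.B v (g z1) • v) • u = 0 := by
        have := congrArg (g z1 + ·) e
        simpa [add_assoc, vadd_self, vadd_cancel] using this.symm
      rw [map_add, map_smul, huv, smul_eq_mul, mul_one] at e'
      rcases z2_cases (q.B v (g z1)) with b | b <;> rcases z2_cases (q.B u (g z1)) with a | a <;>
        simp [a, b, z2_self] at e' ⊢
      · exact hu0 e'
      · exact hvn.2 (vadd_eq_zero e')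
      · exact hvn.1 e'
    have hmem : g z1 ∈ Submodule.span (ZMod 2) ({z, z1} : Set (W k)) := by
      rw [← q.orth_orth (Submodule.span (ZMod 2) ({z, z1} : Set (W k))), ← hH]
      refine q.mem_orth.2 fun a ha => ?_
      have hle : H ≤ Submodule.span (ZMod 2) {u, v} := by
        refine (Submodule.eq_of_le_of_finrank_le ?_ ?_).ge
        · rw [Submodule.span_le]; rintro b (rfl | rfl) <;> assumption
        · rw [finrank_span_two hu0 hvn.1 fun e => hvn.2 e.symm]
          have := q.finrank_orth (Submodule.span (ZMod 2) {z, z1})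
          rw [finrank_span_two hz0 hz10 hz1ne.symm, ← hH] at this
          omega
      rcases mem_span_two.1 (hle ha) with rfl | rfl | rfl | rfl
      · simp
      · exact hzero.1
      · exact hzero.2
      · rw [map_add, LinearMap.add_apply, hzero.1, hzero.2, add_zero]
    have hgz1 : g z1 = z := by
      have hQ : q.Q (g z1) = 0 := (hiso z1).trans hz1Q
      rcases mem_span_two.1 hmem with e' | e' | e' | e'
      · exact absurd (hiso.injective (e'.trans (map_zero g).symm)) hz10
      · exact e'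
      · exact absurd (hiso.injective (e'.trans hz1)) hz1ne
      · rw [e', q.Q_add, hzQ, hz1Q, hzz1, zero_add, zero_add] at hQ
        exact absurd hQ one_ne_zero
    have hsq : ∀ x, g.comp g x = x := hfree _ (hG.mul g hg g hg) z hz0 hzQ (by
      rw [LinearMap.comp_apply, ← hz1, hgz1])
    exact hx0 (hinvol g hg hsq x0)

end QForm

end Cfsg.Agent.H57.CSix
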