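import Cfsg.Agent.H57.CSix.Full
import Cfsg.Agent.H57.CSix.Search

/-!
An overgroup of the normaliser either fixes its singular centralisers or is the whole symplectic group.
-/

set_option autoImplicit false
set_option linter.unusedSectionVars false

namespace Cfsg.Agent.H57.CSix

open Matrix Module

variable {F : Type*} [Field F] [Fintype F] {m : ℕ} {k : ℕ}
variable {R : Subgroup (GL (SI m) F)}

/-- Equality up to a sign, for matrices. -/
def Sgn {V : Type*} [Neg V] (A B : V) : Prop := A = B ∨ A = -B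

namespace Sgn

variable {l ι κ : Type} [Fintype ι] [DecidableEq ι] {A B C : Matrix ι κ F}

theorem symm (h : Sgn A B) : Sgn B A := by
  rcases h with rfl | rfl
  exacts [.inl rfl, .inr (neg_neg _).symm]

theorem trans (h : Sgn A B) (h' : Sgn B C) : Sgn A C := by
  rcases h with rfl | rfl <;> rcases h' with rfl | rfl
  exacts [.inl rfl, .inr rfl, .inr rfl, .inl (neg_neg _)]

theorem mul_left (X : Matrix l ι F) (h : Sgn A B) : Sgn (X * A) (X * B) := by
  rcases h with rfl | rfl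
  exacts [.inl rfl, .inr (Matrix.mul_neg _ _)]

theorem mul_right [Fintype κ] (h : Sgn A B) (X : Matrix κ l F) : Sgn (A * X) (B * X) := by
  rcases h with rfl | rfl
  exacts [.inl rfl, .inr (Matrix.neg_mul _ _)]

theorem of_pm {a b : GL ι F} (h : PM a b) : Sgn (a : Matrix ι ι F) (b : Matrix ι ι F) := by
  rcases h with rfl | rfl
  exacts [.inl rfl, .inr (Units.val_neg _)]

end Sgn

namespace Frame

variable {ι : Type} [Fintype ι] [DecidableEq ι] {S : Subgroup (GL ι F)} (fr : Frame k S)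

/-- A singular element is not minus one. -/
theorem one_add_ne_zero {z : W k} (hz : z ≠ 0) : (1 : Matrix ι ι F) + (fr.cl z : Matrix ι ι F) ≠ 0 := by
  intro h
  refine hz (fr.eq_zero_of_pm (.inr (Units.ext ?_)))
  rw [Units.val_neg, Units.val_one]
  exact eq_neg_of_add_eq_zero_right h

/-- The projection of a singular element determines the vector acting on it as a sign. -/
theorem eq_zero_or_of_sgn {z d : W k} (hz : z ≠ 0) (hzQ : fr.q.Q z = 0)
    (h : Sgn ((fr.cl d : Matrix ι ι F) * (1 + (fr.cl z : Matrix ι ι F))) (1 + (fr.cl z : Matrix ι ι F))) :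
    d = 0 ∨ d = z := by
  by_contra hd
  rw [not_or] at hd
  set D := (fr.cl d : Matrix ι ι F) with hD
  set C := (fr.cl z : Matrix ι ι F) with hC
  have hkill : ∀ A : Matrix ι ι F, A = -A → A = 0 := fun A hA => by
    have : (2 : F) • A = 0 := by rw [two_smul]; exact eq_neg_iff_add_eq_zero.1 hA
    exact (smul_eq_zero.1 this).resolve_left fr.two
  have hCC : C * C = 1 := by rw [hC, ← Units.val_mul, fr.cl_sq_zero hzQ, Units.val_one]
  have hCP : C * (1 + C) = 1 + C := by rw [mul_add, mul_one, hCC, add_comm]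
  rcases z2_cases (fr.q.B d z) with e | e
  · obtain ⟨r, hr1, hr0⟩ := fr.q.exists_B_one_zero hd.1 hd.2
    set E := (fr.cl r : Matrix ι ι F) with hE
    have hEP : E * (1 + C) = (1 + C) * E := by
      rw [mul_add, add_mul, mul_one, one_mul, hE, hC, ← Units.val_mul, ← Units.val_mul,
        fr.commute_iff.2 (by rw [fr.q.B_symm]; exact hr0)]
    have hDE : D * E = -(E * D) := by
      rw [hD, hE, ← Units.val_mul, fr.anti hr1, Units.val_neg, Units.val_mul]
    have h0 : (1 + C) * E = 0 := by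
      refine hkill _ ?_
      rcases h with h | h
      · calc (1 + C) * E = D * (1 + C) * E := by rw [h]
          _ = D * E * (1 + C) := by rw [Matrix.mul_assoc, ← hEP, Matrix.mul_assoc]
          _ = -(E * (D * (1 + C))) := by rw [hDE, neg_mul, Matrix.mul_assoc]
          _ = -((1 + C) * E) := by rw [h, hEP]
      · calc (1 + C) * E = -(D * (1 + C)) * E := by rw [h, neg_neg]
          _ = -(D * E * (1 + C)) := by rw [neg_mul, Matrix.mul_assoc, ← hEP, Matrix.mul_assoc]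
          _ = E * (D * (1 + C)) := by rw [hDE, neg_mul, neg_neg, Matrix.mul_assoc]
          _ = -((1 + C) * E) := by rw [h, mul_neg, hEP]
    refine fr.one_add_ne_zero hz ?_
    have := congrArg (· * ((fr.cl r)⁻¹ : GL ι F).val) h0
    simpa [hE, Matrix.mul_assoc] using this
  · have hCD : C * D = -(D * C) := by
      rw [hC, hD, ← Units.val_mul, fr.anti (v := z) (w := d) (by rw [fr.q.B_symm]; exact e), Units.val_neg,
        Units.val_mul]
    have h0 : D * (1 + C) = 0 := by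
      refine hkill _ ?_
      have e1 : C * (D * (1 + C)) = -(D * (1 + C)) := by
        rw [← Matrix.mul_assoc, hCD, neg_mul, Matrix.mul_assoc, hCP]
      have e2 : C * (D * (1 + C)) = D * (1 + C) := by
        rcases h with h | h <;> rw [h]
        · exact hCP
        · rw [mul_neg, hCP]
      exact e2.symm.trans e1
    refine fr.one_add_ne_zero hz ?_
    have := congrArg (((fr.cl d)⁻¹ : GL ι F).val * ·) h0
    simpa [hD, ← Matrix.mul_assoc] using this

end Frame

namespace Split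

variable {fr : Frame k R} {m' : ℕ} (S : Split fr m')

local notation "MM" => Matrix (SI m) (SI m) F

theorem pr_X_Z : fr.cl S.z = S.lift 1 (-1) := by
  have hz : fr.cl S.x * fr.cl S.z * fr.cl S.x = -fr.cl S.z := by
    rw [fr.anti (v := S.x) (w := S.z) (by rw [fr.q.B_symm]; exact S.zx), neg_mul, mul_assoc,
      fr.cl_sq_zero S.xQ, mul_one]
  conv_lhs => rw [S.eq_lift (h := fr.cl S.z) rfl]
  rw [hz, S.pr_neg rfl, S.pr_Z]

theorem lift_one_neg (μ : GL (SI m') F) : S.lift 1 (-μ) = fr.cl S.z * S.lift 1 μ := by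
  rw [S.pr_X_Z, S.lift_mul, mul_one, neg_one_mul]

theorem proj_comm {A : MM} (h : A * S.Z = S.Z * A) : A * (S.J * S.K) = S.J * S.K * A := by
  rw [S.JK, mul_smul_comm, smul_mul_assoc, mul_add, add_mul, mul_one, one_mul, h]

/-- Elements with the same compression agree on the part. -/
theorem mul_proj_eq {A B : MM} (hA : A * S.Z = S.Z * A) (hB : B * S.Z = S.Z * B)
    (h : Sgn (S.comp A) (S.comp B)) : Sgn (A * (S.J * S.K)) (B * (S.J * S.K)) := by
  have key : ∀ {C : MM}, C * S.Z = S.Z * C → C * (S.J * S.K) = S.J * S.comp C * S.K := fun {C} hC => by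
    calc C * (S.J * S.K) = C * (S.J * S.K) * (S.J * S.K) := by
          rw [Matrix.mul_assoc, Matrix.mul_assoc S.J S.K, ← Matrix.mul_assoc S.K S.J, S.KJ, Matrix.one_mul]
      _ = S.J * S.K * C * (S.J * S.K) := by rw [S.proj_comm hC]
      _ = S.J * S.comp C * S.K := by simp only [comp, Matrix.mul_assoc]
  rw [key hA, key hB]
  exact (h.mul_left _).mul_right _

variable {M : Subgroup (GL (SI m) F)}

set_option maxHeartbeats 1600000 in
/-- A centralising element outside the normaliser gives everything. -/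
theorem cent_full (hk : 3 ≤ k) (hR : R ≤ Cfsg.spGL m F) (hbase : Frame.N R ⊓ Cfsg.spGL m F ≤ M)
    (hM : M ≤ Cfsg.spGL m F) (ih : Maxi F (k - 1)) {g : GL (SI m) F} (hgM : g ∈ M)
    (hgZ : g * fr.cl S.z = fr.cl S.z * g) (hgN : g ∉ Frame.N R) : M = Cfsg.spGL m F := by
  by_contra hne
  have hprN : ∀ {n : ℕ} (T : Split fr n) {h : GL (SI m) F}, h ∈ M → h * fr.cl T.z = fr.cl T.z * h →
      T.pr h ∈ Frame.N T.R1 := fun {n} T {h} hh hc => by
    by_contra hpr
    exact hne (T.full hk hR hbase hM ih hh hc hpr)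
  have hXS : fr.cl S.x ∈ Cfsg.spGL m F := hR (fr.cl_mem _)
  have hXM : fr.cl S.x ∈ M := hbase ⟨fr.cl_mem_N _, hXS⟩
  set a := S.pr g with ha
  set b := S.pr (fr.cl S.x * g * fr.cl S.x) with hb
  have hgl : g = S.lift a b := S.eq_lift hgZ
  have haN : a ∈ Frame.N S.R1 := hprN S hgM hgZ
  have hbN : b ∈ Frame.N S.R1 := hprN S (M.mul_mem (M.mul_mem hXM hgM) hXM) (S.conj_X_comm hgZ)
  have haS : a ∈ Cfsg.spGL m' F := S.pr_mem hR hgZ (hM hgM)
  have hbS : b ∈ Cfsg.spGL m' F :=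
    S.pr_mem hR (S.conj_X_comm hgZ) (Subgroup.mul_mem _ (Subgroup.mul_mem _ hXS (hM hgM)) hXS)
  have hdiag : ∀ c ∈ Frame.N S.R1, c ∈ Cfsg.spGL m' F → S.lift c c ∈ M := fun c hc hc' =>
    hbase ⟨S.lift_diag_mem hc, S.lift_mem hR hc' hc'⟩
  -- the elements acting on the negated part alone
  have hμ0 : a⁻¹ * b ∈ Frame.N S.R1 ∧ a⁻¹ * b ∈ Cfsg.spGL m' F ∧ S.lift 1 (a⁻¹ * b) ∈ M := by
    refine ⟨Subgroup.mul_mem _ (Subgroup.inv_mem _ haN) hbN, Subgroup.mul_mem _ (Subgroup.inv_mem _ haS) hbS, ?_⟩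
    have := M.mul_mem (hdiag _ (Subgroup.inv_mem _ haN) (Subgroup.inv_mem _ haS)) hgM
    rwa [hgl, S.lift_mul, inv_mul_cancel] at this
  obtain ⟨x0, hx0⟩ : ∃ x, S.frame.act (a⁻¹ * b) x ≠ x := by
    by_contra hid
    push Not at hid
    obtain ⟨r, hr⟩ := S.frame.pm_of_act_id (H95.isSymplecticForm_sympForm m') hμ0.1 hμ0.2.1 (S.R1_le hR) hid
    have hL : S.lift 1 (a⁻¹ * b) ∈ Frame.N R := by
      rcases hr with e | e <;> rw [e]
      · exact (S.lift_one_sub_mem hR r).1
      · rw [S.lift_one_neg]; exact Subgroup.mul_mem _ (fr.cl_mem_N _) (S.lift_one_sub_mem hR r).1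
    refine hgN ?_
    have := Subgroup.mul_mem _ (S.lift_diag_mem haN) hL
    rwa [S.lift_mul, mul_one, mul_inv_cancel_left, ← hgl] at this
  let G : Set (W (k - 1) →ₗ[ZMod 2] W (k - 1)) :=
    {φ | ∃ μ, (μ ∈ Frame.N S.R1 ∧ μ ∈ Cfsg.spGL m' F ∧ S.lift 1 μ ∈ M) ∧ S.frame.act μ = φ}
  have hG : S.frame.q.Closed G := by
    refine ⟨?_, ?_, ?_, ?_⟩
    · rintro _ ⟨μ, -, rfl⟩
      exact S.frame.act_iso μ
    · rintro _ ⟨μ, hμ, rfl⟩ _ ⟨ν, hν, rfl⟩
      refine ⟨μ * ν, ⟨Subgroup.mul_mem _ hμ.1 hν.1, Subgroup.mul_mem _ hμ.2.1 hν.2.1, ?_⟩,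
        LinearMap.ext fun w => by rw [LinearMap.comp_apply, S.frame.act_mul hμ.1 hν.1]⟩
      have := M.mul_mem hμ.2.2 hν.2.2
      rwa [S.lift_mul, one_mul] at this
    · rintro _ ⟨μ, hμ, rfl⟩
      refine ⟨_, ⟨μ⁻¹, ⟨Subgroup.inv_mem _ hμ.1, Subgroup.inv_mem _ hμ.2.1, ?_⟩, rfl⟩, S.frame.act_inv hμ.1, ?_⟩
      · have := M.inv_mem hμ.2.2
        rwa [S.lift_inv, inv_one] at this
      · intro w
        have := S.frame.act_inv (Subgroup.inv_mem _ hμ.1) w
        rwa [inv_inv] at this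
    · rintro _ ⟨μ, hμ, rfl⟩ u v hu hv
      obtain ⟨T, hTN, hTS, hT⟩ :=
        S.frame.exists_refl_pair (f := Cfsg.sympForm m' F) (H95.isSymplecticForm_sympForm m') (S.R1_le hR) hu hv
      refine ⟨T * μ * T⁻¹, ⟨Subgroup.mul_mem _ (Subgroup.mul_mem _ hTN hμ.1) (Subgroup.inv_mem _ hTN),
        Subgroup.mul_mem _ (Subgroup.mul_mem _ hTS hμ.2.1) (Subgroup.inv_mem _ hTS), ?_⟩,
        LinearMap.ext fun w => ?_⟩
      · have := M.mul_mem (M.mul_mem (hdiag T hTN hTS) hμ.2.2) (M.inv_mem (hdiag T hTN hTS))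
        rwa [S.lift_inv, S.lift_mul, S.lift_mul, mul_one, mul_inv_cancel] at this
      · have hTi : S.frame.act T⁻¹ w = S.frame.q.pair v u w := by
          have hTe : S.frame.act T (S.frame.q.pair v u w) = w := by
            rw [hT]; exact S.frame.q.pair_inv u v w
          conv_lhs => rw [← hTe]
          exact S.frame.act_inv hTN _
        rw [LinearMap.comp_apply, LinearMap.comp_apply,
          S.frame.act_mul (Subgroup.mul_mem _ hTN hμ.1) (Subgroup.inv_mem _ hTN), hTi, S.frame.act_mul hTN hμ.1, hT]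
        rfl
  obtain ⟨φ, ⟨μ1, hμ1, rfl⟩, z', v, hz0, hzQ, hφz, hzv, hd0, hdz⟩ :=
    hG.exists_good (by omega) ⟨a⁻¹ * b, hμ0, rfl⟩ hx0
  -- make it commute exactly
  obtain ⟨μ, hμN, hμS, hμM, hμc, hμact⟩ : ∃ μ, μ ∈ Frame.N S.R1 ∧ μ ∈ Cfsg.spGL m' F ∧ S.lift 1 μ ∈ M ∧
      μ * S.frame.cl z' = S.frame.cl z' * μ ∧ ∀ w, S.frame.act μ w = S.frame.act μ1 w := by
    rcases (S.frame.act_fix_iff hμ1.1).1 hφz with h | h
    · exact ⟨μ1, hμ1.1, hμ1.2.1, hμ1.2.2, h, fun _ => rfl⟩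
    · obtain ⟨y, hy⟩ := S.frame.q.exists_B_one hz0
      refine ⟨μ1 * S.frame.cl y, Subgroup.mul_mem _ hμ1.1 (S.frame.cl_mem_N y),
        Subgroup.mul_mem _ hμ1.2.1 (S.R1_le hR (S.frame.cl_mem y)), ?_, ?_, fun w => ?_⟩
      · have := M.mul_mem hμ1.2.2 (hbase (S.lift_one_sub_mem hR y))
        rwa [S.lift_mul, one_mul] at this
      · rw [mul_assoc, S.frame.anti (v := y) (w := z') (by rw [S.frame.q.B_symm]; exact hy), mul_neg, ← mul_assoc,
          h, neg_mul, neg_neg, mul_assoc]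
      · rw [S.frame.act_mul hμ1.1 (S.frame.cl_mem_N y), S.frame.act_cl]
  -- the second split
  set z'' := S.emb z' with hz''
  have hz''0 : z'' ≠ 0 := fun e => hz0 (S.emb_injective (e.trans (map_zero _).symm))
  obtain ⟨m2, T, hTz⟩ := fr.exists_split hR hz''0 hzQ
  have hC' : fr.cl z'' = S.lift (S.frame.cl z') (S.frame.cl z') := S.cl_emb_lift z'
  set G' := S.lift 1 μ with hG'
  have hGZ : G' * fr.cl T.z = fr.cl T.z * G' := by
    rw [hTz, hC', hG', S.lift_mul, S.lift_mul, one_mul, mul_one, hμc]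
  have hGN : T.pr G' ∈ Frame.N T.R1 := hprN T hμM hGZ
  have hVc : fr.q.B T.z (S.emb v) = 0 := by rw [hTz]; exact hzv
  have hVZ := T.cl_comm_Z hVc
  obtain ⟨w0, -, hw0⟩ := T.pr_cl_sub hVc
  set A := G' * fr.cl (S.emb v) * G'⁻¹ with hAdef
  have hGi : G'⁻¹ * fr.cl T.z = fr.cl T.z * G'⁻¹ := (Commute.inv_left (show Commute G' (fr.cl T.z) from hGZ)).eq
  have hAc : A * fr.cl T.z = fr.cl T.z * A := by
    rw [hAdef, mul_assoc, hGi, ← mul_assoc, mul_assoc G', hVZ, ← mul_assoc, hGZ, mul_assoc, mul_assoc, mul_assoc]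
  obtain ⟨w1, hw1⟩ : ∃ w1, PM (T.pr A) (T.sub w1) := by
    obtain ⟨w1, hw1⟩ := T.frame.exists_conj hGN w0
    refine ⟨w1, ?_⟩
    have hGi' : T.pr G'⁻¹ = (T.pr G')⁻¹ := eq_inv_of_mul_eq_one_left (by
      rw [← T.pr_mul hGi hGZ, inv_mul_cancel, T.pr_one])
    rw [hAdef, T.pr_mul (by rw [mul_assoc, hVZ, ← mul_assoc, hGZ, mul_assoc]) hGi, T.pr_mul hGZ hVZ, hGi']
    exact (hw0.conj _).trans hw1
  set u := T.emb w1 with hu
  have huc : fr.q.B z'' u = 0 := hTz ▸ (T.emb_mem w1).1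
  have huZ := T.cl_comm_Z (T.emb_mem w1).1
  rw [← hu] at huZ
  -- the two agree on the part of the second split
  have hZ'Z : ((fr.cl z'' : GL (SI m) F) : MM) * S.Z = S.Z * (fr.cl z'' : MM) := by
    rw [← Units.val_mul, S.cl_comm_Z (S.emb_mem z').1, Units.val_mul]
  set P' : MM := (2 : F)⁻¹ • (1 + (fr.cl z'' : MM)) with hP'
  have hP'eq : T.J * T.K = P' := by rw [T.JK, hTz]
  have hsgn : Sgn ((A : MM) * P') (P' * (fr.cl u : MM)) := by
    have hTU : (fr.cl u : MM) * T.Z = T.Z * (fr.cl u : MM) := by rw [← Units.val_mul, huZ, Units.val_mul]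
    have h1 : Sgn (T.comp (A : MM)) (T.comp (fr.cl u : MM)) := by
      have := Sgn.of_pm hw1
      rwa [Split.sub, T.pr_val hAc, T.pr_val huZ] at this
    have := T.mul_proj_eq (by rw [← Units.val_mul, hAc, Units.val_mul]) hTU h1
    rwa [T.proj_comm hTU, hP'eq] at this
  set c' : Matrix (SI m') (SI m') F := ((S.frame.cl z' : GL (SI m') F) : Matrix (SI m') (SI m') F) with hc'
  have hcompP : S.comp P' = (2 : F)⁻¹ • (1 + c') := by
    rw [hP', comp, Matrix.mul_smul, Matrix.smul_mul, Matrix.mul_add, Matrix.add_mul, Matrix.mul_one, S.KJ]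
    rw [hc', show S.frame.cl z' = S.pr (fr.cl z'') from rfl, S.pr_val (S.cl_comm_Z (S.emb_mem z').1)]
    rfl
  have hP'Z : P' * S.Z = S.Z * P' := by
    rw [hP', smul_mul_assoc, mul_smul_comm, add_mul, mul_add, one_mul, mul_one, hZ'Z]
  set φv := S.frame.cl (S.frame.act μ v) with hφv
  have hA : A = S.lift (S.frame.cl v) (μ * S.frame.cl v * μ⁻¹) := by
    rw [hAdef, hG', S.cl_emb_lift v, S.lift_inv, S.lift_mul, S.lift_mul, one_mul, inv_one, mul_one]
    rfl
  have hcompA : ∀ x y : GL (SI m') F, S.comp (S.lift x y : MM) = (x : Matrix (SI m') (SI m') F) := fun x y => by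
    rw [S.lift_val, S.comp_liftM]
  have hliftZ : ∀ x y : GL (SI m') F, (S.lift x y : MM) * S.Z = S.Z * (S.lift x y : MM) := fun x y => by
    rw [S.lift_val, S.liftM_Z]
  -- compress to the two parts of the first split
  have e1 : Sgn (((S.frame.cl v : GL (SI m') F) : Matrix (SI m') (SI m') F) * ((2 : F)⁻¹ • (1 + c')))
      (((2 : F)⁻¹ • (1 + c')) * S.comp (fr.cl u : MM)) := by
    rw [← hcompP, ← hcompA (S.frame.cl v) (μ * S.frame.cl v * μ⁻¹), ← hA,
      ← S.comp_mul (by rw [hA]; exact hliftZ _ _), ← S.comp_mul hP'Z]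
    rcases hsgn with e | e <;> rw [e]
    · exact .inl rfl
    · exact .inr (S.comp_neg _)
  have e2 : Sgn ((φv : Matrix (SI m') (SI m') F) * ((2 : F)⁻¹ • (1 + c')))
      (((2 : F)⁻¹ • (1 + c')) * S.comp (fr.cl u : MM)) := by
    have hXP : S.X * P' = P' * S.X := by
      rw [hP', mul_smul_comm, smul_mul_assoc, mul_add, add_mul, mul_one, one_mul, ← Units.val_mul,
        fr.commute_iff.2 (S.emb_mem z').2, Units.val_mul]
    have hXU : Sgn (S.X * (fr.cl u : MM) * S.X) (fr.cl u : MM) := by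
      have h := Sgn.of_pm ((fr.comm_pm S.x u).mul_right (fr.cl S.x))
      rw [mul_assoc (fr.cl u), fr.cl_sq_zero S.xQ, mul_one, Units.val_mul, Units.val_mul] at h
      exact h
    have hX : Sgn (S.X * ((A : MM)) * S.X * P') (P' * (fr.cl u : MM)) := by
      have h := (hsgn.mul_left S.X).mul_right S.X
      rw [Matrix.mul_assoc S.X ((A : MM)) S.X, Matrix.mul_assoc, Matrix.mul_assoc (A : MM), hXP,
        ← Matrix.mul_assoc (A : MM) P', ← Matrix.mul_assoc]
      refine h.trans ?_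
      rw [← Matrix.mul_assoc S.X P', hXP, Matrix.mul_assoc P', Matrix.mul_assoc P']
      exact hXU.mul_left P'
    rw [hA, S.lift_val, S.X_liftM, ← S.lift_val] at hX
    have h2 : Sgn (((μ * S.frame.cl v * μ⁻¹ : GL (SI m') F) : Matrix (SI m') (SI m') F) * ((2 : F)⁻¹ • (1 + c')))
        (((2 : F)⁻¹ • (1 + c')) * S.comp (fr.cl u : MM)) := by
      rw [← hcompP, ← hcompA (μ * S.frame.cl v * μ⁻¹) (S.frame.cl v), ← S.comp_mul (hliftZ _ _),
        ← S.comp_mul hP'Z]
      rcases hX with e | e <;> rw [e]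
      · exact .inl rfl
      · exact .inr (S.comp_neg _)
    exact (((Sgn.of_pm (S.frame.act_spec hμN v)).mul_right _).symm.trans h2)
  have hzQ' : S.frame.q.Q z' = 0 := hzQ
  have key : Sgn ((S.frame.cl (S.frame.act μ v + v) : GL (SI m') F).val * (1 + c')) (1 + c') := by
    have h3 := (Sgn.of_pm (S.frame.cl_mul (S.frame.act μ v) v)).mul_right ((2 : F)⁻¹ • (1 + c'))
    rw [Units.val_mul, Matrix.mul_assoc] at h3
    have h4 := h3.symm.trans (((e1.trans e2.symm)).mul_left (φv : Matrix (SI m') (SI m') F))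
    rw [← Matrix.mul_assoc (φv : Matrix (SI m') (SI m') F), ← Units.val_mul] at h4
    have h5 := h4.trans ((Sgn.of_pm (S.frame.cl_sq_pm (S.frame.act μ v))).mul_right _)
    rw [Units.val_one, Matrix.one_mul, Matrix.mul_smul] at h5
    rcases h5 with e | e
    · exact .inl (smul_right_injective _ (inv_ne_zero fr.two) e)
    · exact .inr (smul_right_injective _ (inv_ne_zero fr.two) (e.trans (smul_neg _ _).symm))
  rw [hμact] at key
  rcases S.frame.eq_zero_or_of_sgn hz0 hzQ' key with e | e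
  · exact hd0 e
  · exact hdz e

end Split

/-- Singular centralisers in a proper overgroup normalise. -/
theorem cent_or_full (fr : Frame k R) (hk : 3 ≤ k) (hR : R ≤ Cfsg.spGL m F) {M : Subgroup (GL (SI m) F)}
    (hbase : Frame.N R ⊓ Cfsg.spGL m F ≤ M) (hM : M ≤ Cfsg.spGL m F) (ih : Maxi F (k - 1))
    {z : W k} {g : GL (SI m) F} (hz0 : z ≠ 0) (hzQ : fr.q.Q z = 0) (hgM : g ∈ M)
    (hpm : PM (g * fr.cl z) (fr.cl z * g)) (hgN : g ∉ Frame.N R) : M = Cfsg.spGL m F := by
  obtain ⟨m', S, rfl⟩ := fr.exists_split hR hz0 hzQ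
  rcases hpm with h | h
  · exact S.cent_full hk hR hbase hM ih hgM h hgN
  · have hXN : fr.cl S.x ∈ Frame.N R := fr.cl_mem_N _
    refine S.cent_full hk hR hbase hM ih (M.mul_mem (hbase ⟨hXN, hR (fr.cl_mem _)⟩) hgM) ?_
      (fun hN => hgN ((Subgroup.mul_mem_cancel_left _ hXN).1 hN))
    rw [mul_assoc, h, mul_neg, ← mul_assoc, fr.anti (v := S.x) (w := S.z) (by rw [fr.q.B_symm]; exact S.zx),
      neg_mul, neg_neg, mul_assoc]

end Cfsg.Agent.H57.CSix
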