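import Cfsg.Agent.H57.CSix.Model

/-!
The dihedral group of two involutions, up to sign.
-/

set_option autoImplicit false
set_option linter.unusedSectionVars false

namespace Cfsg.Agent.H57.CSix



variable {ι : Type} [Fintype ι] [DecidableEq ι] {F : Type*} [Field F] [Fintype F]

theorem conj_zpow_invol {G : Type*} [Group G] {X a : G} (h : X * a * X⁻¹ = a⁻¹) (i : ℤ) :
    X * a ^ i = a ^ (-i) * X := by
  rw [← mul_inv_eq_iff_eq_mul, ← conj_zpow, h, zpow_neg, inv_zpow]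

/-- Two involutions are conjugate up to sign, or some non-trivial element centralises both up to sign and
moves each of them to a conjugate of one of them. -/
theorem dihedral {M : Subgroup (GL ι F)} {X Y : GL ι F} (hX : X ∈ M) (hY : Y ∈ M) (hXX : X * X = 1)
    (hYY : Y * Y = 1) :
    (∃ c ∈ M, PM (c * X * c⁻¹) Y ∧ ∀ e, PM (e * X) (X * e) → PM (e * Y) (Y * e) → PM (e * c) (c * e)) ∨
    (∃ w ∈ M, ¬ PM w 1 ∧ PM (w * w) 1 ∧ PM (X * w) (w * X) ∧ PM (Y * w) (w * Y) ∧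
      (∀ e, PM (e * X) (X * e) → PM (e * Y) (Y * e) → PM (e * w) (w * e)) ∧
      (((∃ h ∈ M, X * w = h * X * h⁻¹) ∧ ∃ h ∈ M, Y * w = h * Y * h⁻¹) ∨
        ((∃ h ∈ M, X * w = h * Y * h⁻¹) ∧ ∃ h ∈ M, Y * w = h * X * h⁻¹))) := by
  classical
  set a := X * Y with ha
  have haM : a ∈ M := M.mul_mem hX hY
  have hXi : X⁻¹ = X := inv_eq_of_mul_eq_one_right hXX
  have hYi : Y⁻¹ = Y := inv_eq_of_mul_eq_one_right hYY
  have hXa : X * a * X⁻¹ = a⁻¹ := by
    rw [ha, mul_inv_rev, hYi, ← mul_assoc X X, hXX, one_mul]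
  have hYa : Y * a * Y⁻¹ = a⁻¹ := by
    rw [ha, mul_inv_rev, hYi, hXi, mul_assoc, mul_assoc X, hYY, mul_one]
  have hXz := conj_zpow_invol hXa
  have hYz := conj_zpow_invol hYa
  have hex : ∃ n : ℕ, 0 < n ∧ PM (a ^ n) 1 :=
    ⟨orderOf a, orderOf_pos a, .inl (pow_orderOf_eq_one a)⟩
  set n := Nat.find hex with hn
  obtain ⟨hn0, hn1⟩ := Nat.find_spec hex
  have hcomm : ∀ e, PM (e * X) (X * e) → PM (e * Y) (Y * e) → ∀ i : ℕ, PM (e * a ^ i) (a ^ i * e) :=
    fun e h1 h2 i => (h1.comm_mul h2).comm_pow i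
  rcases Nat.even_or_odd' n with ⟨j, hj | hj⟩
  · -- even order
    right
    have hj0 : 0 < j := by omega
    have hw1 : ¬ PM (a ^ j) 1 := fun h => by
      have := Nat.find_min' hex ⟨hj0, h⟩
      omega
    have hww : PM (a ^ j * a ^ j) 1 := by rw [← pow_add, ← two_mul, ← hj, hn]; exact hn1
    have hinv : PM (a ^ j)⁻¹ (a ^ j) := by
      have := hww.symm.mul_left (a ^ j)⁻¹
      rwa [inv_mul_cancel_left, mul_one] at this
    have hXw : X * a ^ j = (a ^ j)⁻¹ * X := by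
      have := hXz j
      rwa [zpow_natCast, zpow_neg, zpow_natCast] at this
    have hYw : Y * a ^ j = (a ^ j)⁻¹ * Y := by
      have := hYz j
      rwa [zpow_natCast, zpow_neg, zpow_natCast] at this
    refine ⟨a ^ j, M.pow_mem haM j, hw1, hww, by rw [hXw]; exact hinv.mul_right X,
      by rw [hYw]; exact hinv.mul_right Y, fun e h1 h2 => hcomm e h1 h2 j, ?_⟩
    rcases Nat.even_or_odd' j with ⟨i, hi | hi⟩
    · have key : ∀ Z : GL ι F, (∀ l : ℤ, Z * a ^ l = a ^ (-l) * Z) →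
          Z * a ^ j = a ^ (-(i : ℤ)) * Z * (a ^ (-(i : ℤ)))⁻¹ := fun Z hZ => by
        rw [← zpow_neg, neg_neg, ← hZ i, mul_assoc, ← _root_.zpow_add, hi, ← zpow_natCast]
        congr 2; push_cast; ring
      exact .inl ⟨⟨_, M.zpow_mem haM _, key X hXz⟩, ⟨_, M.zpow_mem haM _, key Y hYz⟩⟩
    · have key : ∀ Z : GL ι F, (∀ l : ℤ, Z * a ^ l = a ^ (-l) * Z) →
          Z * a ^ j = a ^ (-(i : ℤ)) * (Z * a) * (a ^ (-(i : ℤ)))⁻¹ := fun Z hZ => by
        rw [← zpow_neg, neg_neg, ← mul_assoc, ← hZ i, mul_assoc, mul_assoc, ← zpow_one_add, ← _root_.zpow_add, hi,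
          ← zpow_natCast]
        congr 2; push_cast; ring
      refine .inr ⟨⟨_, M.zpow_mem haM (-(i : ℤ)), ?_⟩,
        ⟨a ^ (-(i : ℤ)) * Y, M.mul_mem (M.zpow_mem haM _) hY, ?_⟩⟩
      · rw [key X hXz, show X * a = Y by rw [ha, ← mul_assoc, hXX, one_mul]]
      · rw [key Y hYz, ha]
        simp only [mul_inv_rev, mul_assoc, hYi]
  · -- odd order
    left
    refine ⟨a ^ j, M.pow_mem haM j, ?_, fun e h1 h2 => hcomm e h1 h2 j⟩
    have e1 : a ^ j * X * (a ^ j)⁻¹ = a ^ n * (a⁻¹ * X) := by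
      rw [mul_assoc, ← zpow_natCast a j, ← zpow_neg, hXz (-(j : ℤ)), neg_neg, ← mul_assoc, ← mul_assoc, hj,
        zpow_natCast, ← pow_add, pow_succ, mul_inv_cancel_right, two_mul]
    rw [e1, show a⁻¹ * X = Y by rw [ha, mul_inv_rev, inv_mul_cancel_right, hYi]]
    simpa using hn1.mul_right Y

end Cfsg.Agent.H57.CSix
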