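import Mathlib.LinearAlgebra.BilinearForm.Orthogonal
import Mathlib.LinearAlgebra.FiniteDimensional.Lemmas
import Mathlib.Algebra.Module.ZMod
import Mathlib.LinearAlgebra.Matrix.NonsingularInverse
import Mathlib.Algebra.CharP.Two
import Mathlib.Algebra.Field.ZMod
import Mathlib.Tactic.LinearCombination

/-!
Quadratic forms of minus type on spaces over the field with two elements, and their involutive isometries.
-/

set_option autoImplicit false

namespace Cfsg.Agent.H57.CSix

open Module

/-- The vector space of dimension 2k over the field with two elements. -/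
abbrev W (k : ℕ) : Type := Fin (2 * k) → ZMod 2

theorem z2_cases (x : ZMod 2) : x = 0 ∨ x = 1 := by
  revert x; decide

theorem z2_self (x : ZMod 2) : x + x = 0 := CharTwo.add_self_eq_zero x

theorem z2_ne_zero {x : ZMod 2} (h : x ≠ 0) : x = 1 := (z2_cases x).resolve_left h

theorem z2_ne_one {x : ZMod 2} (h : x ≠ 1) : x = 0 := (z2_cases x).resolve_right h

section Vectors

variable {V : Type*} [AddCommGroup V] [Module (ZMod 2) V]

theorem vadd_self (u : V) : u + u = 0 := by
  rw [← two_smul (ZMod 2) u, show (2 : ZMod 2) = 0 from rfl, zero_smul]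

theorem vadd_eq_zero {u v : V} (h : u + v = 0) : u = v := by
  have := congrArg (· + v) h
  simpa [add_assoc, vadd_self] using this

theorem vadd_cancel (u v : V) : u + (u + v) = v := by rw [← add_assoc, vadd_self, zero_add]

theorem vadd_cancel' (u v : V) : u + v + v = u := by rw [add_assoc, vadd_self, add_zero]

theorem smul_cases (c : ZMod 2) (v : V) : c • v = 0 ∨ c • v = v := by
  rcases z2_cases c with rfl | rfl
  · exact .inl (zero_smul _ _)
  · exact .inr (one_smul _ _)

theorem mem_span_one {a x : V} : x ∈ Submodule.span (ZMod 2) ({a} : Set V) ↔ x = 0 ∨ x = a := by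
  rw [Submodule.mem_span_singleton]
  constructor
  · rintro ⟨c, rfl⟩
    exact smul_cases c a
  · rintro (rfl | rfl)
    exacts [⟨0, zero_smul _ _⟩, ⟨1, one_smul _ _⟩]

theorem mem_span_two {a b x : V} :
    x ∈ Submodule.span (ZMod 2) ({a, b} : Set V) ↔ x = 0 ∨ x = a ∨ x = b ∨ x = a + b := by
  rw [Submodule.mem_span_pair]
  constructor
  · rintro ⟨c, d, rfl⟩
    rcases z2_cases c with rfl | rfl <;> rcases z2_cases d with rfl | rfl <;> simp
  · rintro (rfl | rfl | rfl | rfl)
    exacts [⟨0, 0, by simp⟩, ⟨1, 0, by simp⟩, ⟨0, 1, by simp⟩, ⟨1, 1, by simp⟩]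

theorem finrank_span_two {a b : V} (ha : a ≠ 0) (hb : b ≠ 0) (hab : a ≠ b) :
    finrank (ZMod 2) (Submodule.span (ZMod 2) ({a, b} : Set V)) = 2 := by
  have hli : LinearIndependent (ZMod 2) ![a, b] := by
    rw [linearIndependent_fin2]
    refine ⟨by simpa using hb, fun c => ?_⟩
    rcases smul_cases c b with h | h <;> simp [h, ha.symm, hab.symm]
  have h := finrank_span_eq_card hli
  rw [Matrix.range_cons, Matrix.range_cons, Matrix.range_empty, Set.union_empty, Set.singleton_union,
    Fintype.card_fin] at h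
  exact h

end Vectors

/-- A symmetric matrix over the field with two elements and its inverse: the value on the diagonal vector. -/
theorem diag_form_eq_card {ι : Type*} [Fintype ι] [DecidableEq ι] (G H : Matrix ι ι (ZMod 2))
    (hG : G.IsSymm) (hH : H.IsSymm) (hGH : G * H = 1) :
    ∑ i, ∑ j, G i i * H i j * G j j = (Fintype.card ι : ZMod 2) := by
  classical
  have key : ∀ f : ι → ι → ZMod 2, (∀ i j, f i j = f j i) → ∑ i, ∑ j, f i j = ∑ i, f i i := by
    intro f hf
    rw [← Fintype.sum_prod_type', ← Finset.sum_filter_add_sum_filter_not Finset.univ (fun p : ι × ι => p.1 = p.2)]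
    have h1 : ∑ p ∈ Finset.univ.filter (fun p : ι × ι => ¬ p.1 = p.2), f p.1 p.2 = 0 := by
      refine Finset.sum_involution (fun p _ => p.swap) (fun p _ => ?_) (fun p hp _ => ?_) (fun p hp => ?_)
        (fun p _ => rfl)
      · simp only [Prod.fst_swap, Prod.snd_swap, hf p.2 p.1]
        exact z2_self _
      · simp only [Finset.mem_filter] at hp
        exact fun e => hp.2 (by simpa using (congrArg Prod.fst e).symm)
      · simp only [Finset.mem_filter, Finset.mem_univ, true_and] at hp ⊢
        exact fun e => hp e.symm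
    rw [h1, add_zero]
    refine Finset.sum_bij' (fun p _ => p.1) (fun i _ => (i, i)) (by simp) (by simp) ?_ (by simp) ?_
    · intro p hp
      simp only [Finset.mem_filter] at hp
      exact Prod.ext rfl hp.2
    · intro p hp
      simp only [Finset.mem_filter] at hp
      rw [hp.2]
  rw [key (fun i j => G i i * H i j * G j j) fun i j => by
    show G i i * H i j * G j j = G j j * H j i * G i i
    rw [hH.apply j i]; ring]
  calc ∑ i, G i i * H i i * G i i = ∑ i, G i i * H i i := Finset.sum_congr rfl fun i _ => by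
        rcases z2_cases (G i i) with h | h <;> simp [h]
    _ = ∑ i, ∑ j, G i j * H i j := (key (fun i j => G i j * H i j) fun i j => by
        show G i j * H i j = G j i * H j i
        rw [hH.apply j i, hG.apply j i]).symm
    _ = ∑ i, (G * H) i i := Finset.sum_congr rfl fun i _ => by
        rw [Matrix.mul_apply]
        exact Finset.sum_congr rfl fun j _ => by rw [hH.apply i j]
    _ = _ := by simp [hGH]

/-- A non-degenerate quadratic form of minus type on a space of dimension 2k. -/
structure QForm (k : ℕ) where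
  B : LinearMap.BilinForm (ZMod 2) (W k)
  Q : W k → ZMod 2
  Q_add : ∀ u v, Q (u + v) = Q u + Q v + B u v
  nondeg : B.Nondegenerate
  minus : ∀ L : Submodule (ZMod 2) (W k), (∀ x ∈ L, Q x = 0) → finrank (ZMod 2) L < k

namespace QForm

variable {k : ℕ} (q : QForm k)

theorem Q_zero : q.Q 0 = 0 := by
  have := q.Q_add 0 0
  simp only [add_zero, map_zero, z2_self] at this
  exact this

theorem B_self (u : W k) : q.B u u = 0 := by
  have := q.Q_add u u
  rw [vadd_self, q.Q_zero, z2_self, zero_add] at this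
  exact this.symm

theorem B_symm (u v : W k) : q.B u v = q.B v u := by
  have h1 := q.Q_add u v
  have h2 := q.Q_add v u
  rw [add_comm v u, h1, add_comm (q.Q v)] at h2
  exact add_left_cancel h2

theorem B_isRefl : q.B.IsRefl := fun u v h => by
  show q.B v u = 0
  rw [q.B_symm]; exact h

theorem B_eq_Q (u v : W k) : q.B u v = q.Q (u + v) + q.Q u + q.Q v := by
  linear_combination -(q.Q_add u v) - z2_self (q.Q u) - z2_self (q.Q v)

theorem Q_add_of_orth {u v : W k} (h : q.B u v = 0) : q.Q (u + v) = q.Q u + q.Q v := by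
  rw [q.Q_add, h, add_zero]

theorem exists_B_one {x : W k} (hx : x ≠ 0) : ∃ y, q.B x y = 1 := by
  by_contra h
  push Not at h
  exact hx (q.nondeg.1 x fun y => z2_ne_one (h y))

theorem eq_of_B_eq {a b : W k} (h : ∀ w, q.B a w = q.B b w) : a = b :=
  vadd_eq_zero (q.nondeg.1 _ fun w => by rw [map_add, LinearMap.add_apply, h, z2_self])

/-- The orthogonal of a subspace. -/
def orth (U : Submodule (ZMod 2) (W k)) : Submodule (ZMod 2) (W k) := q.B.orthogonal U

theorem mem_orth {U : Submodule (ZMod 2) (W k)} {x : W k} : x ∈ q.orth U ↔ ∀ u ∈ U, q.B u x = 0 :=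
  LinearMap.BilinForm.mem_orthogonal_iff

theorem mem_orth' {U : Submodule (ZMod 2) (W k)} {x : W k} : x ∈ q.orth U ↔ ∀ u ∈ U, q.B x u = 0 := by
  simp only [q.mem_orth, q.B_symm x]

theorem finrank_W : finrank (ZMod 2) (W k) = 2 * k := by simp

theorem finrank_orth (U : Submodule (ZMod 2) (W k)) :
    finrank (ZMod 2) (q.orth U) + finrank (ZMod 2) U = 2 * k := by
  have h := LinearMap.BilinForm.finrank_orthogonal q.nondeg U
  have h2 := Submodule.finrank_le U
  rw [finrank_W] at h h2
  unfold orth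
  omega

theorem orth_orth (U : Submodule (ZMod 2) (W k)) : q.orth (q.orth U) = U :=
  LinearMap.BilinForm.orthogonal_orthogonal q.nondeg q.B_isRefl U

theorem orth_le {U V : Submodule (ZMod 2) (W k)} (h : U ≤ V) : q.orth V ≤ q.orth U := fun x hx =>
  q.mem_orth.2 fun u hu => q.mem_orth.1 hx u (h hu)

theorem mem_orth_span {s : Set (W k)} {x : W k} :
    x ∈ q.orth (Submodule.span (ZMod 2) s) ↔ ∀ u ∈ s, q.B u x = 0 := by
  rw [q.mem_orth]
  refine ⟨fun h u hu => h u (Submodule.subset_span hu), fun h u hu => ?_⟩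
  induction hu using Submodule.span_induction with
  | mem u hu => exact h u hu
  | zero => simp
  | add u v _ _ hu hv => rw [map_add, LinearMap.add_apply, hu, hv, add_zero]
  | smul c u _ hu => rw [map_smul, LinearMap.smul_apply, hu, smul_zero]

theorem mem_orth_one {a x : W k} : x ∈ q.orth (Submodule.span (ZMod 2) {a}) ↔ q.B a x = 0 := by
  rw [q.mem_orth_span]; simp

theorem mem_orth_two {a b x : W k} :
    x ∈ q.orth (Submodule.span (ZMod 2) {a, b}) ↔ q.B a x = 0 ∧ q.B b x = 0 := by
  rw [q.mem_orth_span]; simp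

theorem finrank_orth_one (a : W k) :
    2 * k ≤ finrank (ZMod 2) (q.orth (Submodule.span (ZMod 2) ({a} : Set (W k)))) + 1 := by
  have h := q.finrank_orth (Submodule.span (ZMod 2) ({a} : Set (W k)))
  have h2 := finrank_span_le_card (R := ZMod 2) ({a} : Set (W k))
  simp at h2
  omega

theorem finrank_orth_two (a b : W k) :
    2 * k ≤ finrank (ZMod 2) (q.orth (Submodule.span (ZMod 2) ({a, b} : Set (W k)))) + 2 := by
  classical
  have h := q.finrank_orth (Submodule.span (ZMod 2) ({a, b} : Set (W k)))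
  have h2 : finrank (ZMod 2) (Submodule.span (ZMod 2) ({a, b} : Set (W k))) ≤ 2 := by
    refine (finrank_span_le_card (R := ZMod 2) ({a, b} : Set (W k))).trans ?_
    rw [Set.toFinset_insert, Set.toFinset_singleton]
    exact Finset.card_le_two
  omega

/-- Two independent functionals take any values. -/
theorem exists_B_one_zero {a b : W k} (ha : a ≠ 0) (hab : a ≠ b) : ∃ e, q.B a e = 1 ∧ q.B b e = 0 := by
  by_contra h
  push Not at h
  have h1 : a ∈ q.orth (q.orth (Submodule.span (ZMod 2) {b})) :=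
    q.mem_orth'.2 fun x hx => z2_ne_one fun h' => h x h' (q.mem_orth_one.1 hx)
  rw [q.orth_orth, mem_span_one] at h1
  exact h1.elim ha hab

/-- A subspace of dimension at least three has a non-zero singular vector. -/
theorem exists_singular {U : Submodule (ZMod 2) (W k)} (hU : 3 ≤ finrank (ZMod 2) U) :
    ∃ u ∈ U, u ≠ 0 ∧ q.Q u = 0 := by
  by_contra h
  push Not at h
  have hone : ∀ u ∈ U, u ≠ 0 → q.Q u = 1 := fun u hu h0 => z2_ne_zero (h u hu h0)
  obtain ⟨v, hv⟩ := exists_linearIndependent_of_le_finrank hU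
  have hlin := Fintype.linearIndependent_iff.1 hv
  set a := (v 0).1 with ha'
  set b := (v 1).1 with hb'
  set c := (v 2).1 with hc'
  have hkey : ∀ r s t : ZMod 2, r • a + s • b + t • c = 0 → r = 0 ∧ s = 0 ∧ t = 0 := by
    intro r s t e
    have h0 := hlin ![r, s, t] (Subtype.ext (by simpa [Fin.sum_univ_three] using e))
    exact ⟨h0 0, h0 1, h0 2⟩
  have hab : a + b ≠ 0 := fun e => one_ne_zero (hkey 1 1 0 (by simpa using e)).1
  have hac : a + c ≠ 0 := fun e => one_ne_zero (hkey 1 0 1 (by simpa using e)).1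
  have hbc : b + c ≠ 0 := fun e => one_ne_zero (hkey 0 1 1 (by simpa using e)).2.1
  have habc : a + (b + c) ≠ 0 := fun e => one_ne_zero (hkey 1 1 1 (by simpa [add_assoc] using e)).1
  have ha0 : a ≠ 0 := fun e => one_ne_zero (hkey 1 0 0 (by simp [e])).1
  have hb0 : b ≠ 0 := fun e => one_ne_zero (hkey 0 1 0 (by simp [e])).2.1
  have hc0 : c ≠ 0 := fun e => one_ne_zero (hkey 0 0 1 (by simp [e])).2.2
  have h1 := q.B_eq_Q a b
  have h2 := q.B_eq_Q a c
  have h3 := q.B_eq_Q a (b + c)
  rw [hone _ (U.add_mem (v 0).2 (v 1).2) hab, hone _ (v 0).2 ha0, hone _ (v 1).2 hb0] at h1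
  rw [hone _ (U.add_mem (v 0).2 (v 2).2) hac, hone _ (v 0).2 ha0, hone _ (v 2).2 hc0] at h2
  rw [hone _ (U.add_mem (v 0).2 (U.add_mem (v 1).2 (v 2).2)) habc, hone _ (v 0).2 ha0,
    hone _ (U.add_mem (v 1).2 (v 2).2) hbc, map_add, h1, h2] at h3
  revert h3; decide

theorem exists_nonsingular {U : Submodule (ZMod 2) (W k)} (hU : k ≤ finrank (ZMod 2) U) :
    ∃ u ∈ U, q.Q u = 1 := by
  by_contra h
  push Not at h
  have := q.minus U fun x hx => z2_ne_one (h x hx)
  omega

/-- A subspace on which the bilinear form vanishes. -/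
def Isotropic (U : Submodule (ZMod 2) (W k)) : Prop := ∀ u ∈ U, ∀ v ∈ U, q.B u v = 0

/-- A totally singular subspace. -/
def Singular (U : Submodule (ZMod 2) (W k)) : Prop := ∀ u ∈ U, q.Q u = 0

theorem Singular.isotropic {q : QForm k} {U : Submodule (ZMod 2) (W k)} (h : q.Singular U) : q.Isotropic U :=
  fun u hu v hv => by rw [q.B_eq_Q, h _ (U.add_mem hu hv), h u hu, h v hv]; rfl

theorem isotropic_iff {U : Submodule (ZMod 2) (W k)} : q.Isotropic U ↔ U ≤ q.orth U :=
  ⟨fun h u hu => q.mem_orth.2 fun v hv => h v hv u hu, fun h u hu v hv => q.mem_orth.1 (h hv) u hu⟩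

theorem Isotropic.finrank_le {q : QForm k} {U : Submodule (ZMod 2) (W k)} (h : q.Isotropic U) :
    finrank (ZMod 2) U ≤ k := by
  have h1 := Submodule.finrank_mono (q.isotropic_iff.1 h)
  have h2 := q.finrank_orth U
  omega

theorem Isotropic.mono {q : QForm k} {U V : Submodule (ZMod 2) (W k)} (h : q.Isotropic U) (hVU : V ≤ U) :
    q.Isotropic V := fun u hu v hv => h u (hVU hu) v (hVU hv)

theorem Isotropic.sup {q : QForm k} {U V : Submodule (ZMod 2) (W k)} (hU : q.Isotropic U) (hV : q.Isotropic V)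
    (hUV : ∀ u ∈ U, ∀ v ∈ V, q.B u v = 0) : q.Isotropic (U ⊔ V) := by
  intro x hx y hy
  obtain ⟨a, ha, b, hb, rfl⟩ := Submodule.mem_sup.1 hx
  obtain ⟨c, hc, d, hd, rfl⟩ := Submodule.mem_sup.1 hy
  simp only [map_add, LinearMap.add_apply, hU a ha c hc, hUV a ha d hd, q.B_symm b c, hUV c hc b hb,
    hV b hb d hd, add_zero]

theorem Singular.sup {q : QForm k} {U V : Submodule (ZMod 2) (W k)} (hU : q.Singular U) (hV : q.Singular V)
    (hUV : ∀ u ∈ U, ∀ v ∈ V, q.B u v = 0) : q.Singular (U ⊔ V) := by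
  intro x hx
  obtain ⟨a, ha, b, hb, rfl⟩ := Submodule.mem_sup.1 hx
  rw [q.Q_add_of_orth (hUV a ha b hb), hU a ha, hV b hb, add_zero]

/-- An isotropic subspace of dimension at least two has a non-zero singular vector. -/
theorem Isotropic.exists_singular {q : QForm k} {U : Submodule (ZMod 2) (W k)} (h : q.Isotropic U)
    (hU : 2 ≤ finrank (ZMod 2) U) : ∃ u ∈ U, u ≠ 0 ∧ q.Q u = 0 := by
  obtain ⟨a, ha, ha0⟩ := U.ne_bot_iff.1 (fun e => by rw [e, finrank_bot] at hU; omega)
  have hne : ¬ U ≤ Submodule.span (ZMod 2) {a} := fun hle => by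
    have := Submodule.finrank_mono hle
    rw [finrank_span_singleton (K := ZMod 2) ha0] at this
    omega
  obtain ⟨b, hb, hba⟩ := SetLike.not_le_iff_exists.1 hne
  rw [mem_span_one, not_or] at hba
  rcases z2_cases (q.Q a) with h1 | h1
  · exact ⟨a, ha, ha0, h1⟩
  rcases z2_cases (q.Q b) with h2 | h2
  · exact ⟨b, hb, hba.1, h2⟩
  refine ⟨a + b, U.add_mem ha hb, fun e => hba.2 (vadd_eq_zero e).symm, ?_⟩
  rw [q.Q_add_of_orth (h a ha b hb), h1, h2]
  rfl

/-- A totally singular subspace of dimension k - 1 contains every singular vector orthogonal to it. -/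
theorem Singular.mem_of_orth {q : QForm k} {U : Submodule (ZMod 2) (W k)} (hU : q.Singular U)
    (hdim : k ≤ finrank (ZMod 2) U + 1) {z : W k} (hz : z ∈ q.orth U) (hzQ : q.Q z = 0) : z ∈ U := by
  by_contra hn
  have hz0 : z ≠ 0 := fun e => hn (e ▸ U.zero_mem)
  have hts : q.Singular (U ⊔ Submodule.span (ZMod 2) {z}) := hU.sup
    (fun x hx => by rcases mem_span_one.1 hx with rfl | rfl <;> [exact q.Q_zero; exact hzQ])
    fun u hu v hv => by
      rcases mem_span_one.1 hv with rfl | rfl
      · simp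
      · exact q.mem_orth.1 hz u hu
  have h1 := q.minus _ hts
  have h2 : finrank (ZMod 2) U < finrank (ZMod 2) ↥(U ⊔ Submodule.span (ZMod 2) {z}) :=
    Submodule.finrank_lt_finrank_of_lt (lt_of_le_of_ne le_sup_left fun e => hn (by
      rw [e]; exact Submodule.mem_sup_right (Submodule.mem_span_singleton_self z)))
  omega

/-- An isometry. -/
def Iso (g : W k →ₗ[ZMod 2] W k) : Prop := ∀ x, q.Q (g x) = q.Q x

theorem Iso.B_map {q : QForm k} {g : W k →ₗ[ZMod 2] W k} (h : q.Iso g) (x y : W k) :
    q.B (g x) (g y) = q.B x y := by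
  rw [q.B_eq_Q, q.B_eq_Q x y, ← map_add, h, h, h]

theorem Iso.injective {q : QForm k} {g : W k →ₗ[ZMod 2] W k} (h : q.Iso g) : Function.Injective g := by
  intro a b e
  exact q.eq_of_B_eq fun w => by rw [← h.B_map a w, e, h.B_map]

/-- The difference of a map and the identity. -/
def dif (g : W k →ₗ[ZMod 2] W k) : W k →ₗ[ZMod 2] W k := g + LinearMap.id

theorem dif_apply (g : W k →ₗ[ZMod 2] W k) (x : W k) : dif g x = g x + x := rfl

theorem apply_eq_dif (g : W k →ₗ[ZMod 2] W k) (x : W k) : g x = dif g x + x := by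
  rw [dif_apply, vadd_cancel']

theorem mem_ker_dif {g : W k →ₗ[ZMod 2] W k} {x : W k} : x ∈ LinearMap.ker (dif g) ↔ g x = x := by
  rw [LinearMap.mem_ker, dif_apply]
  exact ⟨vadd_eq_zero, fun e => by rw [e, vadd_self]⟩

theorem Iso.Q_dif {q : QForm k} {g : W k →ₗ[ZMod 2] W k} (h : q.Iso g) (x : W k) :
    q.Q (dif g x) = q.B x (dif g x) := by
  rw [dif_apply, q.Q_add, h, z2_self, zero_add, map_add, q.B_self, add_zero, q.B_symm]

/-- An involutive isometry. -/
structure Invol (g : W k →ₗ[ZMod 2] W k) : Prop where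
  iso : q.Iso g
  sq : ∀ x, g (g x) = x

variable {q} {g : W k →ₗ[ZMod 2] W k}

theorem Invol.B_dif (h : q.Invol g) (x y : W k) : q.B (dif g x) y = q.B x (dif g y) := by
  rw [dif_apply, dif_apply, map_add, map_add, LinearMap.add_apply]
  congr 1
  conv_rhs => rw [← h.iso.B_map, h.sq]

theorem Invol.range_le_ker (h : q.Invol g) : LinearMap.range (dif g) ≤ LinearMap.ker (dif g) := by
  rintro _ ⟨x, rfl⟩
  rw [mem_ker_dif, dif_apply, map_add, h.sq, add_comm]

theorem Invol.ker_eq (h : q.Invol g) : LinearMap.ker (dif g) = q.orth (LinearMap.range (dif g)) := by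
  ext y
  rw [LinearMap.mem_ker, q.mem_orth]
  constructor
  · rintro hy _ ⟨x, rfl⟩
    rw [h.B_dif, hy, map_zero]
  · intro hy
    refine q.eq_of_B_eq fun w => ?_
    rw [h.B_dif, q.B_symm, hy _ ⟨w, rfl⟩]
    simp

theorem Invol.isotropic (h : q.Invol g) : q.Isotropic (LinearMap.range (dif g)) :=
  q.isotropic_iff.2 (h.range_le_ker.trans h.ker_eq.le)

theorem Invol.finrank_ker (h : q.Invol g) :
    finrank (ZMod 2) (LinearMap.ker (dif g)) + finrank (ZMod 2) (LinearMap.range (dif g)) = 2 * k := by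
  rw [h.ker_eq]; exact q.finrank_orth _

/-- An invariant subspace of dimension at least four has a fixed non-zero singular vector. -/
theorem Invol.exists_fixed_singular (h : q.Invol g) {U : Submodule (ZMod 2) (W k)}
    (hU : ∀ x ∈ U, g x ∈ U) (h4 : 4 ≤ finrank (ZMod 2) U) :
    ∃ y ∈ U, y ≠ 0 ∧ q.Q y = 0 ∧ g y = y := by
  let φ : U →ₗ[ZMod 2] W k := (dif g).domRestrict U
  have hrk := LinearMap.finrank_range_add_finrank_ker φ
  have hE : finrank (ZMod 2) (LinearMap.ker φ) = finrank (ZMod 2) ↥(U ⊓ LinearMap.ker (dif g)) := by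
    have : (LinearMap.ker φ).map U.subtype = U ⊓ LinearMap.ker (dif g) := by
      rw [show LinearMap.ker φ = (LinearMap.ker (dif g)).comap U.subtype from LinearMap.ker_comp _ _,
        Submodule.map_comap_subtype]
    rw [← this, Submodule.finrank_map_subtype_eq]
  by_cases h2 : 2 ≤ finrank (ZMod 2) (LinearMap.range φ)
  · obtain ⟨y, hy, hy0, hyQ⟩ := (h.isotropic.mono (show LinearMap.range φ ≤ LinearMap.range (dif g) by
      rintro _ ⟨x, rfl⟩; exact ⟨x.1, rfl⟩)).exists_singular h2
    obtain ⟨x, rfl⟩ := hy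
    refine ⟨φ x, ?_, hy0, hyQ, mem_ker_dif.1 (h.range_le_ker ⟨x.1, rfl⟩)⟩
    exact U.add_mem (hU _ x.2) x.2
  · obtain ⟨y, hy, hy0, hyQ⟩ := q.exists_singular (U := U ⊓ LinearMap.ker (dif g)) (by omega)
    exact ⟨y, hy.1, hy0, hyQ, mem_ker_dif.1 hy.2⟩

/-- The range of an involution all of whose fixed singular vectors are alike. -/
theorem Invol.allowed (h : q.Invol g)
    (hcr : ∀ y z, y ∈ LinearMap.range (dif g) → y ≠ 0 → q.Q y = 0 → g z = z → q.Q z = 0 →
      z ∈ LinearMap.range (dif g))
    (h2 : 2 ≤ finrank (ZMod 2) (LinearMap.range (dif g))) :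
    k ≤ finrank (ZMod 2) (LinearMap.range (dif g)) + 1 ∧
      (finrank (ZMod 2) (LinearMap.range (dif g)) < k → q.Singular (LinearMap.range (dif g))) := by
  set I := LinearMap.range (dif g) with hI
  obtain ⟨y, hy, hy0, hyQ⟩ := h.isotropic.exists_singular h2
  have hall : ∀ z ∈ LinearMap.ker (dif g), q.Q z = 0 → z ∈ I := fun z hz hzQ =>
    hcr y z hy hy0 hyQ (mem_ker_dif.1 hz) hzQ
  have hker := h.finrank_ker
  rw [← hI] at hker
  have hts : finrank (ZMod 2) I < k → q.Singular I := by
    intro hlt u hu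
    by_contra hu'
    obtain ⟨v, hv, hvI⟩ := SetLike.not_le_iff_exists.1 (show ¬ LinearMap.ker (dif g) ≤ I from fun hle => by
      have := Submodule.finrank_mono hle; omega)
    rcases z2_cases (q.Q v) with hv0 | hv1
    · exact hvI (hall v hv hv0)
    · have hmem : v + u ∈ LinearMap.ker (dif g) := Submodule.add_mem _ hv (h.range_le_ker hu)
      have hQ : q.Q (v + u) = 0 := by
        rw [q.Q_add_of_orth (by rw [q.B_symm]; exact q.mem_orth.1 (h.ker_eq ▸ hv) u hu), hv1, z2_ne_zero hu']
        rfl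
      exact hvI (by simpa [vadd_cancel'] using I.add_mem (hall _ hmem hQ) hu)
  refine ⟨?_, hts⟩
  by_contra hlt
  obtain ⟨C, hC⟩ := Submodule.exists_isCompl (Submodule.comap (LinearMap.ker (dif g)).subtype I)
  have hdim := Submodule.finrank_add_eq_of_isCompl hC
  rw [(Submodule.comapSubtypeEquivOfLe h.range_le_ker).finrank_eq, ← hI] at hdim
  obtain ⟨z, hz, hz0, hzQ⟩ := q.exists_singular (U := C.map (LinearMap.ker (dif g)).subtype) (by
    rw [Submodule.finrank_map_subtype_eq]; omega)
  obtain ⟨z', hz', rfl⟩ := hz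
  have := Submodule.disjoint_def.1 hC.disjoint z' (hall _ z'.2 hzQ) hz'
  exact hz0 (by simp [this])

end QForm

end Cfsg.Agent.H57.CSix
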