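import Cfsg.Agent.H57.CSix.SubFrame
import Cfsg.Agent.H39.SympGeoSmall
import Cfsg.Agent.Symplectic.Simple
import Cfsg.Agent.S5976
import Cfsg.Agent.H57.Frame5.Full

/-!
A singular centraliser whose projection is not in the smaller normaliser gives the whole symplectic group.
-/

set_option autoImplicit false
set_option linter.unusedSectionVars false

namespace Cfsg.Agent.H57.CSix

open Matrix Module

variable {F : Type*} [Field F] [Fintype F] {m : ℕ} {k : ℕ}
variable {R : Subgroup (GL (SI m) F)}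

/-- Maximality of the normaliser at a level, in every symplectic dimension. -/
def Maxi (F : Type*) [Field F] [Fintype F] (k : ℕ) : Prop :=
  ∀ (m : ℕ) (R : Subgroup (GL (SI m) F)), Nonempty (Frame k R) → R ≤ Cfsg.spGL m F →
    ∀ M : Subgroup (GL (SI m) F), Frame.N R ⊓ Cfsg.spGL m F ≤ M → M ≤ Cfsg.spGL m F →
      M ≤ Frame.N R ∨ M = Cfsg.spGL m F

/-- The standard symplectic group inside the general linear group. -/
def toGLm (F : Type*) [Field F] (m : ℕ) : Matrix.symplecticGroup (Fin m) F →* GL (SI m) F :=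
  (Matrix.symplecticGroup (Fin m) F).subtype.toHomUnits

theorem toGLm_mem (g : Matrix.symplecticGroup (Fin m) F) : toGLm F m g ∈ Cfsg.spGL m F :=
  S5976.mem_spGL.2 ((Symplectic.mem_symplectic_iff_form _).1 g.2)

theorem exists_toGLm {g : GL (SI m) F} (hg : g ∈ Cfsg.spGL m F) : ∃ y, toGLm F m y = g :=
  ⟨⟨(g : Matrix (SI m) (SI m) F), (Symplectic.mem_symplectic_iff_form _).2 (S5976.mem_spGL.1 hg)⟩, Units.ext rfl⟩

/-- A subgroup of the symplectic group normalised by it is central or everything. -/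
theorem sp_normal (h2 : (2 : F) ≠ 0) (hm : 2 ≤ m) (H : Subgroup (GL (SI m) F)) (hH : H ≤ Cfsg.spGL m F)
    (hn : ∀ g ∈ Cfsg.spGL m F, ∀ h ∈ H, g * h * g⁻¹ ∈ H) :
    (∀ h ∈ H, ∀ g ∈ Cfsg.spGL m F, g * h = h * g) ∨ H = Cfsg.spGL m F := by
  have hq : 3 ≤ Fintype.card F := by
    have h1 := Frame5.card_odd_of_two h2
    have := Fintype.one_lt_card (α := F)
    omega
  have hperf := Symplectic.perfect (F := F) m (by
    by_cases h : 3 ≤ m
    · exact .inl h
    · exact .inr (.inl ⟨by omega, hq⟩))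
  have : (H.comap (toGLm F m)).Normal := ⟨fun n hn' g => by
    show toGLm F m (g * n * g⁻¹) ∈ H
    rw [map_mul, map_mul, map_inv]
    exact hn _ (toGLm_mem g) _ hn'⟩
  rcases Symplectic.normal_subgroup_cases hperf (H.comap (toGLm F m)) with hc | htop
  · left
    intro h hh g hg
    obtain ⟨y, rfl⟩ := exists_toGLm (hH hh)
    obtain ⟨z, rfl⟩ := exists_toGLm hg
    rw [← map_mul, ← map_mul, Subgroup.mem_center_iff.1 (hc (show toGLm F m y ∈ H from hh)) z]
  · right
    refine le_antisymm hH fun g hg => ?_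
    obtain ⟨y, rfl⟩ := exists_toGLm hg
    exact (show y ∈ H.comap (toGLm F m) from htop ▸ Subgroup.mem_top y)

theorem Frame.two_le (fr : Frame k R) (hk : 2 ≤ k) (hR : R ≤ Cfsg.spGL m F) : 2 ≤ m := by
  obtain ⟨z, -, hz0, hzQ⟩ := fr.q.exists_singular (U := ⊤) (by rw [finrank_top, QForm.finrank_W]; omega)
  obtain ⟨m', S, -⟩ := fr.exists_split hR hz0 hzQ
  have := S.dim
  have := S.pos
  omega

namespace Split

variable {fr : Frame k R} {m' : ℕ} (S : Split fr m') {M : Subgroup (GL (SI m) F)}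

/-- A projection outside the smaller normaliser makes the overgroup everything. -/
theorem full (hk : 3 ≤ k) (hR : R ≤ Cfsg.spGL m F) (hbase : Frame.N R ⊓ Cfsg.spGL m F ≤ M)
    (hM : M ≤ Cfsg.spGL m F) (ih : Maxi F (k - 1)) {h : GL (SI m) F} (hhM : h ∈ M)
    (hhZ : h * fr.cl S.z = fr.cl S.z * h) (hpr : S.pr h ∉ Frame.N S.R1) : M = Cfsg.spGL m F := by
  have hRM : R ≤ M := fun g hg => hbase ⟨Subgroup.le_normalizer hg, hR hg⟩
  -- the projection
  let Mp : Subgroup (GL (SI m') F) :=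
    { carrier := {a | ∃ g ∈ M, g * fr.cl S.z = fr.cl S.z * g ∧ S.pr g = a}
      one_mem' := ⟨1, M.one_mem, by rw [one_mul, mul_one], S.pr_one⟩
      mul_mem' := fun {a b} ha hb => by
        obtain ⟨g, hg, hgZ, rfl⟩ := ha
        obtain ⟨g', hg', hgZ', rfl⟩ := hb
        exact ⟨g * g', M.mul_mem hg hg', by rw [mul_assoc, hgZ', ← mul_assoc, hgZ, mul_assoc],
          S.pr_mul hgZ hgZ'⟩
      inv_mem' := fun {a} ha => by
        obtain ⟨g, hg, hgZ, rfl⟩ := ha
        have hi := (Commute.inv_left (show Commute g (fr.cl S.z) from hgZ)).eq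
        refine ⟨g⁻¹, M.inv_mem hg, hi, (inv_eq_of_mul_eq_one_right ?_).symm⟩
        rw [← S.pr_mul hgZ hi, mul_inv_cancel, S.pr_one] }
  have hdiag : ∀ a ∈ Frame.N S.R1 ⊓ Cfsg.spGL m' F, S.lift a a ∈ M := fun a ha =>
    hbase ⟨S.lift_diag_mem ha.1, S.lift_mem hR ha.2 ha.2⟩
  have hMp : Mp = Cfsg.spGL m' F := by
    refine (ih m' S.R1 ⟨S.frame⟩ (S.R1_le hR) Mp (fun a ha => ?_) ?_).resolve_left fun hle => hpr (hle ⟨h, hhM, hhZ, rfl⟩)
    · exact ⟨S.lift a a, hdiag a ha, S.lift_comm_Z a a, S.pr_lift a a⟩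
    · rintro a ⟨g, hg, hgZ, rfl⟩
      exact S.pr_mem hR hgZ (hM hg)
  have hXM : fr.cl S.x ∈ M := hRM (fr.cl_mem S.x)
  have hpair : ∀ b ∈ Cfsg.spGL m' F, ∃ c, S.lift c b ∈ M := by
    intro b hb
    rw [← hMp] at hb
    obtain ⟨g, hg, hgZ, rfl⟩ := hb
    refine ⟨S.pr (fr.cl S.x * g * fr.cl S.x), ?_⟩
    have e : fr.cl S.x * g * fr.cl S.x = S.lift (S.pr (fr.cl S.x * g * fr.cl S.x)) (S.pr g) := by
      conv_lhs => rw [S.eq_lift hgZ]
      rw [S.conj_X_lift]
    rw [← e]
    exact M.mul_mem (M.mul_mem hXM hg) hXM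
  let Ks : Subgroup (GL (SI m') F) :=
    { carrier := {b | b ∈ Cfsg.spGL m' F ∧ S.lift 1 b ∈ M}
      one_mem' := ⟨one_mem _, by rw [S.lift_one]; exact M.one_mem⟩
      mul_mem' := fun {a b} ha hb => ⟨Subgroup.mul_mem _ ha.1 hb.1, by
        have := M.mul_mem ha.2 hb.2
        rwa [S.lift_mul, one_mul] at this⟩
      inv_mem' := fun {a} ha => ⟨Subgroup.inv_mem _ ha.1, by
        have := M.inv_mem ha.2
        rwa [S.lift_inv, inv_one] at this⟩ }
  have hm' : 2 ≤ m' := S.frame.two_le (by omega) (S.R1_le hR)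
  have hKs : Ks = Cfsg.spGL m' F := by
    refine (sp_normal fr.two hm' Ks (fun b hb => hb.1) ?_).resolve_left ?_
    · intro g hg b hb
      obtain ⟨c, hc⟩ := hpair g hg
      refine ⟨Subgroup.mul_mem _ (Subgroup.mul_mem _ hg hb.1) (Subgroup.inv_mem _ hg), ?_⟩
      have := M.mul_mem (M.mul_mem hc hb.2) (M.inv_mem hc)
      rwa [S.lift_inv, S.lift_mul, S.lift_mul, mul_one, mul_inv_cancel] at this
    · intro hcent
      obtain ⟨u, -, hu0, -⟩ := S.frame.q.exists_singular (U := ⊤) (by rw [finrank_top, QForm.finrank_W]; omega)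
      obtain ⟨y, hy⟩ := S.frame.q.exists_B_one hu0
      have hmem : S.frame.cl u ∈ Ks :=
        ⟨S.R1_le hR (S.frame.cl_mem u), hbase (S.lift_one_sub_mem hR u)⟩
      have e := hcent _ hmem _ (S.R1_le hR (S.frame.cl_mem y))
      have e' := S.frame.anti (v := u) (w := y) hy
      rw [← e] at e'
      exact S.frame.ne_neg _ e'
  have hone : ∀ b ∈ Cfsg.spGL m' F, S.lift 1 b ∈ M := fun b hb => by
    rw [← hKs] at hb; exact hb.2
  have hall : ∀ a ∈ Cfsg.spGL m' F, ∀ b ∈ Cfsg.spGL m' F, S.lift a b ∈ M := by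
    intro a ha b hb
    have h1 : S.lift a 1 ∈ M := by
      rw [← S.conj_X_lift]; exact M.mul_mem (M.mul_mem hXM (hone a ha)) hXM
    have := M.mul_mem h1 (hone b hb)
    rwa [S.lift_mul, mul_one, one_mul] at this
  -- the decomposition
  let D : Fin 2 → Submodule F (SI m → F) :=
    ![LinearMap.range (S.J * S.K).mulVecLin, LinearMap.range (S.X * (S.J * S.K) * S.X).mulVecLin]
  set P := S.J * S.K with hP
  set P' := S.X * P * S.X with hP'
  have hPP : P * P = P := by rw [hP, Matrix.mul_assoc, S.KP]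
  have hP'eq : P' = 1 - P := by rw [hP', hP, S.XPX]
  have hP'P' : P' * P' = P' := by
    rw [hP'eq, Matrix.sub_mul, Matrix.one_mul, Matrix.mul_sub, Matrix.mul_one, hPP, sub_self, _root_.sub_zero]
  have hfix : ∀ {A : Matrix (SI m) (SI m) F}, A * A = A → ∀ v, v ∈ LinearMap.range A.mulVecLin ↔ A *ᵥ v = v :=
    fun {A} hA v => ⟨by rintro ⟨u, rfl⟩; rw [mulVecLin_apply, mulVec_mulVec, hA], fun e => ⟨v, e⟩⟩
  have hD0 : ∀ v, v ∈ D 0 ↔ P *ᵥ v = v := fun v => hfix hPP v
  have hD1 : ∀ v, v ∈ D 1 ↔ P' *ᵥ v = v := fun v => hfix hP'P' v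
  have hX2 : ∀ v, S.X *ᵥ (S.X *ᵥ v) = v := fun v => by rw [mulVec_mulVec, S.XX, one_mulVec]
  have hdim : ∀ i, finrank F (D i) = m := by
    have h0 : finrank F (D 0) = 2 * m' := by
      have hJinj : Function.Injective S.J.mulVecLin := fun u v e => by
        have := congrArg (S.K *ᵥ ·) e
        simpa [mulVec_mulVec, S.KJ] using this
      have hr : D 0 = LinearMap.range S.J.mulVecLin := by
        show LinearMap.range P.mulVecLin = _
        refine le_antisymm ?_ ?_
        · rintro _ ⟨v, rfl⟩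
          exact ⟨S.K *ᵥ v, by rw [mulVecLin_apply, mulVecLin_apply, mulVec_mulVec]⟩
        · rintro _ ⟨v, rfl⟩
          exact ⟨S.J *ᵥ v, by rw [mulVecLin_apply, mulVecLin_apply, mulVec_mulVec, hP, S.PJ]⟩
      rw [hr, LinearMap.finrank_range_of_inj hJinj, Module.finrank_pi, Fintype.card_sum, Fintype.card_fin]
      omega
    have h1 : D 1 = (D 0).map (Matrix.toLin' S.X) := by
      ext v
      rw [hD1, Submodule.mem_map]
      constructor
      · intro e
        refine ⟨S.X *ᵥ v, (hD0 _).2 ?_, by rw [Matrix.toLin'_apply, hX2]⟩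
        calc P *ᵥ (S.X *ᵥ v) = S.X *ᵥ (P' *ᵥ v) := by
              rw [hP', mulVec_mulVec, mulVec_mulVec, ← mul_assoc, ← mul_assoc, S.XX, one_mul]
          _ = S.X *ᵥ v := by rw [e]
      · rintro ⟨u, hu, rfl⟩
        rw [Matrix.toLin'_apply]
        calc P' *ᵥ (S.X *ᵥ u) = S.X *ᵥ (P *ᵥ u) := by
              rw [hP', mulVec_mulVec, mulVec_mulVec, mul_assoc (S.X * P), S.XX, mul_one]
          _ = S.X *ᵥ u := by rw [(hD0 u).1 hu]
    have hinj : Function.Injective (Matrix.toLin' S.X) := fun u v e => by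
      simp only [Matrix.toLin'_apply] at e
      have := congrArg (S.X *ᵥ ·) e
      simpa [hX2] using this
    have := S.dim
    intro i
    fin_cases i
    · show finrank F (D 0) = m; omega
    · show finrank F (D 1) = m
      rw [h1, ← (Submodule.equivMapOfInjective _ hinj (D 0)).finrank_eq]; omega
  have hcompl : IsCompl (D 0) (D 1) := by
    refine ⟨Submodule.disjoint_def.2 fun v h0 h1 => ?_, codisjoint_iff.2 (eq_top_iff.2 fun v _ => ?_)⟩
    · rw [hD0] at h0
      rw [hD1, hP'eq, sub_mulVec, one_mulVec, h0, sub_self] at h1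
      exact h1.symm
    · refine Submodule.mem_sup.2 ⟨P *ᵥ v, ⟨v, rfl⟩, P' *ᵥ v, ⟨v, rfl⟩, ?_⟩
      rw [← add_mulVec, hP'eq, add_sub_cancel, one_mulVec]
  have hf : Cfsg.Geo.IsSymplecticForm (Cfsg.sympForm m F) := H95.isSymplecticForm_sympForm m
  have horth : ∀ u ∈ D 0, ∀ v ∈ D 1, Cfsg.sympForm m F u v = 0 := fun u hu v hv => by
    rw [hD1, hP'eq, sub_mulVec, one_mulVec, sub_eq_self] at hv
    rw [← (hD0 u).1 hu, hP, S.adj_P hR, ← hP, hv, H95.f_zero_right hf]
  have hnd : ∀ i, Cfsg.Geo.IsNondegenerateOn (Cfsg.sympForm m F) (D i) := by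
    intro i w hw hw0
    obtain ⟨y, hy⟩ := H95.exists_f_eq_one hf hw0
    obtain ⟨y0, hy0, y1, hy1, hsum⟩ := Submodule.mem_sup.1 (hcompl.sup_eq_top ▸ Submodule.mem_top (x := y))
    rw [← hsum, H95.f_add_right hf] at hy
    fin_cases i
    · rw [horth w hw y1 hy1, add_zero] at hy
      refine ⟨⟨y0, hy0, ?_⟩, ⟨y0, hy0, by rw [hy]; exact one_ne_zero⟩⟩
      exact H95.f_symm_ne hf (by rw [hy]; exact one_ne_zero)
    · rw [H95.f_symm_zero hf (horth y0 hy0 w hw), zero_add] at hy
      refine ⟨⟨y1, hy1, ?_⟩, ⟨y1, hy1, by rw [hy]; exact one_ne_zero⟩⟩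
      exact H95.f_symm_ne hf (by rw [hy]; exact one_ne_zero)
  have hmD : Cfsg.Geo.IsNondegenerateMDecomposition (Cfsg.sympForm m F) m D := by
    refine ⟨⟨le_rfl, by have := S.dim; have := S.pos; omega, hdim, ?_, ?_⟩, hnd, ?_⟩
    · rw [iSupIndep_iff_supIndep_univ, show (Finset.univ : Finset (Fin 2)) = {0, 1} from rfl,
        Finset.supIndep_pair (by decide)]
      exact hcompl.disjoint
    · rw [eq_top_iff, ← hcompl.sup_eq_top]
      exact sup_le (le_iSup D 0) (le_iSup D 1)
    · intro i j hij u hu v hv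
      fin_cases i <;> fin_cases j <;> first
        | exact absurd rfl hij
        | exact horth u hu v hv
        | exact H95.f_symm_zero hf (horth v hv u hu)
  have hmax := H39.SympSmall.decomposition m m D hmD (fun e => by
    have h1 := Frame5.card_odd_of_two fr.two
    omega)
  -- the stabiliser lies in the overgroup
  have hle : Cfsg.Geo.decompositionStabilizer D ⊓ Cfsg.spGL m F ≤ M := by
    rintro g ⟨⟨σ, hσ⟩, hgS⟩
    have hcommZ : ∀ {g : GL (SI m) F}, (∀ v ∈ D 0, (g : Matrix (SI m) (SI m) F) *ᵥ v ∈ D 0) →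
        (∀ v ∈ D 1, (g : Matrix (SI m) (SI m) F) *ᵥ v ∈ D 1) → g ∈ Cfsg.spGL m F → g ∈ M := by
      intro g h0 h1 hg
      have hP2 : (g : Matrix (SI m) (SI m) F) * P = P * g := by
        refine Matrix.ext_iff_mulVec.2 fun v => ?_
        rw [← mulVec_mulVec v (g : Matrix (SI m) (SI m) F) P, ← mulVec_mulVec v P (g : Matrix (SI m) (SI m) F)]
        have ha : P *ᵥ ((g : Matrix (SI m) (SI m) F) *ᵥ (P *ᵥ v)) = (g : Matrix (SI m) (SI m) F) *ᵥ (P *ᵥ v) :=
          (hD0 _).1 (h0 _ ⟨v, rfl⟩)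
        have hb : P' *ᵥ ((g : Matrix (SI m) (SI m) F) *ᵥ (P' *ᵥ v)) = (g : Matrix (SI m) (SI m) F) *ᵥ (P' *ᵥ v) :=
          (hD1 _).1 (h1 _ ⟨v, rfl⟩)
        rw [hP'eq, sub_mulVec, one_mulVec, sub_eq_self] at hb
        rw [sub_mulVec, one_mulVec, mulVec_sub, mulVec_sub, ha] at hb
        exact (sub_eq_zero.1 hb).symm
      have hZ' : g * fr.cl S.z = fr.cl S.z * g := by
        refine Units.ext ?_
        rw [Units.val_mul, Units.val_mul]
        have h2 : P + P = 1 + S.Z := by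
          rw [hP, S.JK, ← two_smul F, smul_smul, mul_inv_cancel₀ fr.two, one_smul]
        have h3 : S.Z = P + P - 1 := by rw [h2, add_sub_cancel_left]
        show (g : Matrix (SI m) (SI m) F) * S.Z = S.Z * (g : Matrix (SI m) (SI m) F)
        rw [h3, _root_.mul_sub, _root_.sub_mul, mul_one, one_mul, mul_add, add_mul, hP2]
      rw [S.eq_lift hZ']
      exact hall _ (S.pr_mem hR hZ' hg) _ (S.pr_mem hR (S.conj_X_comm hZ')
        (Subgroup.mul_mem _ (Subgroup.mul_mem _ (hR (fr.cl_mem _)) hg) (hR (fr.cl_mem _))))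
    have hmap : ∀ i, ∀ v ∈ D i, (g : Matrix (SI m) (SI m) F) *ᵥ v ∈ D (σ i) := fun i v hv => by
      rw [← hσ i]; exact ⟨v, hv, by rw [Matrix.toLin'_apply]⟩
    by_cases hs : σ 0 = 0
    · have hs1 : σ 1 = 1 := by
        have := σ.injective.ne (show (1 : Fin 2) ≠ 0 by decide)
        rw [hs] at this; revert this; generalize σ 1 = x; revert x; decide
      exact hcommZ (fun v hv => hs ▸ hmap 0 v hv) (fun v hv => hs1 ▸ hmap 1 v hv) hgS
    · have hs0 : σ 0 = 1 := by revert hs; generalize σ 0 = x; revert x; decide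
      have hs1 : σ 1 = 0 := by
        have := σ.injective.ne (show (1 : Fin 2) ≠ 0 by decide)
        rw [hs0] at this; revert this; generalize σ 1 = x; revert x; decide
      have hswap : ∀ v, (v ∈ D 1 → S.X *ᵥ v ∈ D 0) ∧ (v ∈ D 0 → S.X *ᵥ v ∈ D 1) := by
        intro v
        constructor
        · intro hv
          rw [hD1, hP', ← mulVec_mulVec, ← mulVec_mulVec] at hv
          rw [hD0]
          have := congrArg (S.X *ᵥ ·) hv
          simp only [hX2] at this
          exact this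
        · intro hv
          rw [hD1, hP', ← mulVec_mulVec, ← mulVec_mulVec, hX2, (hD0 v).1 hv]
      have hgX : fr.cl S.x * g ∈ M := by
        refine hcommZ (fun v hv => ?_) (fun v hv => ?_) (Subgroup.mul_mem _ (hR (fr.cl_mem _)) hgS) <;>
          rw [Units.val_mul, ← mulVec_mulVec]
        · exact (hswap _).1 (hs0 ▸ hmap 0 v hv)
        · exact (hswap _).2 (hs1 ▸ hmap 1 v hv)
      simpa using M.mul_mem (M.inv_mem hXM) hgX
  rcases hmax.2 M hle hM with he | he
  swap
  · exact he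
  exfalso
  -- but some element of the normaliser moves the two parts otherwise
  set u := S.x + S.z with hu
  have huQ : fr.q.Q u = 1 := by
    rw [hu, fr.q.Q_add, S.xQ, S.zQ, fr.q.B_symm, S.zx]; rfl
  obtain ⟨u', hu', hu'Q⟩ := fr.q.exists_nonsingular (U := fr.q.orth (Submodule.span (ZMod 2) {S.z})) (by
    have := fr.q.finrank_orth_one S.z
    omega)
  obtain ⟨T, hTN, hTS, hT⟩ := fr.exists_refl_pair (f := Cfsg.sympForm m F) hf hR huQ hu'Q
  have hTz : fr.act T S.z = S.z + u := by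
    rw [hT, Frame.refl, Frame.refl, fr.q.B_symm u' S.z, fr.q.mem_orth_one.1 hu', zero_smul, add_zero, hu, map_add,
      LinearMap.add_apply, fr.q.B_symm S.x S.z, S.zx, fr.q.B_self, add_zero, one_smul]
  have hTM : T ∈ M := hbase ⟨hTN, hTS⟩
  rw [he] at hTM
  obtain ⟨⟨σ, hσ⟩, -⟩ := hTM
  have hmap : ∀ i, ∀ v ∈ D i, (T : Matrix (SI m) (SI m) F) *ᵥ v ∈ D (σ i) := fun i v hv => by
    rw [← hσ i]; exact ⟨v, hv, by rw [Matrix.toLin'_apply]⟩
  have hZon : ∀ i, ∃ s : F, (s = 1 ∨ s = -1) ∧ ∀ v ∈ D i, S.Z *ᵥ v = s • v := by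
    intro i
    fin_cases i
    · exact ⟨1, .inl rfl, fun v hv => by
        conv_lhs => rw [← (hD0 v).1 hv, hP, mulVec_mulVec, S.ZP, ← hP, (hD0 v).1 hv]
        rw [one_smul]⟩
    · refine ⟨-1, .inr rfl, fun v hv => ?_⟩
      have hv' : P *ᵥ v = 0 := by
        have := (hD1 v).1 hv
        rwa [hP'eq, sub_mulVec, one_mulVec, sub_eq_self] at this
      have h2 : P + P = 1 + S.Z := by
        rw [hP, S.JK, ← two_smul F, smul_smul, mul_inv_cancel₀ fr.two, one_smul]
      have h3 : S.Z = P + P - 1 := by rw [h2, add_sub_cancel_left]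
      rw [h3, sub_mulVec, add_mulVec, hv', one_mulVec, neg_one_smul, add_zero, zero_sub]
  obtain ⟨s0, hs0, hZ0⟩ := hZon 0
  obtain ⟨s1, hs1, hZ1⟩ := hZon 1
  obtain ⟨t0, ht0, hT0⟩ := hZon (σ 0)
  obtain ⟨t1, ht1, hT1⟩ := hZon (σ 1)
  -- compare on the two parts
  have hpm : PM (T * fr.cl S.z) (fr.cl S.z * T) := by
    have hcomp : ∀ i, ∀ v ∈ D i, ∀ s t : F, (∀ v ∈ D i, S.Z *ᵥ v = s • v) →
        (∀ v ∈ D (σ i), S.Z *ᵥ v = t • v) → ((s = 1 ∨ s = -1) → (t = 1 ∨ t = -1) → True) →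
        s • ((T : Matrix (SI m) (SI m) F) *ᵥ v) = ((T : Matrix (SI m) (SI m) F) * S.Z) *ᵥ v ∧
        t • ((T : Matrix (SI m) (SI m) F) *ᵥ v) = (S.Z * (T : Matrix (SI m) (SI m) F)) *ᵥ v := by
      intro i v hv s t hs ht _
      refine ⟨?_, ?_⟩
      · rw [← mulVec_mulVec, hs v hv, mulVec_smul]
      · rw [← mulVec_mulVec, ht _ (hmap i v hv)]
    have hεex : ∃ ε : F, (ε = 1 ∨ ε = -1) ∧ t0 = ε * s0 ∧ t1 = ε * s1 := by
      have hσne := σ.injective.ne (show (0 : Fin 2) ≠ 1 by decide)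
      have e00 : s0 = 1 ∧ s1 = -1 := by
        constructor
        · obtain ⟨w, hw, hw0⟩ := (D 0).ne_bot_iff.1 (fun e => by
            have := hdim 0
            rw [e, finrank_bot] at this
            have := S.dim
            have := S.pos
            omega)
          have h1 : S.Z *ᵥ w = w := by
            conv_lhs => rw [← (hD0 w).1 hw, hP, mulVec_mulVec, S.ZP, ← hP, (hD0 w).1 hw]
          rw [hZ0 w hw] at h1
          rcases hs0 with e | e
          · exact e
          · rw [e, neg_one_smul, eq_comm, eq_neg_iff_add_eq_zero, ← two_smul F, smul_eq_zero] at h1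
            exact absurd (h1.resolve_left fr.two) hw0
        · obtain ⟨w, hw, hw0⟩ := (D 1).ne_bot_iff.1 (fun e => by
            have := hdim 1
            rw [e, finrank_bot] at this
            have := S.dim
            have := S.pos
            omega)
          have hv' : P *ᵥ w = 0 := by
            have := (hD1 w).1 hw
            rwa [hP'eq, sub_mulVec, one_mulVec, sub_eq_self] at this
          have h2 : P + P = 1 + S.Z := by
            rw [hP, S.JK, ← two_smul F, smul_smul, mul_inv_cancel₀ fr.two, one_smul]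
          have h1 := hZ1 w hw
          rw [show S.Z = P + P - 1 by rw [h2, add_sub_cancel_left], sub_mulVec, add_mulVec, hv', one_mulVec,
            add_zero, zero_sub] at h1
          rcases hs1 with e | e
          · rw [e, one_smul, eq_comm, eq_neg_iff_add_eq_zero, ← two_smul F, smul_eq_zero] at h1
            exact absurd (h1.resolve_left fr.two) hw0
          · exact e
      obtain ⟨e0, e1⟩ := e00
      have hval : ∀ (i : Fin 2) (t : F), (t = 1 ∨ t = -1) → (∀ v ∈ D i, S.Z *ᵥ v = t • v) →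
          ∀ s, (∀ v ∈ D i, S.Z *ᵥ v = s • v) → t = s := by
        intro i t _ ht s hs
        obtain ⟨w, hw, hw0⟩ := (D i).ne_bot_iff.1 (fun e => by
          have := hdim i
          rw [e, finrank_bot] at this
          have := S.dim
          have := S.pos
          omega)
        have := (ht w hw).symm.trans (hs w hw)
        rw [← sub_eq_zero, ← sub_smul, smul_eq_zero, sub_eq_zero] at this
        exact this.resolve_right hw0
      by_cases hσ0 : σ 0 = 0
      · have hσ1 : σ 1 = 1 := by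
          have := hσne.symm
          rw [hσ0] at this; revert this; generalize σ 1 = x; revert x; decide
        exact ⟨1, .inl rfl, by rw [one_mul]; exact hval _ _ ht0 hT0 _ (by rw [hσ0]; exact hZ0),
          by rw [one_mul]; exact hval _ _ ht1 hT1 _ (by rw [hσ1]; exact hZ1)⟩
      · have hσ0' : σ 0 = 1 := by revert hσ0; generalize σ 0 = x; revert x; decide
        have hσ1 : σ 1 = 0 := by
          have := hσne.symm
          rw [hσ0'] at this; revert this; generalize σ 1 = x; revert x; decide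
        refine ⟨-1, .inr rfl, ?_, ?_⟩
        · rw [hval _ _ ht0 hT0 _ (by rw [hσ0']; exact hZ1), e0, e1]; ring
        · rw [hval _ _ ht1 hT1 _ (by rw [hσ1]; exact hZ0), e0, e1]; ring
    obtain ⟨ε, hε, hεt0, hεt1⟩ := hεex
    have hmat : S.Z * (T : Matrix (SI m) (SI m) F) = ε • ((T : Matrix (SI m) (SI m) F) * S.Z) := by
      refine Matrix.ext_iff_mulVec.2 fun v => ?_
      obtain ⟨v0, hv0, v1, hv1, rfl⟩ := Submodule.mem_sup.1 (hcompl.sup_eq_top ▸ Submodule.mem_top (x := v))
      obtain ⟨a1, a2⟩ := hcomp 0 v0 hv0 s0 t0 hZ0 hT0 (fun _ _ => trivial)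
      obtain ⟨b1, b2⟩ := hcomp 1 v1 hv1 s1 t1 hZ1 hT1 (fun _ _ => trivial)
      rw [mulVec_add, mulVec_add, ← a2, ← b2, smul_mulVec, smul_mulVec, ← a1, ← b1, smul_smul, smul_smul,
        hεt0, hεt1]
    rcases hε with e | e
    · exact .inl (Units.ext (by rw [Units.val_mul, Units.val_mul, ← one_smul F (_ * _), ← e]; exact hmat.symm))
    · exact .inr (Units.ext (by
        rw [Units.val_neg, Units.val_mul, Units.val_mul]
        show _ = -(S.Z * (T : Matrix (SI m) (SI m) F))
        rw [hmat, e, neg_one_smul, neg_neg]))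
  have hTfix := (fr.act_fix_iff hTN).2 hpm
  rw [hTz, add_eq_left] at hTfix
  rw [hTfix, fr.q.Q_zero] at huQ
  exact zero_ne_one huQ

end Split

end Cfsg.Agent.H57.CSix
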