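import Cfsg.Agent.H57.CSix.KFive

/-!
An overgroup in which singular centralisers normalise is the normaliser.
-/

set_option autoImplicit false
set_option linter.unusedSectionVars false

namespace Cfsg.Agent.H57.CSix

open Matrix Module

variable {ι : Type} [Fintype ι] [DecidableEq ι] {F : Type*} [Field F] [Fintype F]
variable {f : (ι → F) → (ι → F) → F} {M : Subgroup (GL ι F)} {k : ℕ}
variable {R : Subgroup (GL ι F)}

theorem QForm.exists_lpair_vectors (q : QForm k) (h3 : 3 ≤ k) :
    ∃ a b : W k, a ≠ 0 ∧ b ≠ 0 ∧ a ≠ b ∧ q.Q a = 0 ∧ q.Q b = 0 ∧ q.B a b = 0 := by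
  obtain ⟨a, -, ha0, haQ⟩ := q.exists_singular (U := ⊤) (by rw [finrank_top, QForm.finrank_W]; omega)
  set U := q.orth (Submodule.span (ZMod 2) {a}) with hU
  have haU : a ∈ U := q.mem_orth_one.2 (q.B_self a)
  obtain ⟨C, hC⟩ := Submodule.exists_isCompl (Submodule.comap U.subtype (Submodule.span (ZMod 2) {a}))
  have hdim := Submodule.finrank_add_eq_of_isCompl hC
  have hle : Submodule.span (ZMod 2) ({a} : Set (W k)) ≤ U := by
    rwa [Submodule.span_singleton_le_iff_mem]
  rw [(Submodule.comapSubtypeEquivOfLe hle).finrank_eq, finrank_span_singleton (K := ZMod 2) ha0] at hdim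
  have hd := q.finrank_orth_one a
  rw [← hU] at hd
  obtain ⟨b, hb, hb0, hbQ⟩ := q.exists_singular (U := C.map U.subtype) (by
    rw [Submodule.finrank_map_subtype_eq]; omega)
  obtain ⟨b', hb', rfl⟩ := hb
  refine ⟨a, U.subtype b', ha0, hb0, fun e => hb0 ?_, haQ, hbQ, q.mem_orth_one.1 b'.2⟩
  have := Submodule.disjoint_def.1 hC.disjoint b' (show U.subtype b' ∈ Submodule.span (ZMod 2) ({a} : Set (W k)) by
    rw [← e]; exact Submodule.mem_span_singleton_self a) hb'
  simp [this]

/-- An overgroup in which singular centralisers normalise lies in the normaliser. -/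
theorem Over.le_normalizer {fr : Frame k R} (h : Over f M fr) : M ≤ Frame.N R := by
  intro g hg
  by_contra hgN
  set fr' := fr.conj g
  have h' : Over f M fr' := h.conj hg
  have hne : R ≠ R.map (MulAut.conj g).toMonoidHom := fun e => hgN (fr.mem_N_of_forall fun w => fr.surj _ (by
    have hh : g * fr.cl w * g⁻¹ ∈ R.map (MulAut.conj g).toMonoidHom := ⟨_, fr.cl_mem w, rfl⟩
    rwa [← e] at hh))
  obtain ⟨a, b, ha0, hb0, hab, haQ, hbQ, hB⟩ := fr.q.exists_lpair_vectors h.three
  have hp : fr.LPair a b := ⟨ha0, hb0, hab, haQ, hbQ, hB⟩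
  have ht : fr.IsCZ a b (bl (fr.cl a) 1 (fr.cl b)) := ⟨_, _, .inl rfl, .inl rfl, rfl⟩
  obtain ⟨v, hv0, hvQ, -, -⟩ := Over.exists_companion h h' hne (Frame.N R).one_mem
    (Frame.N (R.map (MulAut.conj g).toMonoidHom)).one_mem (.inl (one_mul 1))
  obtain ⟨hk, w, hex, -⟩ := Over.step h h' hne hp ht hv0 hvQ
  exact Over.no_excep h h' hne hk hp ht hex

end Cfsg.Agent.H57.CSix
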