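import Cfsg.Agent.H57.CSix.Centraliser
import Cfsg.Agent.H57.CSix.Main
import Cfsg.Agent.H57.Frame5.Top

/-!
Maximality of the normaliser of 2^(1+2k) of minus type in every level.
-/

set_option autoImplicit false
set_option linter.unusedSectionVars false

namespace Cfsg.Agent.H57.CSix

open Matrix Module

variable {F : Type*} [Field F] [Fintype F] {m : ℕ} {k : ℕ}

namespace Frame

variable {ι : Type} [Fintype ι] [DecidableEq ι] {R : Subgroup (GL ι F)} (fr : Frame k R)

include fr in
theorem dim_le : Fintype.card ι * Fintype.card ι ≤ 2 ^ (2 * k) := by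
  have h := finrank_range_le_card (R := F) fun w : W k => (fr.cl w : Matrix ι ι F)
  rw [Set.finrank, fr.span, finrank_top, Module.finrank_matrix, Module.finrank_self, mul_one] at h
  simpa [W, Fintype.card_fin, ZMod.card] using h

include fr in
theorem card_eq : Nat.card R = 2 * 2 ^ (2 * k) := by
  let f : ZMod 2 × W k → R := fun x => ⟨sg x.1 (fr.cl x.2), (sg_PM x.1 (fr.cl x.2)).mem fr.neg_mem (fr.cl_mem x.2)⟩
  have hf : Function.Bijective f := by
    constructor
    · rintro ⟨a, v⟩ ⟨b, w⟩ h
      have h' : sg a (fr.cl v) = sg b (fr.cl w) := congrArg Subtype.val h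
      obtain rfl : v = w := fr.eq_of_pm (((sg_PM a (fr.cl v)).symm.trans (.inl h')).trans (sg_PM b _))
      rw [fr.sg_inj h']
    · rintro ⟨g, hg⟩
      obtain ⟨w, rfl | rfl⟩ := fr.surj g hg
      · exact ⟨(0, w), Subtype.ext (sg_zero _)⟩
      · exact ⟨(1, w), Subtype.ext (sg_one _)⟩
  rw [← Nat.card_congr (Equiv.ofBijective f hf), Nat.card_prod, Nat.card_zmod, Nat.card_eq_fintype_card]
  simp [W, Fintype.card_fin, ZMod.card]

/-- A frame of level two is an extraspecial group of order thirty-two of minus type. -/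
theorem minus_two {R : Subgroup (GL ι F)} (fr : Frame 2 R) : H98.Extraspecial.Minus R where
  two := fr.two
  nonempty := fr.ne
  neg_one := fr.neg_mem
  card := by rw [fr.card_eq]; norm_num
  sq y hy := by
    obtain ⟨w, hw⟩ := fr.surj y hy
    rw [fr.sq_of_pm hw]
    exact sg_PM _ _
  comm a ha b hb := by
    obtain ⟨v, hv⟩ := fr.surj a ha
    obtain ⟨w, hw⟩ := fr.surj b hb
    rw [fr.pm_comm hv hw]
    exact sg_PM _ _
  center a ha hall := by
    obtain ⟨v, hv⟩ := fr.surj a ha
    have hv0 : v = 0 := fr.q.eq_of_B_eq fun w => by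
      rw [map_zero, LinearMap.zero_apply]
      rcases z2_cases (fr.q.B v w) with e | e
      · exact e
      · exfalso
        have h := hall _ (fr.cl_mem w)
        rcases hv with rfl | rfl
        · exact fr.ne_neg _ (h.symm.trans (by rw [fr.anti e]) |>.trans rfl)
        · rw [neg_mul, mul_neg, neg_inj, fr.anti e] at h
          exact fr.ne_neg _ h.symm
    rw [hv0, fr.cl_zero] at hv
    exact hv
  scalar M hM := fr.scalar fun w => hM _ (fr.cl_mem w)
  minus a ha b hb haa hbb hab ha1 ha1' := by
    obtain ⟨u, hu⟩ := fr.surj a ha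
    obtain ⟨v, hv⟩ := fr.surj b hb
    have hu0 : u ≠ 0 := fun e => by
      rw [e, fr.cl_zero] at hu
      exact hu.elim ha1 ha1'
    have hQu := fr.Q_of_invol hu haa
    have hQv := fr.Q_of_invol hv hbb
    have hB : fr.q.B u v = 0 := fr.commute_iff.1 (by
      rcases hu with rfl | rfl <;> rcases hv with rfl | rfl <;>
        simpa only [neg_mul, mul_neg, neg_neg, neg_inj] using hab)
    have hv' : v = 0 ∨ v = u := by
      by_contra hno
      rw [not_or] at hno
      have hts : ∀ x ∈ Submodule.span (ZMod 2) {u, v}, fr.q.Q x = 0 := fun x hx => by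
        rcases mem_span_two.1 hx with rfl | rfl | rfl | rfl
        exacts [fr.q.Q_zero, hQu, hQv, by rw [fr.q.Q_add_of_orth hB, hQu, hQv, add_zero]]
      have := fr.q.minus _ hts
      rw [finrank_span_two hu0 hno.1 (Ne.symm hno.2)] at this
      omega
    rcases hv' with rfl | rfl
    · rw [fr.cl_zero] at hv
      exact hv.elim .inl (fun e => .inr (.inl e))
    · rcases hu with rfl | rfl <;> rcases hv with rfl | rfl <;> simp
  exists_inv := by
    obtain ⟨w, -, hw0, hwQ⟩ := fr.q.exists_singular (U := ⊤) (by rw [finrank_top, QForm.finrank_W]; omega)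
    exact ⟨fr.cl w, fr.cl_mem w, fr.cl_sq_zero hwQ, fun e => hw0 (fr.eq_zero_of_pm (.inl e)),
      fun e => hw0 (fr.eq_zero_of_pm (.inr e))⟩

end Frame

/-- The base level. -/
theorem maxi_two (hp : (Fintype.card F).Prime) : Maxi F 2 := by
  rintro m R ⟨fr⟩ hR M hle hM
  have h1 := fr.two_le le_rfl hR
  have h2 := fr.dim_le
  rw [Fintype.card_sum, Fintype.card_fin] at h2
  obtain rfl : m = 2 := by
    refine le_antisymm (Nat.le_of_not_lt fun h3 => ?_) h1
    have h36 := Nat.mul_le_mul (show 6 ≤ m + m by omega) (show 6 ≤ m + m by omega)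
    norm_num at h2
    omega
  obtain ⟨x, hx⟩ := Frame5.exists_five fr.minus_two hR
  rcases (Frame5.maximal hp rfl hx).2 M hle hM with e | e
  · exact .inl (e ▸ inf_le_left)
  · exact .inr e

/-- Every level. -/
theorem maxi (hp : (Fintype.card F).Prime) : ∀ {k : ℕ}, 2 ≤ k → Maxi F k := by
  intro k hk
  induction k, hk using Nat.le_induction with
  | base => exact maxi_two hp
  | succ k hk ih =>
    rintro m R ⟨fr⟩ hR M hle hM
    by_cases hsp : M = Cfsg.spGL m F
    · exact .inr hsp
    have h : Over (Cfsg.sympForm m F) M fr :=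
      { three := by omega
        symp := H95.isSymplecticForm_sympForm m
        le := hM
        Rle := hR
        base := fun x hx hxN => hle ⟨hxN, hx⟩
        cent := fun z x hz0 hzQ hxM hpm => by
          by_contra hxN
          exact hsp (cent_or_full fr (by omega) hR hle hM ih hz0 hzQ hxM hpm hxN) }
    exact .inl h.le_normalizer

/-- The normaliser is maximal. -/
theorem maximal (hp : (Fintype.card F).Prime) {R : Subgroup (GL (SI m) F)} (fr : Frame k R) (hk : 2 ≤ k)
    (hR : R ≤ Cfsg.spGL m F) :
    Cfsg.Geo.IsMaximalIn (Cfsg.spGL m F) (Cfsg.Geo.subgroupNormalizer R ⊓ Cfsg.spGL m F) := by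
  have hm := fr.two_le hk hR
  refine ⟨lt_of_le_of_ne inf_le_right fun e => ?_, fun M hle hM => ?_⟩
  · obtain ⟨u, -, hu0, -⟩ := fr.q.exists_singular (U := ⊤) (by rw [finrank_top, QForm.finrank_W]; omega)
    obtain ⟨y, hy⟩ := fr.q.exists_B_one hu0
    rcases sp_normal fr.two hm R hR (fun g hg h hh => by
      have hgN : g ∈ Cfsg.Geo.subgroupNormalizer R ⊓ Cfsg.spGL m F := by rw [e]; exact hg
      exact ((Subgroup.mem_normalizer_iff.1 hgN.1) h).1 hh) with hc | htop
    · have e' := hc _ (fr.cl_mem u) _ (hR (fr.cl_mem y))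
      rw [fr.anti hy] at e'
      exact fr.ne_neg _ e'
    · set v : SI m → F := Symplectic.ev ⟨0, by omega⟩ with hv
      obtain ⟨w, hw⟩ := Symplectic.sf_exists_one (F := F) (Symplectic.ev_ne_zero (⟨0, by omega⟩ : Fin m))
      rw [← hv] at hw
      set t := toGLm F m (Symplectic.T v 1) with ht
      obtain ⟨r, hr⟩ := fr.surj t (htop ▸ toGLm_mem _)
      have hmat : ((t * t : GL (SI m) F) : Matrix (SI m) (SI m) F) = (Symplectic.T v (1 + 1) : Matrix (SI m) (SI m) F) := by
        rw [ht, ← map_mul, Symplectic.T_mul]; rfl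
      have hact : ((t * t : GL (SI m) F) : Matrix (SI m) (SI m) F) *ᵥ w = w + (-2 : F) • v := by
        rw [hmat, Symplectic.T_mulVec, Symplectic.sf_swap, hw]
        congr 2
        ring
      rw [fr.sq_of_pm hr] at hact
      rcases z2_cases (fr.q.Q r) with q | q <;> rw [q] at hact
      · rw [sg_zero, Units.val_one, one_mulVec, left_eq_add, smul_eq_zero, neg_eq_zero] at hact
        exact hact.elim fr.two (Symplectic.ev_ne_zero _)
      · rw [sg_one, Units.val_neg, Units.val_one, neg_mulVec, one_mulVec] at hact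
        have hwv : w = v := by
          have h2 : (2 : F) • w = (2 : F) • v := by
            rw [neg_smul, ← sub_eq_add_neg, eq_sub_iff_add_eq, neg_add_eq_iff_eq_add] at hact
            rw [hact, two_smul]
          exact smul_right_injective _ fr.two h2
        rw [hwv, H95.f_self (H95.isSymplecticForm_sympForm m)] at hw
        exact zero_ne_one hw
  · rcases maxi hp hk m R ⟨fr⟩ hR M hle hM with h | h
    · exact .inl (le_antisymm (le_inf h hM) hle)
    · exact .inr h

end Cfsg.Agent.H57.CSix
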