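import Cfsg.Agent.H57.CSix.Elements

/-!
Two frames inside an overgroup have no common singular element.
-/

set_option autoImplicit false
set_option linter.unusedSectionVars false

namespace Cfsg.Agent.H57.CSix

open Matrix Module

variable {ι : Type} [Fintype ι] [DecidableEq ι] {F : Type*} [Field F] [Fintype F]
variable {f : (ι → F) → (ι → F) → F} {M : Subgroup (GL ι F)} {k : ℕ}
variable {R R' : Subgroup (GL ι F)}

/-- M contains the normaliser, and every element of M fixing a singular element up to sign normalises. -/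
structure Over (f : (ι → F) → (ι → F) → F) (M : Subgroup (GL ι F)) (fr : Frame k R) : Prop where
  three : 3 ≤ k
  symp : Cfsg.Geo.IsSymplecticForm f
  le : M ≤ H95.isoGrp f
  Rle : R ≤ H95.isoGrp f
  base : ∀ x ∈ H95.isoGrp f, x ∈ Frame.N R → x ∈ M
  cent : ∀ z x, z ≠ 0 → fr.q.Q z = 0 → x ∈ M → PM (x * fr.cl z) (fr.cl z * x) → x ∈ Frame.N R

namespace Over

variable {fr : Frame k R} {fr' : Frame k R'}

theorem R_mem (h : Over f M fr) {x : GL ι F} (hx : x ∈ R) : x ∈ M :=
  h.base x (h.Rle hx) (Subgroup.le_normalizer hx)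

theorem cl_mem (h : Over f M fr) (w : W k) : fr.cl w ∈ M := h.R_mem (fr.cl_mem w)

theorem conj (h : Over f M fr) {g : GL ι F} (hg : g ∈ M) : Over f M (fr.conj g) where
  three := h.three
  symp := h.symp
  le := h.le
  Rle := by
    rintro _ ⟨x, hx, rfl⟩
    exact Subgroup.mul_mem _ (Subgroup.mul_mem _ (h.le hg) (h.Rle hx)) (Subgroup.inv_mem _ (h.le hg))
  base x hxS hxN := by
    have hy : g⁻¹ * x * g ∈ M := h.base _
      (Subgroup.mul_mem _ (Subgroup.mul_mem _ (Subgroup.inv_mem _ (h.le hg)) hxS) (h.le hg))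
      (Frame.mem_N_conj g hxN)
    simpa [mul_assoc] using M.mul_mem (M.mul_mem hg hy) (M.inv_mem hg)
  cent z x hz hzQ hx hc := by
    have hy := h.cent z (g⁻¹ * x * g) hz hzQ (M.mul_mem (M.mul_mem (M.inv_mem hg) hx) hg) (by
      have e := (hc.mul_left g⁻¹).mul_right g
      simp only [Frame.conj] at e
      convert e using 1 <;> group)
    have := Frame.conj_mem_N g hy
    simpa [mul_assoc] using this

/-- Elements of two frames agreeing up to sign have the same value of the quadratic form. -/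
theorem Q_transfer (fr : Frame k R) (fr' : Frame k R') {d d' : W k} (hd : PM (fr.cl d) (fr'.cl d')) :
    fr'.q.Q d' = fr.q.Q d := by
  have h := hd.sq_eq
  rw [fr.cl_sq, fr'.cl_sq] at h
  exact (fr.sg_inj h).symm

theorem B_transfer (fr : Frame k R) (fr' : Frame k R') {d e d' e' : W k} (hd : PM (fr.cl d) (fr'.cl d'))
    (he : PM (fr.cl e) (fr'.cl e')) : fr'.q.B d' e' = fr.q.B d e := by
  have h := fr'.pm_comm hd he
  rw [fr.cl_comm] at h
  exact (fr.sg_inj h).symm

theorem commute_of_common (fr : Frame k R) {z : W k} (hz : fr.cl z ∈ R') (fr' : Frame k R') {x : GL ι F}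
    (hx : x ∈ R') : PM (x * fr.cl z) (fr.cl z * x) := by
  obtain ⟨u, hu⟩ := fr'.surj x hx
  obtain ⟨v, hv⟩ := fr'.surj _ hz
  rw [fr'.pm_comm hu hv]
  exact sg_PM _ _

/-- Two frames with a common singular element are equal. -/
theorem eq_of_common (h : Over f M fr) (h' : Over f M fr') {z : W k} (hz0 : z ≠ 0) (hzQ : fr.q.Q z = 0)
    (hz : fr.cl z ∈ R') : R = R' := by
  obtain ⟨z', hz'⟩ := fr'.surj _ hz
  have hz'0 : z' ≠ 0 := fun e => hz0 (fr.eq_zero_of_pm (by rwa [e, fr'.cl_zero] at hz'))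
  have hz'Q : fr'.q.Q z' = 0 := (Q_transfer fr fr' hz').trans hzQ
  have hsub : ∀ x ∈ R', x ∈ Frame.N R := fun x hx =>
    h.cent z x hz0 hzQ (h'.R_mem hx) (commute_of_common fr hz fr' hx)
  have hsub' : ∀ w, fr.cl w ∈ Frame.N R' := fun w => h'.cent z' _ hz'0 hz'Q (h.cl_mem w)
    ((hz'.symm.mul_left _).trans ((fr.comm_pm w z).trans (hz'.mul_right _)))
  -- the range of the action of each element lies in the common part
  have hD : ∀ x w, fr.cl (fr.phi (fr'.cl x) w) ∈ R' := by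
    intro x w
    have h1 := fr.act_spec (hsub _ (fr'.cl_mem x)) w
    have h2 : PM (fr'.cl x * (fr.cl w * (fr'.cl x)⁻¹ * (fr.cl w)⁻¹)) (fr.cl (fr.phi (fr'.cl x) w)) := by
      rw [show fr'.cl x * (fr.cl w * (fr'.cl x)⁻¹ * (fr.cl w)⁻¹) = fr'.cl x * fr.cl w * (fr'.cl x)⁻¹ *
        (fr.cl w)⁻¹ by group]
      exact (h1.mul (fr.cl_inv w)).trans (fr.cl_mul _ _)
    exact h2.symm.mem fr'.neg_mem (R'.mul_mem (fr'.cl_mem x)
      ((Subgroup.mem_normalizer_iff.1 (hsub' w) _).1 (R'.inv_mem (fr'.cl_mem x))))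
  have hinv : ∀ x, fr.q.Invol (fr.act (fr'.cl x)) := fun x =>
    fr.invol_of_pm (hsub _ (fr'.cl_mem x)) (fr'.cl_sq_pm x)
  have hker : ∀ x {i : W k}, fr.cl i ∈ R' → i ∈ LinearMap.ker (fr.phi (fr'.cl x)) := fun x i hi =>
    (fr.mem_ker_iff (hsub _ (fr'.cl_mem x))).2 (commute_of_common fr hi fr' (fr'.cl_mem x))
  have hiso : ∀ x x' {i i' : W k}, i ∈ LinearMap.range (fr.phi (fr'.cl x)) →
      i' ∈ LinearMap.range (fr.phi (fr'.cl x')) → fr.q.B i i' = 0 := by
    rintro x x' _ i' ⟨w, rfl⟩ ⟨w', rfl⟩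
    have := hker x (hD x' w')
    rw [(hinv x).ker_eq] at this
    exact fr.q.mem_orth.1 this _ ⟨w, rfl⟩
  have hsmall : ∀ x, ∀ i ∈ LinearMap.range (fr.phi (fr'.cl x)), i = 0 ∨ i = z := by
    intro x i hi
    by_contra hne
    rw [not_or] at hne
    have hzi : fr.q.B z i = 0 := by
      have := hker x (i := z) hz
      rw [(hinv x).ker_eq] at this
      rw [fr.q.B_symm]
      exact fr.q.mem_orth.1 this i hi
    obtain ⟨u₀, hu1, hu0⟩ := fr.q.exists_B_one_zero hne.1 hne.2
    set H := fr.q.orth (Submodule.span (ZMod 2) {z, i}) with hH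
    have hHdim := fr.q.finrank_orth_two z i
    rw [← hH] at hHdim
    have h3 := h.three
    obtain ⟨u, hu, huz, hui⟩ : ∃ u, fr.q.Q u = 1 ∧ fr.q.B z u = 0 ∧ fr.q.B i u = 1 := by
      by_contra hno
      push Not at hno
      have hlin : ∀ a ∈ H, fr.q.Q (u₀ + a) = 0 := fun a ha => z2_ne_one fun e => by
        obtain ⟨ha1, ha2⟩ := fr.q.mem_orth_two.1 ha
        exact hno _ e (by rw [map_add, hu0, ha1, add_zero]) (by rw [map_add, hu1, ha2, add_zero])
      have hQ0 : fr.q.Q u₀ = 0 := by simpa using hlin 0 H.zero_mem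
      have hQ : ∀ a ∈ H, fr.q.Q a = fr.q.B u₀ a := fun a ha => by
        have := hlin a ha
        rw [fr.q.Q_add, hQ0, zero_add] at this
        exact vadd_eq_zero this
      have hI : fr.q.Isotropic H := fun a ha b hb => by
        rw [fr.q.B_eq_Q, hQ a ha, hQ b hb, hQ _ (H.add_mem ha hb), map_add]
        linear_combination z2_self (fr.q.B u₀ a) + z2_self (fr.q.B u₀ b)
      have := hI.finrank_le
      omega
    obtain ⟨u', hu'H, hu'⟩ := fr.q.exists_nonsingular (U := H) (by omega)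
    obtain ⟨hu'z, hu'i⟩ := fr.q.mem_orth_two.1 hu'H
    obtain ⟨T, hTN, hTS, hT⟩ := fr.exists_refl_pair h.symp h.Rle hu hu'
    have hTM := h.base T hTS hTN
    have hTz : fr.act T z = z := by
      rw [hT, Frame.refl, Frame.refl, fr.q.B_symm u' z, hu'z, zero_smul, add_zero, fr.q.B_symm u z, huz,
        zero_smul, add_zero]
    have hTi : fr.act T i = i + u := by
      rw [hT, Frame.refl, Frame.refl, fr.q.B_symm u' i, hu'i, zero_smul, add_zero, fr.q.B_symm u i, hui,
        one_smul]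
    have hTN' : T ∈ Frame.N R' := h'.cent z' T hz'0 hz'Q hTM
      ((hz'.symm.mul_left _).trans (((fr.act_fix_iff hTN).1 hTz).trans (hz'.mul_right _)))
    obtain ⟨x', hx'⟩ := fr'.exists_conj hTN' x
    obtain ⟨w, rfl⟩ := hi
    have hTi' : fr.act T (fr.phi (fr'.cl x) w) ∈ LinearMap.range (fr.phi (fr'.cl x')) := by
      refine ⟨fr.act T w, ?_⟩
      have hxN := hsub _ (fr'.cl_mem x)
      rw [← fr.phi_pm hx' ((Frame.N R).mul_mem ((Frame.N R).mul_mem hTN hxN) ((Frame.N R).inv_mem hTN))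
        (hsub _ (fr'.cl_mem x')), QForm.dif_apply, QForm.dif_apply, fr.act_mul ((Frame.N R).mul_mem hTN hxN)
        ((Frame.N R).inv_mem hTN), fr.act_mul hTN hxN, fr.act_inv hTN, map_add]
    have := hiso x x' ⟨w, rfl⟩ hTi'
    rw [hTi, map_add, fr.q.B_self, zero_add, hui] at this
    exact one_ne_zero this
  have hzero : ∀ x w, fr.phi (fr'.cl x) w = 0 := by
    intro x
    by_contra hno
    push Not at hno
    obtain ⟨w, hw⟩ := hno
    have hrange : LinearMap.range (fr.phi (fr'.cl x)) = Submodule.span (ZMod 2) {z} := by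
      refine le_antisymm (fun i hi => mem_span_one.2 (hsmall x i hi)) ?_
      rw [Submodule.span_singleton_le_iff_mem]
      exact ⟨w, (hsmall x _ ⟨w, rfl⟩).resolve_left hw⟩
    obtain ⟨y, hy⟩ := fr.q.exists_B_one hz0
    have hny : fr.phi (fr'.cl x) y ≠ 0 := fun e => by
      have : y ∈ LinearMap.ker (fr.phi (fr'.cl x)) := e
      rw [(hinv x).ker_eq, hrange, fr.q.mem_orth_one, hy] at this
      exact one_ne_zero this
    have e := (fr.act_iso (fr'.cl x)).Q_dif y
    rw [show QForm.dif (fr.act (fr'.cl x)) y = z from (hsmall x _ ⟨y, rfl⟩).resolve_left hny, hzQ,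
      fr.q.B_symm, hy] at e
    exact zero_ne_one e
  have hle : ∀ x ∈ R', x ∈ R := by
    intro x hx
    obtain ⟨v, hv⟩ := fr'.surj x hx
    obtain ⟨r, hr⟩ := fr.pm_of_act_id h.symp (hsub _ (fr'.cl_mem v)) (h'.Rle (fr'.cl_mem v)) h.Rle fun w => by
      rw [QForm.apply_eq_dif]
      show fr.phi (fr'.cl v) w + w = w
      rw [hzero, zero_add]
    exact fr.mem_iff.2 ⟨r, hv.trans hr⟩
  -- same finite set of vectors on both sides
  choose e he using fun v => fr.surj _ (hle _ (fr'.cl_mem v))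
  have hinj : Function.Injective e := fun a b hab =>
    fr'.eq_of_pm ((he a).trans ((PM.of_eq (by rw [hab])).trans (he b).symm))
  refine le_antisymm (fun x hx => ?_) hle
  obtain ⟨w, hw⟩ := fr.surj x hx
  obtain ⟨v, rfl⟩ := (Finite.injective_iff_surjective.1 hinj) w
  exact fr'.mem_iff.2 ⟨v, hw.trans (he v).symm⟩

/-- Fusion of singular elements is controlled by the normaliser. -/
theorem fusion (h : Over f M fr) {g : GL ι F} (hg : g ∈ M) {z z' : W k} (hz0 : z ≠ 0) (hzQ : fr.q.Q z = 0)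
    (hc : PM (g * fr.cl z * g⁻¹) (fr.cl z')) : g ∈ Frame.N R := by
  have heq : R.map (MulAut.conj g).toMonoidHom = R :=
    eq_of_common (fr' := fr) (h.conj hg) h hz0 hzQ (fr.mem_iff.2 ⟨z', hc⟩)
  refine fr.mem_N_of_forall fun w => fr.surj _ ?_
  have : g * fr.cl w * g⁻¹ ∈ R.map (MulAut.conj g).toMonoidHom := ⟨_, fr.cl_mem w, rfl⟩
  rwa [heq] at this

/-- The common elements are anisotropic. -/
theorem common_anisotropic (h : Over f M fr) (h' : Over f M fr') (hne : R ≠ R') {z : W k} (hz : fr.cl z ∈ R')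
    (hz0 : z ≠ 0) : fr.q.Q z = 1 :=
  z2_ne_zero fun hq => hne (eq_of_common h h' hz0 hq hz)

end Over

end Cfsg.Agent.H57.CSix
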