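import Cfsg.Agent.H57.CSix.Step

/-!
The exceptional configuration in dimension 32 does not occur.
-/

set_option autoImplicit false
set_option linter.unusedSectionVars false

namespace Cfsg.Agent.H57.CSix

open Matrix Module

variable {ι : Type} [Fintype ι] [DecidableEq ι] {F : Type*} [Field F] [Fintype F]
variable {f : (ι → F) → (ι → F) → F} {M : Subgroup (GL ι F)} {k : ℕ}
variable {R R' : Subgroup (GL ι F)}

/-- The Pfaffian of an alternating 4 × 4 matrix given by its six entries above the diagonal. -/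
def pf (g : Fin 6 → ZMod 2) : ZMod 2 := g 0 * g 5 + g 1 * g 4 + g 2 * g 3

/-- The rows of the alternating matrix with the given entries, applied to a vector. -/
def altMul (g : Fin 6 → ZMod 2) (v : Fin 4 → ZMod 2) : Fin 4 → ZMod 2 :=
  ![g 0 * v 1 + g 1 * v 2 + g 2 * v 3, g 0 * v 0 + g 3 * v 2 + g 4 * v 3,
    g 1 * v 0 + g 3 * v 1 + g 5 * v 3, g 2 * v 0 + g 4 * v 1 + g 5 * v 2]

theorem altMul_kernel (g : Fin 6 → ZMod 2) (h : pf g = 0) : ∃ v, v ≠ 0 ∧ altMul g v = 0 := by
  revert g h; decide +kernel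

theorem altMul_injective (g : Fin 6 → ZMod 2) (h : pf g = 1) (v : Fin 4 → ZMod 2) (hv : altMul g v = 0) :
    v = 0 := by
  revert g h v hv; decide +kernel

/-- Two companions of the form f = e₁₂ + e₃₄ agree on the entries that matter. -/
theorem pair_agree (g h : Fin 6 → ZMod 2) (hg : pf g = 1) (hh : pf h = 1)
    (hgf : pf (g + ![1, 0, 0, 0, 0, 1]) = 1) (hhf : pf (h + ![1, 0, 0, 0, 0, 1]) = 1)
    (h1 : g + h = 0 ∨ pf (g + h) = 1)
    (h2 : ![1, 0, 0, 0, 0, 1] + g + h = 0 ∨ pf (![1, 0, 0, 0, 0, 1] + g + h) = 1) :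
    h 2 = g 2 ∧ h 4 = g 4 := by
  have hp : ∀ i : Fin 6, g i + h i = 0 → h i = g i := fun i e => (vadd_eq_zero e).symm
  rcases h1 with e | e
  · exact ⟨hp 2 (congrFun e 2), hp 4 (congrFun e 4)⟩
  rcases h2 with e' | e'
  · have e2 : (0 : ZMod 2) + g 2 + h 2 = 0 := congrFun e' 2
    have e4 : (0 : ZMod 2) + g 4 + h 4 = 0 := congrFun e' 4
    exact ⟨hp 2 (by rwa [zero_add] at e2), hp 4 (by rwa [zero_add] at e4)⟩
  exfalso
  have z : ∀ g0 g5 c : ZMod 2, g0 * g5 + c = 1 → (g0 + 1) * (g5 + 1) + c = 1 → g0 + g5 = 1 := by decide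
  have z' : ∀ A B c : ZMod 2, A * B + c = 1 → (1 + A) * (1 + B) + c = 1 → A + B = 1 := by decide
  have sg : g 0 + g 5 = 1 := z _ _ (g 1 * g 4 + g 2 * g 3) (by simpa [pf, add_assoc] using hg)
    (by simpa [pf, add_assoc] using hgf)
  have sh : h 0 + h 5 = 1 := z _ _ (h 1 * h 4 + h 2 * h 3) (by simpa [pf, add_assoc] using hh)
    (by simpa [pf, add_assoc] using hhf)
  have sgh : g 0 + h 0 + (g 5 + h 5) = 1 :=
    z' _ _ ((g 1 + h 1) * (g 4 + h 4) + (g 2 + h 2) * (g 3 + h 3)) (by simpa [pf, add_assoc] using e) (by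
      have e'' : (1 + g 0 + h 0) * (1 + g 5 + h 5) + (0 + g 1 + h 1) * (0 + g 4 + h 4) +
          (0 + g 2 + h 2) * (0 + g 3 + h 3) = 1 := e'
      linear_combination e'')
  have : (1 : ZMod 2) + 1 = 1 := by linear_combination sgh - sg - sh
  revert this; decide

/-- Coordinates on a totally singular subspace of dimension four. -/
structure Coord (q : QForm k) (I : Submodule (ZMod 2) (W k)) (i x : Fin 4 → W k) : Prop where
  span : I = Submodule.span (ZMod 2) (Set.range i)
  sing : q.Singular I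
  dual : ∀ j l, q.B (i j) (x l) = if j = l then 1 else 0

/-- The six entries of the form of an isometry with range in the given subspace. -/
def bits (q : QForm k) (x : Fin 4 → W k) (φ : W k →ₗ[ZMod 2] W k) : Fin 6 → ZMod 2 :=
  ![q.B (x 0) (φ (x 1)), q.B (x 0) (φ (x 2)), q.B (x 0) (φ (x 3)), q.B (x 1) (φ (x 2)), q.B (x 1) (φ (x 3)),
    q.B (x 2) (φ (x 3))]

namespace Coord

variable {q : QForm k} {I : Submodule (ZMod 2) (W k)} {i x : Fin 4 → W k}

theorem eq_zero (hc : Coord q I i x) {y : W k} (hy : y ∈ I) (h : ∀ j, q.B (x j) y = 0) : y = 0 := by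
  rw [hc.span, Submodule.mem_span_range_iff_exists_fun] at hy
  obtain ⟨c, rfl⟩ := hy
  refine Finset.sum_eq_zero fun j _ => ?_
  have e := h j
  rw [map_sum, Finset.sum_eq_single j] at e
  · rw [map_smul, q.B_symm, hc.dual, if_pos rfl, smul_eq_mul, mul_one] at e
    rw [e, zero_smul]
  · intro l _ hl
    rw [map_smul, q.B_symm, hc.dual, if_neg hl, smul_zero]
  · simp

theorem altMul_bits (hc : Coord q I i x) {g : W k →ₗ[ZMod 2] W k} (hg : q.Invol g)
    (hI : LinearMap.range (QForm.dif g) ≤ I) (v : Fin 4 → ZMod 2) (j : Fin 4) :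
    altMul (bits q x (QForm.dif g)) v j = q.B (x j) (QForm.dif g (∑ l, v l • x l)) := by
  have hsym : ∀ a b, q.B (x a) (QForm.dif g (x b)) = q.B (x b) (QForm.dif g (x a)) := fun a b => by
    rw [← hg.B_dif, q.B_symm]
  have hdiag : ∀ a, q.B (x a) (QForm.dif g (x a)) = 0 := fun a => by
    rw [← hg.iso.Q_dif]; exact hc.sing _ (hI ⟨_, rfl⟩)
  rw [Fin.sum_univ_four, map_add, map_add, map_add, map_add, map_add, map_add, map_smul, map_smul, map_smul,
    map_smul, map_smul, map_smul, map_smul, map_smul]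
  fin_cases j <;> simp [altMul, bits, hdiag, hsym 1 0, hsym 2 0, hsym 2 1, hsym 3 0, hsym 3 1, hsym 3 2] <;> ring

theorem pf_zero (hc : Coord q I i x) {g : W k →ₗ[ZMod 2] W k} (hg : q.Invol g)
    (hI : LinearMap.range (QForm.dif g) ≤ I) (hlt : finrank (ZMod 2) (LinearMap.range (QForm.dif g)) < 4) :
    pf (bits q x (QForm.dif g)) = 0 := by
  refine z2_ne_one fun h => ?_
  have hli : LinearIndependent (ZMod 2) (fun l => QForm.dif g (x l)) := by
    rw [Fintype.linearIndependent_iff]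
    intro c hsum l
    have : c = 0 := altMul_injective _ h c (funext fun j => by
      rw [hc.altMul_bits hg hI, map_sum]
      simp only [map_smul]
      rw [hsum, map_zero]
      rfl)
    rw [this]; rfl
  have h4 := finrank_span_eq_card hli
  have hle : Submodule.span (ZMod 2) (Set.range fun l => QForm.dif g (x l)) ≤ LinearMap.range (QForm.dif g) := by
    rw [Submodule.span_le]; rintro _ ⟨l, rfl⟩; exact ⟨_, rfl⟩
  have := Submodule.finrank_mono hle
  rw [Fintype.card_fin] at h4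
  omega

theorem pf_one (hc : Coord q I i x) {g : W k →ₗ[ZMod 2] W k} (hg : q.Invol g)
    (hI : LinearMap.range (QForm.dif g) = I) : pf (bits q x (QForm.dif g)) = 1 := by
  refine z2_ne_zero fun h => ?_
  obtain ⟨v, hv, hv0⟩ := altMul_kernel _ h
  apply hv
  set y := ∑ l, v l • x l
  have hy : QForm.dif g y = 0 := hc.eq_zero (hI ▸ ⟨y, rfl⟩) fun j => by
    rw [← hc.altMul_bits hg hI.le v j, hv0]; rfl
  have hmem : y ∈ q.orth I := by rw [← hI, ← hg.ker_eq]; exact hy
  funext j
  have e := q.mem_orth.1 hmem (i j) (by rw [hc.span]; exact Submodule.subset_span ⟨j, rfl⟩)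
  rw [map_sum, Finset.sum_eq_single j] at e
  · rwa [map_smul, hc.dual, if_pos rfl, smul_eq_mul, mul_one] at e
  · intro l _ hl
    rw [map_smul, hc.dual, if_neg (Ne.symm hl), smul_zero]
  · simp

end Coord

/-- An element normalising both frames, squaring to a sign, with range in the given subspace. -/
structure Member (fr : Frame k R) (fr' : Frame k R') (I : Submodule (ZMod 2) (W k)) (e : GL ι F) : Prop where
  mem : e ∈ Frame.N R
  mem' : e ∈ Frame.N R'
  sq : PM (e * e) 1
  le : LinearMap.range (fr.phi e) ≤ I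

namespace Member

variable {fr : Frame k R} {fr' : Frame k R'} {I : Submodule (ZMod 2) (W k)} {p r : GL ι F}

theorem mul (hp : Member fr fr' I p) (hr : Member fr fr' I r) (hc : PM (p * r) (r * p)) :
    Member fr fr' I (p * r) where
  mem := (Frame.N R).mul_mem hp.mem hr.mem
  mem' := (Frame.N R').mul_mem hp.mem' hr.mem'
  sq := by
    have e1 : PM (p * r * (p * r)) (p * r * (r * p)) := hc.mul_left _
    have e2 : PM (p * r * (r * p)) (p * p) := by
      rw [show p * r * (r * p) = p * (r * r) * p by group]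
      simpa using (hr.sq.mul_left p).mul_right p
    exact e1.trans (e2.trans hp.sq)
  le := by
    rintro _ ⟨x, rfl⟩
    rw [fr.phi_mul hp.mem hr.mem]
    exact I.add_mem (I.add_mem (hp.le ⟨_, rfl⟩) (hr.le ⟨_, rfl⟩)) (hp.le ⟨_, rfl⟩)

theorem phi_mul (hI : fr.q.Isotropic I) (hp : Member fr fr' I p) (hr : Member fr fr' I r) (x : W k) :
    fr.phi (p * r) x = fr.phi p x + fr.phi r x := by
  have hker : fr.phi r x ∈ LinearMap.ker (fr.phi p) := by
    rw [show fr.phi p = QForm.dif (fr.act p) from rfl, (fr.invol_of_pm hp.mem hp.sq).ker_eq]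
    exact fr.q.mem_orth.2 fun u hu => hI u (hp.le hu) _ (hr.le ⟨x, rfl⟩)
  rw [fr.phi_mul hp.mem hr.mem, LinearMap.mem_ker.1 hker, add_zero]

theorem bits_mul (hI : fr.q.Isotropic I) (hp : Member fr fr' I p) (hr : Member fr fr' I r) (x : Fin 4 → W k) :
    bits fr.q x (fr.phi (p * r)) = bits fr.q x (fr.phi p) + bits fr.q x (fr.phi r) := by
  funext j
  fin_cases j <;> simp [bits, phi_mul hI hp hr]

theorem bits_cases (h : Over f M fr) (h' : Over f M fr') (hne : R ≠ R') (hk : k = 5) {i x : Fin 4 → W k}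
    (hc : Coord fr.q I i x) (hdim : finrank (ZMod 2) I = 4) (hp : Member fr fr' I p) :
    bits fr.q x (fr.phi p) = 0 ∨ pf (bits fr.q x (fr.phi p)) = 1 := by
  have hi := fr.invol_of_pm hp.mem hp.sq
  by_cases h2 : 2 ≤ finrank (ZMod 2) (LinearMap.range (fr.phi p))
  · refine .inr (hc.pf_one hi ?_)
    have := (Over.range_allowed h h' hne hp.mem hp.mem' hp.sq h2).1
    refine Submodule.eq_of_le_of_finrank_le hp.le ?_
    simp only [Frame.phi] at this ⊢
    omega
  · left
    have hl0 : finrank (ZMod 2) (LinearMap.range (fr.phi p)) = 0 := by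
      by_contra hl
      obtain ⟨u, huQ, hu0, hu⟩ := QForm.Iso.range_one hi (show finrank (ZMod 2) (LinearMap.range (fr.phi p)) = 1 by omega)
      obtain ⟨y, hy⟩ := fr.q.exists_B_one hu0
      exact zero_ne_one ((hc.sing u (hp.le ⟨y, by rw [show fr.phi p y = _ from hu y, hy, one_smul]⟩)).symm.trans huQ)
    have hz : ∀ y, fr.phi p y = 0 := fun y => by
      have : fr.phi p y ∈ LinearMap.range (fr.phi p) := ⟨y, rfl⟩
      rwa [Submodule.finrank_eq_zero.1 hl0, Submodule.mem_bot] at this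
    funext j
    fin_cases j <;> simp [bits, hz]

end Member

namespace Over

variable {fr : Frame k R} {fr' : Frame k R'}

/-- Special involutions with mutually orthogonal planes commute. -/
theorem cz_commute {a b c d : W k} {s t : GL ι F} (hp : fr.LPair a b) (hs : fr.IsCZ a b s) (hp' : fr.LPair c d)
    (ht : fr.IsCZ c d t) (hac : fr.q.B a c = 0) (had : fr.q.B a d = 0) (hbc : fr.q.B b c = 0)
    (hbd : fr.q.B b d = 0) : s * t = t * s := by
  obtain ⟨C, D, hC, hD, rfl⟩ := id ht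
  exact (fr.blk_ok hC fr.cl_one hD hp'.qa (map_zero _) hp'.ab).commute_bl
    (hs.commute_cl hp hC (by rw [fr.q.B_symm]; exact hac) (by rw [fr.q.B_symm]; exact hbc)).symm
    (by rw [mul_one, one_mul])
    (hs.commute_cl hp hD (by rw [fr.q.B_symm]; exact had) (by rw [fr.q.B_symm]; exact hbd)).symm

theorem exists_companion_two (h : Over f M fr) (h' : Over f M fr') (hne : R ≠ R') (hk : k = 5) {e e1 : GL ι F}
    (he : e ∈ Frame.N R) (he' : e ∈ Frame.N R') (hee : PM (e * e) 1) (h1 : e1 ∈ Frame.N R) (h1' : e1 ∈ Frame.N R')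
    (h11 : PM (e1 * e1) 1) (hc : PM (e * e1) (e1 * e)) :
    ∃ v, v ≠ 0 ∧ fr'.q.Q v = 0 ∧ (∀ d, fr'.cl d ∈ R → fr'.q.B d v = 0) ∧
      PM (e * fr'.cl v) (fr'.cl v * e) ∧ PM (e1 * fr'.cl v) (fr'.cl v * e1) := by
  set U := comOrth fr fr' with hU
  set φ := fr'.phi e with hφ
  have hi := fr'.invol_of_pm he' hee
  let ψ : U →ₗ[ZMod 2] W k := φ.domRestrict U
  have hrk := LinearMap.finrank_range_add_finrank_ker ψ
  have hkeq : (LinearMap.ker ψ).map U.subtype = U ⊓ LinearMap.ker φ := by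
    rw [show LinearMap.ker ψ = (LinearMap.ker φ).comap U.subtype from LinearMap.ker_comp _ _,
      Submodule.map_comap_subtype]
  have hk2 : finrank (ZMod 2) (LinearMap.ker ψ) = finrank (ZMod 2) ↥(U ⊓ LinearMap.ker φ) := by
    rw [← hkeq, Submodule.finrank_map_subtype_eq]
  have hrle : LinearMap.range ψ ≤ U ⊓ LinearMap.ker φ := by
    rintro _ ⟨x, rfl⟩
    exact ⟨U.add_mem (comOrth_invariant e he he' x.2) x.2, hi.range_le_ker ⟨x.1, rfl⟩⟩
  have hr2 := Submodule.finrank_mono hrle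
  have h4 := finrank_comOrth h h' hne
  rw [← hU] at h4
  obtain ⟨v, hv, hv0, hvQ, hfix⟩ := (fr'.invol_of_pm h1' h11).exists_fixed_singular (U := U ⊓ LinearMap.ker φ)
    (fun x hx => ⟨comOrth_invariant e1 h1 h1' hx.1, by
      show φ (fr'.act e1 x) = 0
      rw [QForm.apply_eq_dif (fr'.act e1) x, map_add, LinearMap.mem_ker.1 hx.2, add_zero,
        show QForm.dif (fr'.act e1) x = fr'.phi e1 x from rfl, hφ, fr'.phi_commute he' h1' hc, ← hφ,
        LinearMap.mem_ker.1 hx.2, map_zero]⟩) (by omega)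
  exact ⟨v, hv0, hvQ, fun d hd => fr'.q.mem_orth.1 hv.1 d hd, (fr'.mem_ker_iff he').1 hv.2,
    (fr'.act_fix_iff h1').1 hfix⟩

/-- A plane inside the subspace gives another companion with the same range. -/
theorem candidate (h : Over f M fr) (h' : Over f M fr') (hne : R ≠ R') {I : Submodule (ZMod 2) (W k)}
    (hts : fr.q.Singular I) (hdim : finrank (ZMod 2) I = 4) {w : GL ι F} (hw : w ∈ Frame.N R)
    (hw' : w ∈ Frame.N R') (hww : PM (w * w) 1) (hwI : LinearMap.range (fr.phi w) = I) {c d : W k} {t : GL ι F}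
    (hp : fr.LPair c d) (ht : fr.IsCZ c d t) (hc : c ∈ I) (hd : d ∈ I) (htw : PM (w * t) (t * w)) {v : W k}
    (hv0 : v ≠ 0) (hvQ : fr'.q.Q v = 0) (hwv : PM (w * fr'.cl v) (fr'.cl v * w)) :
    ∃ w' c' d', fr.LPair c' d' ∧ fr.IsCZ c' d' (t * w') ∧ c' ∈ I ∧ d' ∈ I ∧ Member fr fr' I w' ∧
      PM (w * w') (w' * w) ∧ LinearMap.range (fr.phi w') = I ∧
      (∀ e, PM (e * t) (t * e) → PM (e * fr'.cl v) (fr'.cl v * e) → PM (e * w') (w' * e)) := by
  obtain ⟨hk, w', hex, hcomm⟩ := step h h' hne hp ht hv0 hvQ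
  obtain ⟨a', b', hp', ht', hsing', hdim', hrange'⟩ := hex.ex
  have hL : LinearMap.range (fr.phi t) = Submodule.span (ZMod 2) {c, d} := ht.range_eq hp
  have hLI : LinearMap.range (fr.phi t) ≤ I := by
    rw [hL, Submodule.span_le]
    rintro x (rfl | rfl) <;> assumption
  set L' := LinearMap.range (fr.phi (t * w')) with hL'
  have hL'eq : L' = Submodule.span (ZMod 2) {a', b'} := ht'.range_eq hp'
  have hrI : LinearMap.range (fr.phi w') = LinearMap.range (fr.phi t) ⊔ L' := by rw [hL, hL'eq]; exact hrange'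
  rw [← hL, ← hL'eq] at hsing' hdim'
  have htN := ht.mem_N hp
  have htwN : t * w' ∈ Frame.N R := (Frame.N R).mul_mem htN hex.mem
  have hwInv := fr.invol_of_pm hw hww
  have hw'Inv := fr.invol_of_pm hex.mem hex.sq
  have ht'Inv := fr.invol_of_pm htwN (.inl (ht'.sq hp'))
  have hcw : PM (w * w') (w' * w) := hcomm w htw hwv
  have hc2 : PM (w * (t * w')) (t * w' * w) := htw.comm_mul hcw
  have hIi := hts.isotropic
  have hsupI : L' ≤ I := by
    by_contra hnle
    obtain ⟨e3, he3, he3I⟩ := SetLike.not_le_iff_exists.1 hnle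
    -- commuting maps send one range into the intersection
    have hmapw : ∀ y ∈ L', fr.phi w y ∈ I ⊓ L' := by
      rintro _ ⟨y, rfl⟩
      exact ⟨hwI ▸ ⟨_, rfl⟩, by rw [fr.phi_commute hw htwN hc2]; exact ⟨_, rfl⟩⟩
    have hI5 := fr.q.minus
    by_cases hbot : I ⊓ L' = ⊥
    · have horth : ∀ u ∈ I, ∀ y ∈ L', fr.q.B u y = 0 := fun u hu y hy => by
        have h0 := hmapw y hy
        rw [hbot, Submodule.mem_bot] at h0
        have : y ∈ LinearMap.ker (QForm.dif (fr.act w)) := h0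
        rw [hwInv.ker_eq] at this
        exact fr.q.mem_orth.1 this u (hwI ▸ hu)
      have h6 := (hIi.sup ht'Inv.isotropic horth).finrank_le
      have h7 := Submodule.finrank_sup_add_finrank_inf_eq I L'
      rw [hbot, finrank_bot] at h7
      have h8 := cz_finrank hp' ht'
      rw [← hL'] at h8
      rw [show LinearMap.range (QForm.dif (fr.act (t * w'))) = L' from rfl] at h6
      omega
    obtain ⟨c3, hc3, hc30⟩ := (I ⊓ L').ne_bot_iff.1 hbot
    have he30 : e3 ≠ 0 := fun e => he3I (e ▸ I.zero_mem)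
    have hce : c3 ≠ e3 := fun e => he3I (e ▸ hc3.1)
    have hL'sp : L' = Submodule.span (ZMod 2) {c3, e3} := (Submodule.eq_of_le_of_finrank_le (by
      rw [Submodule.span_le]; rintro x (rfl | rfl); exacts [hc3.2, he3]) (by
      have h8 := cz_finrank hp' ht'
      rw [← hL'] at h8
      rw [finrank_span_two hc30 he30 hce, h8])).symm
    have hinf : ∀ y ∈ I ⊓ L', y = 0 ∨ y = c3 := by
      intro y hy
      have h2 : y ∈ L' := hy.2
      rw [hL'sp, mem_span_two] at h2
      rcases h2 with rfl | rfl | rfl | rfl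
      · exact .inl rfl
      · exact .inr rfl
      · exact absurd hy.1 he3I
      · exact absurd (by simpa [vadd_cancel] using I.add_mem hc3.1 hy.1) he3I
    rcases hinf _ (hmapw e3 he3) with h0 | h1
    · have hperp : ∀ u ∈ I, fr.q.B u e3 = 0 := fun u hu => by
        have : e3 ∈ LinearMap.ker (QForm.dif (fr.act w)) := h0
        rw [hwInv.ker_eq] at this
        exact fr.q.mem_orth.1 this u (hwI ▸ hu)
      exact he3I (hts.mem_of_orth (by omega) (fr.q.mem_orth.2 hperp) (cz_singular hp' ht' e3 he3))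
    -- otherwise the product has a bad range
    have hformL : ∀ y, fr.phi (t * w') y = fr.q.B e3 y • c3 + fr.q.B c3 y • e3 :=
      ht'Inv.eq_plane hc30 he30 hce (cz_singular hp' ht') hL'sp
    have hpN : w * w' ∈ Frame.N R := (Frame.N R).mul_mem hw hex.mem
    have hpN' : w * w' ∈ Frame.N R' := (Frame.N R').mul_mem hw' hex.mem'
    have hpp : PM (w * w' * (w * w')) 1 := by
      have e1 : PM (w * w' * (w * w')) (w * w' * (w' * w)) := hcw.mul_left _
      have e2 : PM (w * w' * (w' * w)) (w * w) := by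
        rw [show w * w' * (w' * w) = w * (w' * w') * w by group]
        simpa using (hex.sq.mul_left w).mul_right w
      exact e1.trans (e2.trans hww)
    have htt := ht.sq hp
    have hphw' : ∀ y, fr.phi w' y = fr.phi t y + fr.phi (t * w') y + fr.phi t (fr.phi (t * w') y) := fun y => by
      rw [← fr.phi_mul htN htwN, ← sq_mul_cancel htt]
    have hker_t : ∀ y, fr.phi t (fr.phi (t * w') y) = 0 := fun y => by
      have : fr.phi (t * w') y ∈ LinearMap.ker (QForm.dif (fr.act t)) := by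
        rw [(fr.invol_of_pm htN (.inl htt)).ker_eq]
        exact fr.q.mem_orth.2 fun u hu => hsing'.isotropic u (Submodule.mem_sup_left hu) _
          (Submodule.mem_sup_right ⟨y, rfl⟩)
      exact this
    have hwkerI : ∀ u ∈ I, fr.phi w u = 0 := fun u hu => hwInv.range_le_ker (hwI ▸ hu)
    have hww' : ∀ y, fr.phi w (fr.phi w' y) = fr.q.B c3 y • c3 := fun y => by
      rw [hphw', hker_t, add_zero, map_add, hwkerI _ (hLI ⟨y, rfl⟩), zero_add, hformL, map_add, map_smul, map_smul,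
        hwkerI _ hc3.1, h1, smul_zero, zero_add]
    have hphp : ∀ y, fr.phi (w * w') y = fr.phi w y + fr.phi w' y + fr.q.B c3 y • c3 := fun y => by
      rw [fr.phi_mul hw hex.mem, hww']
    have hQ : ∀ y, fr.q.Q (fr.phi (w * w') y) = fr.q.B c3 y := fun y => by
      have e1 : fr.q.B y (fr.phi w y) = 0 := by
        rw [← (fr.act_iso w).Q_dif]; exact hts _ (hwI ▸ ⟨y, rfl⟩)
      have e2 : fr.q.B y (fr.phi w' y) = 0 := by
        rw [← (fr.act_iso w').Q_dif]; exact hsing' _ (hrI ▸ ⟨y, rfl⟩)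
      rw [(fr.act_iso (w * w')).Q_dif, show QForm.dif (fr.act (w * w')) y = fr.phi (w * w') y from rfl, hphp,
        map_add, map_add, e1, e2, map_smul, fr.q.B_symm y c3]
      rcases z2_cases (fr.q.B c3 y) with e | e <;> simp [e]
    have hle : LinearMap.range (fr.phi (w * w')) ≤ I ⊔ Submodule.span (ZMod 2) {e3} := by
      rintro _ ⟨y, rfl⟩
      rw [hphp, hphw', hker_t, add_zero, hformL]
      refine Submodule.add_mem _ (Submodule.add_mem _ (Submodule.mem_sup_left (hwI ▸ ⟨y, rfl⟩)) ?_)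
        (Submodule.mem_sup_left (I.smul_mem _ hc3.1))
      refine Submodule.add_mem _ (Submodule.mem_sup_left (hLI ⟨y, rfl⟩)) ?_
      exact Submodule.add_mem _ (Submodule.mem_sup_left (I.smul_mem _ hc3.1))
        (Submodule.mem_sup_right (Submodule.smul_mem _ _ (Submodule.mem_span_singleton_self _)))
    have hpInv := fr.invol_of_pm hpN hpp
    set P := LinearMap.range (fr.phi (w * w')) with hP
    have hne5 : P ≠ I ⊔ Submodule.span (ZMod 2) {e3} := by
      intro heq
      have hperp : ∀ u ∈ I, fr.q.B u e3 = 0 := fun u hu =>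
        hpInv.isotropic u (show u ∈ P by rw [heq]; exact Submodule.mem_sup_left hu) e3
          (show e3 ∈ P by rw [heq]; exact Submodule.mem_sup_right (Submodule.mem_span_singleton_self _))
      exact he3I (hts.mem_of_orth (by omega) (fr.q.mem_orth.2 hperp) (cz_singular hp' ht' e3 he3))
    have hl4 : finrank (ZMod 2) P ≤ 4 := by
      have h9 := Submodule.finrank_lt_finrank_of_lt (lt_of_le_of_ne hle hne5)
      have h10 := Submodule.finrank_add_le_finrank_add_finrank I (Submodule.span (ZMod 2) {e3})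
      rw [finrank_span_singleton (K := ZMod 2) he30] at h10
      omega
    obtain ⟨y1, hy1⟩ : e3 ∈ LinearMap.range (fr.phi w') := by rw [hrI]; exact Submodule.mem_sup_right he3
    obtain ⟨y0, hy0', hy0w⟩ : ∃ y0, fr.phi w' y0 = 0 ∧ fr.phi w y0 ≠ 0 := by
      by_contra hno
      push Not at hno
      have hkle : LinearMap.ker (fr.phi w') ≤ LinearMap.ker (fr.phi w) := fun y hy => hno y hy
      have := fr.q.orth_le hkle
      rw [show fr.phi w = QForm.dif (fr.act w) from rfl, show fr.phi w' = QForm.dif (fr.act w') from rfl,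
        hwInv.ker_eq, hw'Inv.ker_eq, fr.q.orth_orth, fr.q.orth_orth] at this
      have heq : I = LinearMap.range (fr.phi w') :=
        Submodule.eq_of_le_of_finrank_le (hwI ▸ this) (by rw [hrI, hdim', hdim])
      exact he3I (by rw [heq]; exact ⟨y1, hy1⟩)
    have hp0 : fr.phi (w * w') y0 = fr.phi w y0 := by
      rw [fr.phi_mul hw hex.mem, hy0', map_zero, add_zero, add_zero]
    have hP2 : 2 ≤ finrank (ZMod 2) P := by
      have ha : fr.phi w y0 ∈ I := hwI ▸ ⟨_, rfl⟩
      have hb : fr.phi (w * w') y1 ∉ I := by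
        rw [hphp, hy1]
        intro hmem
        refine he3I ?_
        have := I.sub_mem (I.sub_mem hmem (I.smul_mem (fr.q.B c3 y1) hc3.1)) (show fr.phi w y1 ∈ I from hwI ▸ ⟨_, rfl⟩)
        simpa using this
      have hsp : Submodule.span (ZMod 2) {fr.phi w y0, fr.phi (w * w') y1} ≤ P := by
        rw [Submodule.span_le]
        rintro z (rfl | rfl)
        exacts [⟨y0, hp0⟩, ⟨y1, rfl⟩]
      have := Submodule.finrank_mono hsp
      rw [finrank_span_two hy0w (fun e => hb (by rw [e]; exact I.zero_mem)) (fun e => hb (by rw [← e]; exact ha))] at this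
      exact this
    obtain ⟨-, hPs⟩ := range_allowed h h' hne hpN hpN' hpp hP2
    obtain ⟨y, hy⟩ := fr.q.exists_B_one hc30
    have := hPs (show finrank (ZMod 2) P < k by omega) _ ⟨y, rfl⟩
    rw [hQ, hy] at this
    exact one_ne_zero this
  have hle : LinearMap.range (fr.phi w') ≤ I := by rw [hrI]; exact sup_le hLI hsupI
  refine ⟨w', a', b', hp', ht', hsupI (by rw [hL'eq]; exact Submodule.subset_span (by simp)),
    hsupI (by rw [hL'eq]; exact Submodule.subset_span (by simp)), ⟨hex.mem, hex.mem', hex.sq, hle⟩, hcw,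
    Submodule.eq_of_le_of_finrank_le hle (by rw [hrI, hdim', hdim]), hcomm⟩

/-- The exceptional companion does not exist. -/
theorem no_excep (h : Over f M fr) (h' : Over f M fr') (hne : R ≠ R') (hk : k = 5) {a b : W k} {t w : GL ι F}
    (hp : fr.LPair a b) (ht : fr.IsCZ a b t) (hex : Excep fr fr' a b t w) : False := by
  obtain ⟨a', b', hp', ht', hts, hdim, hrange⟩ := hex.ex
  set I := Submodule.span (ZMod 2) ({a, b} : Set (W k)) ⊔ Submodule.span (ZMod 2) {a', b'} with hI
  set i : Fin 4 → W k := ![a, b, a', b'] with hi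
  have hspan : I = Submodule.span (ZMod 2) (Set.range i) := by
    rw [hI, ← Submodule.span_union]
    congr 1
    ext z
    simp [hi, eq_comm, or_comm, or_left_comm]
  let Φ : W k →ₗ[ZMod 2] (Fin 4 → ZMod 2) := LinearMap.pi fun j => fr.q.B (i j)
  have hsurj : Function.Surjective Φ := by
    rw [← LinearMap.range_eq_top]
    apply Submodule.eq_top_of_finrank_eq
    have h1 := LinearMap.finrank_range_add_finrank_ker Φ
    have h2 : LinearMap.ker Φ = fr.q.orth I := by
      ext y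
      rw [LinearMap.mem_ker, hspan, fr.q.mem_orth_span]
      constructor
      · rintro e _ ⟨j, rfl⟩; exact congrFun e j
      · exact fun e => funext fun j => e _ ⟨j, rfl⟩
    have h3 := fr.q.finrank_orth I
    rw [h2, QForm.finrank_W] at h1
    rw [Module.finrank_pi, Fintype.card_fin]
    omega
  choose x hx using fun l : Fin 4 => hsurj (Pi.single l 1)
  have hc : Coord fr.q I i x := ⟨hspan, hts, fun j l => by
    have := congrFun (hx l) j
    rw [Pi.single_apply] at this
    exact this⟩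
  have hmem : ∀ j, i j ∈ I := fun j => by rw [hspan]; exact Submodule.subset_span ⟨j, rfl⟩
  have hIi := hts.isotropic
  have htt := ht.sq hp
  have htN := ht.mem_N hp
  have htwN : t * w ∈ Frame.N R := (Frame.N R).mul_mem htN hex.mem
  have hwM : Member fr fr' I w := ⟨hex.mem, hex.mem', hex.sq, hrange.le⟩
  -- the bits of a plane inside
  have hbits : ∀ {c d : W k} {s : GL ι F}, fr.LPair c d → fr.IsCZ c d s → ∀ j l, fr.q.B (x j) (fr.phi s (x l)) =
      fr.q.B d (x l) * fr.q.B c (x j) + fr.q.B c (x l) * fr.q.B d (x j) := fun {c d s} hcd hs j l => by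
    rw [hs.phi_eq hcd, map_add, map_smul, map_smul, smul_eq_mul, smul_eq_mul, fr.q.B_symm (x j),
      fr.q.B_symm (x j)]
  have hd : ∀ j l, fr.q.B (i j) (x l) = if j = l then 1 else 0 := hc.dual
  have ha : ∀ l, fr.q.B a (x l) = if 0 = l then 1 else 0 := hd 0
  have hb : ∀ l, fr.q.B b (x l) = if 1 = l then 1 else 0 := hd 1
  have ha' : ∀ l, fr.q.B a' (x l) = if 2 = l then 1 else 0 := hd 2
  have hb' : ∀ l, fr.q.B b' (x l) = if 3 = l then 1 else 0 := hd 3
  have hphw : ∀ y, fr.phi w y = fr.phi t y + fr.phi (t * w) y + fr.phi t (fr.phi (t * w) y) := fun y => by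
    rw [← fr.phi_mul htN htwN, ← sq_mul_cancel htt]
  have hfw : bits fr.q x (fr.phi w) = ![1, 0, 0, 0, 0, 1] := by
    have hz : ∀ y, fr.phi t (fr.phi (t * w) y) = 0 := fun y => by
      have hm : fr.phi (t * w) y ∈ LinearMap.ker (QForm.dif (fr.act t)) := by
        rw [(fr.invol_of_pm htN (.inl htt)).ker_eq]
        refine fr.q.mem_orth.2 fun u hu => hIi u ?_ _ ?_
        · rw [show QForm.dif (fr.act t) = fr.phi t from rfl, ht.range_eq hp] at hu
          exact Submodule.mem_sup_left hu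
        · exact Submodule.mem_sup_right (ht'.range_eq hp' ▸ ⟨y, rfl⟩)
      exact hm
    funext j
    fin_cases j <;> simp [bits, hphw, hz, hbits hp ht, hbits hp' ht', ha, hb, ha', hb']
  have hf1 : pf (bits fr.q x (fr.phi w)) = 1 := by rw [hfw]; decide
  -- planes commute with the companion
  have hwcomm : ∀ {c d : W k} {s : GL ι F}, fr.LPair c d → fr.IsCZ c d s → c ∈ I → d ∈ I → w * s = s * w := by
    intro c d s hcd hs hcI hdI
    have e1 : t * s = s * t := cz_commute hp ht hcd hs (hIi _ (hmem 0) _ hcI) (hIi _ (hmem 0) _ hdI)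
      (hIi _ (hmem 1) _ hcI) (hIi _ (hmem 1) _ hdI)
    have e2 : t * w * s = s * (t * w) := cz_commute hp' ht' hcd hs (hIi _ (hmem 2) _ hcI) (hIi _ (hmem 2) _ hdI)
      (hIi _ (hmem 3) _ hcI) (hIi _ (hmem 3) _ hdI)
    calc w * s = t * (t * w * s) := by rw [mul_assoc t w, ← sq_mul_cancel htt]
      _ = t * s * (t * w) := by rw [e2, mul_assoc]
      _ = s * w := by rw [e1, mul_assoc, ← sq_mul_cancel htt]
  -- a companion for each plane
  have hcand : ∀ (c : W k), c ≠ 0 → c ≠ a' → c ∈ I →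
      ∃ tc, fr.IsCZ c a' tc ∧ fr.LPair c a' ∧ PM (w * tc) (tc * w) := fun c hc0 hca hcI =>
    ⟨bl (fr.cl c) 1 (fr.cl a'), ⟨_, _, .inl rfl, .inl rfl, rfl⟩,
      ⟨hc0, hp'.a0, hca, hts c hcI, hp'.qa, hIi _ hcI _ (hmem 2)⟩,
      .inl (hwcomm ⟨hc0, hp'.a0, hca, hts c hcI, hp'.qa, hIi _ hcI _ (hmem 2)⟩
        ⟨_, _, .inl rfl, .inl rfl, rfl⟩ hcI (hmem 2))⟩
  have hne_of : ∀ {c : W k} (l : Fin 4), fr.q.B c (x l) ≠ fr.q.B a' (x l) → c ≠ a' := fun l hl e => hl (e ▸ rfl)
  have hpfrel : ∀ {c : W k} {tc wc : GL ι F} {c' d' : W k}, fr.LPair c a' → fr.IsCZ c a' tc → c ∈ I →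
      fr.LPair c' d' → fr.IsCZ c' d' (tc * wc) → c' ∈ I → d' ∈ I → Member fr fr' I wc →
      pf (bits fr.q x (fr.phi tc) + bits fr.q x (fr.phi wc)) = 0 := by
    intro c tc wc c' d' hcp htc hcI hc'p htcw hc'I hd'I hwc
    have htcI : ∀ y, fr.phi tc y ∈ I := fun y => by
      rw [htc.phi_eq hcp]
      exact I.add_mem (I.smul_mem _ hcI) (I.smul_mem _ (hmem 2))
    have hadd : ∀ y, fr.phi (tc * wc) y = fr.phi tc y + fr.phi wc y := fun y => by
      have hker : fr.phi wc y ∈ LinearMap.ker (fr.phi tc) := by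
        rw [show fr.phi tc = QForm.dif (fr.act tc) from rfl,
          (fr.invol_of_pm (htc.mem_N hcp) (.inl (htc.sq hcp))).ker_eq]
        refine fr.q.mem_orth.2 fun u hu => hIi u ?_ _ (hwc.le ⟨y, rfl⟩)
        obtain ⟨z, rfl⟩ := hu
        exact htcI z
      rw [fr.phi_mul (htc.mem_N hcp) hwc.mem, LinearMap.mem_ker.1 hker, add_zero]
    have hb2 : bits fr.q x (fr.phi (tc * wc)) = bits fr.q x (fr.phi tc) + bits fr.q x (fr.phi wc) := by
      funext j
      fin_cases j <;> simp [bits, hadd]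
    rw [← hb2]
    refine hc.pf_zero (fr.invol_of_pm (htcw.mem_N hc'p) (.inl (htcw.sq hc'p))) ?_ (by
      rw [cz_finrank hc'p htcw]; norm_num)
    rw [htcw.range_eq hc'p, Submodule.span_le]
    rintro z (rfl | rfl) <;> assumption
  -- the first companion
  obtain ⟨t1, ht1, hp1, hwt1⟩ := hcand a hp.a0 (hne_of 0 (by rw [ha, ha']; decide)) (hmem 0)
  obtain ⟨v1, hv10, hv1Q, -, hwv1⟩ := exists_companion h h' hne hex.mem hex.mem' hex.sq
  obtain ⟨w1, c1, d1, hq1, hs1, hc1, hd1, hm1, hww1, hr1, -⟩ :=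
    candidate h h' hne hts hdim hex.mem hex.mem' hex.sq hrange hp1 ht1 (hmem 0) (hmem 2) hwt1 hv10 hv1Q hwv1
  -- a companion commuting with the first two
  have hnext : ∀ c, c ≠ 0 → c ≠ a' → c ∈ I →
      ∃ tc wc, fr.IsCZ c a' tc ∧ fr.LPair c a' ∧ Member fr fr' I wc ∧ PM (w * wc) (wc * w) ∧
        PM (w1 * wc) (wc * w1) ∧ LinearMap.range (fr.phi wc) = I ∧
        pf (bits fr.q x (fr.phi tc) + bits fr.q x (fr.phi wc)) = 0 := by
    intro c hc0 hca hcI
    obtain ⟨tc, htc, hpc, hwtc⟩ := hcand c hc0 hca hcI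
    have e1 : t1 * w1 * tc = tc * (t1 * w1) := cz_commute hq1 hs1 hpc htc (hIi _ hc1 _ hcI)
      (hIi _ hc1 _ (hmem 2)) (hIi _ hd1 _ hcI) (hIi _ hd1 _ (hmem 2))
    have e2 : t1 * tc = tc * t1 := cz_commute hp1 ht1 hpc htc (hIi _ (hmem 0) _ hcI)
      (hIi _ (hmem 0) _ (hmem 2)) (hIi _ (hmem 2) _ hcI) (hIi _ (hmem 2) _ (hmem 2))
    have h1tc : w1 * tc = tc * w1 := by
      have htt1 := ht1.sq hp1
      calc w1 * tc = t1 * (t1 * w1 * tc) := by rw [mul_assoc t1 w1, ← sq_mul_cancel htt1]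
        _ = t1 * tc * (t1 * w1) := by rw [e1, mul_assoc]
        _ = tc * w1 := by rw [e2, mul_assoc, ← sq_mul_cancel htt1]
    obtain ⟨v, hv0, hvQ, -, hwv, h1v⟩ :=
      exists_companion_two h h' hne hk hex.mem hex.mem' hex.sq hm1.mem hm1.mem' hm1.sq hww1
    obtain ⟨wc, c', d', hqc, hsc, hc', hd', hmc, hwwc, hrc, hcomm⟩ :=
      candidate h h' hne hts hdim hex.mem hex.mem' hex.sq hrange hpc htc hcI (hmem 2) hwtc hv0 hvQ hwv
    exact ⟨tc, wc, htc, hpc, hmc, hwwc, hcomm w1 (.inl h1tc) h1v, hrc,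
      hpfrel hpc htc hcI hqc hsc hc' hd' hmc⟩
  have hab0 : a + b ≠ 0 := fun e => hp.ne (vadd_eq_zero e)
  obtain ⟨t2, w2, ht2, hp2, hm2, hw2, h12, hr2, hpf2⟩ :=
    hnext b hp.b0 (hne_of 1 (by rw [hb, ha']; decide)) (hmem 1)
  obtain ⟨t3, w3, ht3, hp3, hm3, hw3, h13, hr3, hpf3⟩ := hnext (a + b) hab0
    (hne_of 0 (by rw [map_add, LinearMap.add_apply, ha, hb, ha']; decide)) (I.add_mem (hmem 0) (hmem 1))
  have hpf1 := hpfrel hp1 ht1 (hmem 0) hq1 hs1 hc1 hd1 hm1
  have hb1 : bits fr.q x (fr.phi t1) = ![0, 1, 0, 0, 0, 0] := by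
    funext j; fin_cases j <;> simp [bits, hbits hp1 ht1, ha, ha']
  have hb2 : bits fr.q x (fr.phi t2) = ![0, 0, 0, 1, 0, 0] := by
    funext j; fin_cases j <;> simp [bits, hbits hp2 ht2, hb, ha']
  have hb3 : bits fr.q x (fr.phi t3) = ![0, 1, 0, 1, 0, 0] := by
    funext j; fin_cases j <;> simp [bits, hbits hp3 ht3, ha, hb, ha', map_add]
  rw [hb1] at hpf1
  rw [hb2] at hpf2
  rw [hb3] at hpf3
  have hg1 : pf (bits fr.q x (fr.phi w1)) = 1 := hc.pf_one (fr.invol_of_pm hm1.mem hm1.sq) hr1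
  have hg2 : pf (bits fr.q x (fr.phi w2)) = 1 := hc.pf_one (fr.invol_of_pm hm2.mem hm2.sq) hr2
  have hg3 : pf (bits fr.q x (fr.phi w3)) = 1 := hc.pf_one (fr.invol_of_pm hm3.mem hm3.sq) hr3
  have hflip : ∀ {wc : GL ι F} {v : Fin 6 → ZMod 2}, Member fr fr' I wc → PM (w * wc) (wc * w) →
      pf (v + bits fr.q x (fr.phi wc)) = 0 → pf (v + ![1, 0, 0, 0, 0, 1]) = 1 →
      pf (bits fr.q x (fr.phi wc) + ![1, 0, 0, 0, 0, 1]) = 1 := by
    intro wc v hmc hwc h0 h1
    have hcases := Member.bits_cases h h' hne hk hc hdim (hwM.mul hmc hwc)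
    rw [Member.bits_mul hIi hwM hmc, hfw, add_comm] at hcases
    refine hcases.resolve_left fun e => ?_
    rw [vadd_eq_zero e, h1] at h0
    exact one_ne_zero h0
  have hgf := hflip hm1 hww1 hpf1 (by decide)
  have hagree : ∀ {wc : GL ι F}, Member fr fr' I wc → PM (w * wc) (wc * w) → PM (w1 * wc) (wc * w1) →
      pf (bits fr.q x (fr.phi wc)) = 1 → pf (bits fr.q x (fr.phi wc) + ![1, 0, 0, 0, 0, 1]) = 1 →
      bits fr.q x (fr.phi wc) 2 = bits fr.q x (fr.phi w1) 2 ∧ bits fr.q x (fr.phi wc) 4 = bits fr.q x (fr.phi w1) 4 := by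
    intro wc hmc hwc h1c hgc hcf
    refine pair_agree _ _ hg1 hgc hgf hcf ?_ ?_
    · have := Member.bits_cases h h' hne hk hc hdim (hm1.mul hmc h1c)
      rwa [Member.bits_mul hIi hm1 hmc] at this
    · have hwc' : PM (w * w1 * wc) (wc * (w * w1)) := (hwc.symm.comm_mul h1c.symm).symm
      have := Member.bits_cases h h' hne hk hc hdim ((hwM.mul hm1 hww1).mul hmc hwc')
      rwa [Member.bits_mul hIi (hwM.mul hm1 hww1) hmc, Member.bits_mul hIi hwM hm1, hfw] at this
  obtain ⟨e22, -⟩ := hagree hm2 hw2 h12 hg2 (hflip hm2 hw2 hpf2 (by decide))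
  obtain ⟨e32, e34⟩ := hagree hm3 hw3 h13 hg3 (hflip hm3 hw3 hpf3 (by decide))
  set g1 := bits fr.q x (fr.phi w1)
  set g2 := bits fr.q x (fr.phi w2)
  set g3 := bits fr.q x (fr.phi w3)
  simp only [pf, Pi.add_apply] at hg1 hg2 hg3 hpf1 hpf2 hpf3
  simp at hpf1 hpf2 hpf3
  have z : (g1 4 + 1) + (g2 2 + 1) + (g3 2 + g3 4 + 1) = 0 := by
    linear_combination (hpf1 - hg1) + (hpf2 - hg2) + (hpf3 - hg3)
  rw [e22, e32, e34] at z
  have : (1 : ZMod 2) = 0 := by
    linear_combination z - z2_self (g1 4) - z2_self (g1 2) - z2_self (1 : ZMod 2)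
  exact one_ne_zero this

end Over

end Cfsg.Agent.H57.CSix
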