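import Cfsg.Agent.H57.CSix.Norm
import Cfsg.Agent.H57.CSix.Dihedral

/-!
Singular elements of two frames are conjugate, and the involutions normalising both frames are restricted.
-/

set_option autoImplicit false
set_option linter.unusedSectionVars false

namespace Cfsg.Agent.H57.CSix

open Matrix Module

variable {ι : Type} [Fintype ι] [DecidableEq ι] {F : Type*} [Field F] [Fintype F]
variable {f : (ι → F) → (ι → F) → F} {M : Subgroup (GL ι F)} {k : ℕ}
variable {R R' : Subgroup (GL ι F)}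

namespace Over

variable {fr : Frame k R} {fr' : Frame k R'}

/-- A conjugate of a singular element in the normaliser lies in the group. -/
theorem conj_mem {R'' : Subgroup (GL ι F)} {fr'' : Frame k R''} (h : Over f M fr) (h'' : Over f M fr'') {v : W k}
    (hv0 : v ≠ 0) (hvQ : fr''.q.Q v = 0) {g : GL ι F} (hg : g ∈ M) (hN : g * fr''.cl v * g⁻¹ ∈ Frame.N R) :
    g * fr''.cl v * g⁻¹ ∈ R := by
  by_contra hno
  refine no_singular_norm (fr' := fr''.conj g) h (h''.conj hg) (fun e => hno ?_) hv0 hvQ hN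
  rw [e]
  exact ⟨_, fr''.cl_mem v, rfl⟩

/-- A singular element of one frame and a singular element of the other orthogonal to the common part are
conjugate by an element commuting with their common centraliser. -/
theorem conj_singular (h : Over f M fr) (h' : Over f M fr') (hne : R ≠ R') {z v : W k} (hz0 : z ≠ 0)
    (hzQ : fr.q.Q z = 0) (hv0 : v ≠ 0) (hvQ : fr'.q.Q v = 0)
    (hvD : ∀ d, fr'.cl d ∈ R → fr'.q.B d v = 0) :
    ∃ c ∈ M, PM (c * fr.cl z * c⁻¹) (fr'.cl v) ∧ ∀ e, PM (e * fr.cl z) (fr.cl z * e) →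
      PM (e * fr'.cl v) (fr'.cl v * e) → PM (e * c) (c * e) := by
  rcases dihedral (h.cl_mem z) (h'.cl_mem v) (fr.cl_sq_zero hzQ) (fr'.cl_sq_zero hvQ) with h1 | h1
  · exact h1
  exfalso
  obtain ⟨w, hwM, hw1, -, hwZ, hwY, -, hcases⟩ := h1
  have hwN : w ∈ Frame.N R := h.cent z w hz0 hzQ hwM hwZ.symm
  have hwN' : w ∈ Frame.N R' := h'.cent v w hv0 hvQ hwM hwY.symm
  have hZw := (Frame.N R).mul_mem (fr.cl_mem_N z) hwN
  have hYw := (Frame.N R').mul_mem (fr'.cl_mem_N v) hwN'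
  have main : fr.cl z * w ∈ R ∧ fr'.cl v * w ∈ R' ∧ fr'.cl v * w * (fr'.cl v * w) = 1 := by
    have hsq : ∀ (g X : GL ι F), X * X = 1 → g * X * g⁻¹ * (g * X * g⁻¹) = 1 := fun g X e => by
      rw [show g * X * g⁻¹ * (g * X * g⁻¹) = g * (X * X) * g⁻¹ by group, e, mul_one, mul_inv_cancel]
    rcases hcases with ⟨⟨g, hg, e⟩, g', hg', e'⟩ | ⟨⟨g, hg, e⟩, g', hg', e'⟩
    · exact ⟨e ▸ h.conj_mem h hz0 hzQ hg (e ▸ hZw), e' ▸ h'.conj_mem h' hv0 hvQ hg' (e' ▸ hYw),
        e' ▸ hsq _ _ (fr'.cl_sq_zero hvQ)⟩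
    · exact ⟨e ▸ h.conj_mem h' hv0 hvQ hg (e ▸ hZw), e' ▸ h'.conj_mem h hz0 hzQ hg' (e' ▸ hYw),
        e' ▸ hsq _ _ (fr.cl_sq_zero hzQ)⟩
  obtain ⟨hwR, hwR', hsq⟩ := main
  have hwR0 : w ∈ R := by simpa using R.mul_mem (R.inv_mem (fr.cl_mem z)) hwR
  have hwR1 : w ∈ R' := by simpa using R'.mul_mem (R'.inv_mem (fr'.cl_mem v)) hwR'
  obtain ⟨d, hd⟩ := fr'.surj w hwR1
  have hd0 : d ≠ 0 := fun e => hw1 (hd.trans (PM.of_eq (by rw [e, fr'.cl_zero])))
  have hdR : fr'.cl d ∈ R := hd.symm.mem fr.neg_mem hwR0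
  have hQd := common_anisotropic h' h hne.symm hdR hd0
  have hQ := fr'.Q_of_invol ((hd.mul_left (fr'.cl v)).trans (fr'.cl_mul v d)) hsq
  rw [fr'.q.Q_add, hvQ, hQd, fr'.q.B_symm, hvD d hdR] at hQ
  simp at hQ

/-- The orthogonal of the common part. -/
def comOrth (fr : Frame k R) (fr' : Frame k R') : Submodule (ZMod 2) (W k) :=
  fr'.q.orth (fr'.pre R fr.neg_mem)

theorem finrank_comOrth (h : Over f M fr) (h' : Over f M fr') (hne : R ≠ R') :
    2 * k ≤ finrank (ZMod 2) (comOrth fr fr') + 2 := by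
  have h1 := fr'.q.finrank_orth (fr'.pre R fr.neg_mem)
  have h2 : finrank (ZMod 2) (fr'.pre R fr.neg_mem) ≤ 2 := by
    by_contra hgt
    obtain ⟨d, hd, hd0, hdQ⟩ := fr'.q.exists_singular (U := fr'.pre R fr.neg_mem) (by omega)
    exact zero_ne_one (hdQ.symm.trans (common_anisotropic h' h hne.symm hd hd0))
  unfold comOrth
  omega

theorem comOrth_invariant (g : GL ι F) (hg : g ∈ Frame.N R) (hg' : g ∈ Frame.N R') {x : W k}
    (hx : x ∈ comOrth fr fr') : fr'.act g x ∈ comOrth fr fr' := by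
  refine fr'.q.mem_orth.2 fun d hd => ?_
  have hpre : fr'.act g⁻¹ d ∈ fr'.pre R fr.neg_mem :=
    (fr'.act_spec ((Frame.N R').inv_mem hg') d).symm.mem fr.neg_mem
      ((Subgroup.mem_normalizer_iff.1 ((Frame.N R).inv_mem hg) _).1 hd)
  rw [← (fr'.act_iso g⁻¹).B_map, fr'.act_inv hg']
  exact fr'.q.mem_orth.1 hx _ hpre

/-- A singular vector orthogonal to the common part whose element commutes with a given involution. -/
theorem exists_companion (h : Over f M fr) (h' : Over f M fr') (hne : R ≠ R') {e : GL ι F}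
    (he : e ∈ Frame.N R) (he' : e ∈ Frame.N R') (hee : PM (e * e) 1) :
    ∃ v, v ≠ 0 ∧ fr'.q.Q v = 0 ∧ (∀ d, fr'.cl d ∈ R → fr'.q.B d v = 0) ∧ PM (e * fr'.cl v) (fr'.cl v * e) := by
  have h3 := h.three
  have h4 := finrank_comOrth h h' hne
  obtain ⟨v, hv, hv0, hvQ, hvfix⟩ := (fr'.invol_of_pm he' hee).exists_fixed_singular
    (U := comOrth fr fr') (fun x hx => comOrth_invariant e he he' hx) (by omega)
  exact ⟨v, hv0, hvQ, fun d hd => fr'.q.mem_orth.1 hv d hd, (fr'.act_fix_iff he').1 hvfix⟩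

/-- An element normalising both frames and squaring to a sign has a restricted range. -/
theorem range_allowed (h : Over f M fr) (h' : Over f M fr') (hne : R ≠ R') {e : GL ι F}
    (he : e ∈ Frame.N R) (he' : e ∈ Frame.N R') (hee : PM (e * e) 1)
    (h2 : 2 ≤ finrank (ZMod 2) (LinearMap.range (fr.phi e))) :
    k ≤ finrank (ZMod 2) (LinearMap.range (fr.phi e)) + 1 ∧
      (finrank (ZMod 2) (LinearMap.range (fr.phi e)) < k → fr.q.Singular (LinearMap.range (fr.phi e))) := by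
  refine (fr.invol_of_pm he hee).allowed ?_ h2
  intro y z hy hy0 hyQ hz hzQ
  rcases eq_or_ne z 0 with rfl | hz0
  · exact Submodule.zero_mem _
  obtain ⟨v, hv0, hvQ, hvD, hev⟩ := exists_companion h h' hne he he' hee
  obtain ⟨c1, hc1, hc1', hc1e⟩ := conj_singular h h' hne hy0 hyQ hv0 hvQ hvD
  obtain ⟨c2, hc2, hc2', hc2e⟩ := conj_singular h h' hne hz0 hzQ hv0 hvQ hvD
  have hye : PM (e * fr.cl y) (fr.cl y * e) :=
    (fr.mem_ker_iff he).1 ((fr.invol_of_pm he hee).range_le_ker hy)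
  have hze : PM (e * fr.cl z) (fr.cl z * e) := (fr.act_fix_iff he).1 hz
  set g := c2⁻¹ * c1 with hg
  have hgM : g ∈ M := M.mul_mem (M.inv_mem hc2) hc1
  have hge : PM (e * g) (g * e) := (hc2e e hze hev).comm_inv.comm_mul (hc1e e hye hev)
  have hconj : PM (g * fr.cl y * g⁻¹) (fr.cl z) := by
    have := (hc1'.trans hc2'.symm).conj c2⁻¹
    rw [hg]; convert this using 1 <;> group
  have hgN : g ∈ Frame.N R := h.fusion hgM hy0 hyQ hconj
  have hact := fr.act_eq hgN hconj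
  obtain ⟨x, rfl⟩ := hy
  refine ⟨fr.act g x, ?_⟩
  rw [← hact, QForm.dif_apply, QForm.dif_apply, map_add, ← fr.act_mul he hgN,
    fr.act_pm hge ((Frame.N R).mul_mem he hgN) ((Frame.N R).mul_mem hgN he), fr.act_mul hgN he]

/-- An element normalising both frames, acting trivially on the first, is a sign times a non-singular element. -/
theorem trivial_nonsingular (h : Over f M fr) (h' : Over f M fr') (hne : R ≠ R') {e : GL ι F}
    (he : e ∈ Frame.N R) (he' : e ∈ Frame.N R') (heS : e ∈ H95.isoGrp f) (he1 : ¬ PM e 1)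
    (h0 : ∀ w, fr.phi e w = 0) : ∃ r, PM e (fr.cl r) ∧ fr.q.Q r = 1 := by
  obtain ⟨r, hr⟩ := fr.pm_of_act_id h.symp he heS h.Rle fun w => by
    rw [QForm.apply_eq_dif]; show fr.phi e w + w = w; rw [h0, zero_add]
  refine ⟨r, hr, z2_ne_zero fun hQ => ?_⟩
  have hr0 : r ≠ 0 := fun e0 => he1 (hr.trans (PM.of_eq (by rw [e0, fr.cl_zero])))
  exact no_singular_norm h' h hne.symm hr0 hQ (hr.symm.mem (neg_N fr') he')

end Over

/-- A range of dimension one is spanned by a non-singular vector. -/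
theorem QForm.Iso.range_one {q : QForm k} {g : W k →ₗ[ZMod 2] W k} (h : q.Invol g)
    (h1 : finrank (ZMod 2) (LinearMap.range (QForm.dif g)) = 1) :
    ∃ u, q.Q u = 1 ∧ u ≠ 0 ∧ ∀ x, QForm.dif g x = q.B u x • u := by
  obtain ⟨⟨u, hu⟩, hu0, hall⟩ := finrank_eq_one_iff'.1 h1
  have hu0' : u ≠ 0 := fun e => hu0 (Subtype.ext e)
  have hrange : ∀ x, QForm.dif g x = 0 ∨ QForm.dif g x = u := fun x => by
    obtain ⟨c, hc⟩ := hall ⟨_, ⟨x, rfl⟩⟩
    rw [← show c • u = QForm.dif g x from congrArg Subtype.val hc]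
    exact smul_cases c u
  have hker : ∀ x, QForm.dif g x = 0 ↔ q.B u x = 0 := by
    intro x
    rw [← LinearMap.mem_ker, h.ker_eq, q.mem_orth]
    refine ⟨fun hh => hh u hu, ?_⟩
    rintro hh _ ⟨y, rfl⟩
    rcases hrange y with e | e <;> simp [e, hh]
  have hdef : ∀ x, QForm.dif g x = q.B u x • u := fun x => by
    rcases z2_cases (q.B u x) with e | e
    · rw [e, zero_smul]; exact (hker x).2 e
    · rw [e, one_smul]; exact (hrange x).resolve_left fun e' => by
        rw [(hker x).1 e'] at e; exact zero_ne_one e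
  refine ⟨u, ?_, hu0', hdef⟩
  obtain ⟨y, hy⟩ := q.exists_B_one hu0'
  have := h.iso.Q_dif y
  rwa [hdef, hy, one_smul, q.B_symm, hy] at this

end Cfsg.Agent.H57.CSix
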