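import Cfsg.Agent.H57.CSix.F2Quad
import Cfsg.Agent.H95.Symp

/-!
An absolutely irreducible extraspecial group of minus type seen through its quadratic space, and the action
of its normaliser on that space.
-/

set_option autoImplicit false
set_option linter.unusedSectionVars false

namespace Cfsg.Agent.H57.CSix

open Matrix

variable {ι : Type} [Fintype ι] [DecidableEq ι] {F : Type*} [Field F]

/-- Equality up to sign. -/
def PM (a b : GL ι F) : Prop := a = b ∨ a = -b

namespace PM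

variable {a b c d : GL ι F}

theorem refl (a : GL ι F) : PM a a := .inl rfl

theorem of_eq (h : a = b) : PM a b := .inl h

theorem neg_self (a : GL ι F) : PM (-a) a := .inr rfl

theorem symm (h : PM a b) : PM b a := by
  rcases h with rfl | rfl
  · exact .inl rfl
  · exact .inr (neg_neg b).symm

theorem trans (h : PM a b) (h' : PM b c) : PM a c := by
  rcases h with rfl | rfl <;> rcases h' with rfl | rfl
  · exact .inl rfl
  · exact .inr rfl
  · exact .inr rfl
  · exact .inl (neg_neg c)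

theorem mul (h : PM a b) (h' : PM c d) : PM (a * c) (b * d) := by
  rcases h with rfl | rfl <;> rcases h' with rfl | rfl
  · exact .inl rfl
  · exact .inr (mul_neg _ _)
  · exact .inr (neg_mul _ _)
  · exact .inl (neg_mul_neg _ _)

theorem mul_left (x : GL ι F) (h : PM a b) : PM (x * a) (x * b) := (PM.refl x).mul h

theorem mul_right (h : PM a b) (x : GL ι F) : PM (a * x) (b * x) := h.mul (PM.refl x)

theorem conj (x : GL ι F) (h : PM a b) : PM (x * a * x⁻¹) (x * b * x⁻¹) := (h.mul_left x).mul_right _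

theorem inv (h : PM a b) : PM a⁻¹ b⁻¹ := by
  rcases h with rfl | rfl
  · exact .inl rfl
  · exact .inr inv_neg

theorem pow (h : PM a b) : ∀ n : ℕ, PM (a ^ n) (b ^ n)
  | 0 => .inl (by rw [pow_zero, pow_zero])
  | n + 1 => by rw [pow_succ, pow_succ]; exact (h.pow n).mul h

theorem neg_left (h : PM a b) : PM (-a) b := (PM.neg_self a).trans h

theorem neg_right (h : PM a b) : PM a (-b) := h.trans (PM.neg_self b).symm

theorem sq_eq (h : PM a b) : a * a = b * b := by
  rcases h with rfl | rfl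
  · rfl
  · exact neg_mul_neg _ _

theorem mem {H : Subgroup (GL ι F)} (hneg : (-1 : GL ι F) ∈ H) (h : PM a b) (hb : b ∈ H) : a ∈ H := by
  rcases h with rfl | rfl
  · exact hb
  · rw [← neg_one_mul]; exact H.mul_mem hneg hb

/-- Commuting up to sign is inherited by inverses. -/
theorem comm_inv (h : PM (a * b) (b * a)) : PM (a * b⁻¹) (b⁻¹ * a) := by
  have := ((h.mul_left b⁻¹).mul_right b⁻¹).symm
  rwa [show b⁻¹ * (b * a) * b⁻¹ = a * b⁻¹ by group, show b⁻¹ * (a * b) * b⁻¹ = b⁻¹ * a by group] at this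

theorem conj_of_comm (h : PM (a * b) (b * a)) : PM (a * b * a⁻¹) b := by
  have := h.mul_right a⁻¹
  rwa [mul_assoc b a, mul_inv_cancel, mul_one] at this

theorem comm_of_conj (h : PM (a * b * a⁻¹) b) : PM (a * b) (b * a) := by
  have := h.mul_right a
  rwa [inv_mul_cancel_right] at this

theorem comm_mul (h : PM (a * b) (b * a)) (h' : PM (a * c) (c * a)) : PM (a * (b * c)) (b * c * a) := by
  have h2 : PM (b * a * c) (b * c * a) := by rw [mul_assoc, mul_assoc]; exact h'.mul_left b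
  have := (h.mul_right c).trans h2
  rwa [mul_assoc] at this

theorem comm_pow (h : PM (a * b) (b * a)) : ∀ n : ℕ, PM (a * b ^ n) (b ^ n * a)
  | 0 => .inl (by rw [pow_zero, mul_one, one_mul])
  | n + 1 => by rw [pow_succ]; exact (h.comm_pow n).comm_mul h

end PM

/-- A sign given by an element of the field with two elements. -/
def sg (x : ZMod 2) (g : GL ι F) : GL ι F := if x = 0 then g else -g

theorem sg_zero (g : GL ι F) : sg 0 g = g := if_pos rfl

theorem sg_one (g : GL ι F) : sg 1 g = -g := if_neg one_ne_zero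

theorem sg_PM (x : ZMod 2) (g : GL ι F) : PM (sg x g) g := by
  rcases z2_cases x with rfl | rfl
  · exact .inl (sg_zero g)
  · exact .inr (sg_one g)

theorem sg_add (x y : ZMod 2) (g : GL ι F) : sg (x + y) g = sg x (sg y g) := by
  rcases z2_cases x with rfl | rfl <;> rcases z2_cases y with rfl | rfl <;>
    simp [sg_zero, sg_one, z2_self]

theorem mul_sg (x : ZMod 2) (g h : GL ι F) : g * sg x h = sg x (g * h) := by
  rcases z2_cases x with rfl | rfl <;> simp [sg_zero, sg_one]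

theorem sg_mul (x : ZMod 2) (g h : GL ι F) : sg x g * h = sg x (g * h) := by
  rcases z2_cases x with rfl | rfl <;> simp [sg_zero, sg_one]

theorem sg_sg (x : ZMod 2) (g : GL ι F) : sg x (sg x g) = g := by rw [← sg_add, z2_self, sg_zero]

/-- The data of an absolutely irreducible group 2^(1+2k) of minus type. -/
structure Frame (k : ℕ) (R : Subgroup (GL ι F)) where
  two : (2 : F) ≠ 0
  ne : Nonempty ι
  q : QForm k
  cl : W k → GL ι F
  neg_mem : (-1 : GL ι F) ∈ R
  cl_mem : ∀ w, cl w ∈ R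
  surj : ∀ g ∈ R, ∃ w, PM g (cl w)
  cl_zero : cl 0 = 1
  cl_mul : ∀ v w, PM (cl v * cl w) (cl (v + w))
  cl_sq : ∀ v, cl v * cl v = sg (q.Q v) 1
  cl_comm : ∀ v w, cl v * cl w = sg (q.B v w) (cl w * cl v)
  span : Submodule.span F (Set.range fun w => (cl w : Matrix ι ι F)) = ⊤

namespace Frame

variable {k : ℕ} {R : Subgroup (GL ι F)} (fr : Frame k R)

include fr in
theorem ne_neg (g : GL ι F) : g ≠ -g := by
  intro h
  obtain ⟨i⟩ := fr.ne
  have h1 : (1 : GL ι F) = -1 := by simpa using congrArg (g⁻¹ * ·) h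
  have h2 : (1 : F) = -1 := by
    simpa using congrFun (congrFun (congrArg (fun x : GL ι F => (x : Matrix ι ι F)) h1) i) i
  exact fr.two (by linear_combination h2)

include fr in
theorem sg_inj {x y : ZMod 2} {g : GL ι F} (h : sg x g = sg y g) : x = y := by
  rcases z2_cases x with rfl | rfl <;> rcases z2_cases y with rfl | rfl <;> try rfl
  · exact absurd (by simpa [sg_zero, sg_one] using h) (fr.ne_neg g)
  · exact absurd (by simpa [sg_zero, sg_one] using h.symm) (fr.ne_neg g)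

theorem comm_pm (v w : W k) : PM (fr.cl v * fr.cl w) (fr.cl w * fr.cl v) := by
  rw [fr.cl_comm]; exact sg_PM _ _

theorem commute_iff {v w : W k} : fr.cl v * fr.cl w = fr.cl w * fr.cl v ↔ fr.q.B v w = 0 := by
  refine ⟨fun h => ?_, fun h => by rw [fr.cl_comm, h, sg_zero]⟩
  rw [fr.cl_comm] at h
  exact fr.sg_inj (h.trans (sg_zero _).symm)

theorem anti {v w : W k} (h : fr.q.B v w = 1) : fr.cl v * fr.cl w = -(fr.cl w * fr.cl v) := by
  rw [fr.cl_comm, h, sg_one]

theorem sq_of_pm {v : W k} {g : GL ι F} (h : PM g (fr.cl v)) : g * g = sg (fr.q.Q v) 1 := by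
  rw [h.sq_eq, fr.cl_sq]

theorem Q_of_invol {v : W k} {g : GL ι F} (h : PM g (fr.cl v)) (hg : g * g = 1) : fr.q.Q v = 0 := by
  have := fr.sq_of_pm h
  rw [hg] at this
  exact fr.sg_inj (this.symm.trans (sg_zero _).symm)

theorem cl_sq_zero {v : W k} (h : fr.q.Q v = 0) : fr.cl v * fr.cl v = 1 := by rw [fr.cl_sq, h, sg_zero]

theorem cl_sq_pm (v : W k) : PM (fr.cl v * fr.cl v) 1 := by rw [fr.cl_sq]; exact sg_PM _ _

theorem cl_inv (v : W k) : PM (fr.cl v)⁻¹ (fr.cl v) := by
  have := ((fr.cl_sq_pm v).mul_left (fr.cl v)⁻¹).symm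
  rwa [inv_mul_cancel_left, mul_one] at this

theorem eq_zero_of_pm {v : W k} (h : PM (fr.cl v) 1) : v = 0 := by
  by_contra hv
  obtain ⟨y, hy⟩ := fr.q.exists_B_one hv
  have h' := fr.anti hy
  rcases h with e | e <;> rw [e] at h' <;> simp only [neg_mul, mul_neg, one_mul, mul_one, neg_neg] at h'
  · exact fr.ne_neg _ h'
  · exact fr.ne_neg _ h'.symm

theorem eq_of_pm {v w : W k} (h : PM (fr.cl v) (fr.cl w)) : v = w := by
  refine vadd_eq_zero (fr.eq_zero_of_pm ?_)
  exact ((fr.cl_mul v w).symm.trans (h.mul_right _)).trans (fr.cl_sq_pm w)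

theorem mem_iff {g : GL ι F} : g ∈ R ↔ ∃ w, PM g (fr.cl w) :=
  ⟨fr.surj g, fun ⟨w, hw⟩ => hw.mem fr.neg_mem (fr.cl_mem w)⟩

theorem scalar {M : Matrix ι ι F} (h : ∀ w, M * (fr.cl w : Matrix ι ι F) = (fr.cl w : Matrix ι ι F) * M) :
    ∃ c : F, M = c • 1 := by
  have hall : ∀ A, M * A = A * M := by
    intro A
    have hA : A ∈ Submodule.span F (Set.range fun w => (fr.cl w : Matrix ι ι F)) :=
      fr.span ▸ Submodule.mem_top
    induction hA using Submodule.span_induction with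
    | mem _ hx => obtain ⟨w, rfl⟩ := hx; exact h w
    | zero => rw [mul_zero, zero_mul]
    | add _ _ _ _ h1 h2 => rw [mul_add, add_mul, h1, h2]
    | smul c _ _ h1 => rw [mul_smul_comm, smul_mul_assoc, h1]
  obtain ⟨c, hc⟩ := (Matrix.mem_range_scalar_iff_commute_single (M := M)).2 fun i j _ => (hall _).symm
  exact ⟨c, by rw [← hc, Matrix.scalar_apply, Matrix.smul_one_eq_diagonal]⟩

/-- The normaliser. -/
abbrev N (R : Subgroup (GL ι F)) : Subgroup (GL ι F) := Cfsg.Geo.subgroupNormalizer R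

theorem mem_N_of_forall [Fintype F] {g : GL ι F} (h : ∀ w, ∃ v, PM (g * fr.cl w * g⁻¹) (fr.cl v)) :
    g ∈ N R := by
  classical
  have hsub : ∀ x ∈ R, g * x * g⁻¹ ∈ R := fun x hx => by
    obtain ⟨w, hw⟩ := fr.surj x hx
    obtain ⟨v, hv⟩ := h w
    exact fr.mem_iff.2 ⟨v, (hw.conj g).trans hv⟩
  refine Subgroup.mem_normalizer_iff.2 fun x => ⟨hsub x, fun hx => ?_⟩
  let f : R → R := fun y => ⟨g * y.1 * g⁻¹, hsub y.1 y.2⟩
  have hf : Function.Surjective f := Finite.injective_iff_surjective.1 fun a b e => by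
    have := congrArg Subtype.val e
    exact Subtype.ext (mul_left_cancel (mul_right_cancel this))
  obtain ⟨y, hy⟩ := hf ⟨_, hx⟩
  have := congrArg Subtype.val hy
  rw [← mul_left_cancel (mul_right_cancel this)]
  exact y.2

theorem exists_conj {g : GL ι F} (hg : g ∈ N R) (w : W k) : ∃ v, PM (g * fr.cl w * g⁻¹) (fr.cl v) :=
  fr.surj _ ((Subgroup.mem_normalizer_iff.1 hg _).1 (fr.cl_mem w))

theorem cl_mem_N (w : W k) : fr.cl w ∈ N R := Subgroup.le_normalizer (fr.cl_mem w)

open Classical in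
/-- The action on the quadratic space. -/
noncomputable def act (g : GL ι F) : W k →ₗ[ZMod 2] W k :=
  if hg : g ∈ N R then
    (AddMonoidHom.mk' (fun w => (fr.exists_conj hg w).choose) (fun v w => fr.eq_of_pm (by
      have h1 := (fr.exists_conj hg v).choose_spec
      have h2 := (fr.exists_conj hg w).choose_spec
      have h3 := (fr.exists_conj hg (v + w)).choose_spec
      refine (h3.symm.trans ((fr.cl_mul v w).symm.conj g)).trans ?_
      rw [show g * (fr.cl v * fr.cl w) * g⁻¹ = (g * fr.cl v * g⁻¹) * (g * fr.cl w * g⁻¹) by group]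
      exact (h1.mul h2).trans (fr.cl_mul _ _)))).toZModLinearMap 2
  else LinearMap.id

theorem act_spec {g : GL ι F} (hg : g ∈ N R) (w : W k) : PM (g * fr.cl w * g⁻¹) (fr.cl (fr.act g w)) := by
  rw [Frame.act, dif_pos hg]
  exact (fr.exists_conj hg w).choose_spec

theorem act_eq {g : GL ι F} (hg : g ∈ N R) {w v : W k} (h : PM (g * fr.cl w * g⁻¹) (fr.cl v)) :
    fr.act g w = v := fr.eq_of_pm ((fr.act_spec hg w).symm.trans h)

theorem act_fix_iff {g : GL ι F} (hg : g ∈ N R) {w : W k} :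
    fr.act g w = w ↔ PM (g * fr.cl w) (fr.cl w * g) :=
  ⟨fun h => PM.comm_of_conj (by simpa [h] using fr.act_spec hg w), fun h => fr.act_eq hg h.conj_of_comm⟩

theorem act_mul {g h : GL ι F} (hg : g ∈ N R) (hh : h ∈ N R) (w : W k) :
    fr.act (g * h) w = fr.act g (fr.act h w) := by
  refine fr.act_eq ((N R).mul_mem hg hh) ?_
  rw [show g * h * fr.cl w * (g * h)⁻¹ = g * (h * fr.cl w * h⁻¹) * g⁻¹ by group]
  exact ((fr.act_spec hh w).conj g).trans (fr.act_spec hg _)

theorem act_one (w : W k) : fr.act 1 w = w := fr.act_eq (N R).one_mem (.inl (by simp))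

theorem act_inv {g : GL ι F} (hg : g ∈ N R) (w : W k) : fr.act g⁻¹ (fr.act g w) = w := by
  rw [← fr.act_mul ((N R).inv_mem hg) hg, inv_mul_cancel, fr.act_one]

theorem act_pm {g g' : GL ι F} (h : PM g g') (hg : g ∈ N R) (hg' : g' ∈ N R) : fr.act g = fr.act g' := by
  refine LinearMap.ext fun w => fr.act_eq hg ?_
  have := fr.act_spec hg' w
  exact ((h.mul_right _).mul h.inv).trans this

theorem act_cl (r w : W k) : fr.act (fr.cl r) w = w :=
  (fr.act_fix_iff (fr.cl_mem_N r)).2 (fr.comm_pm r w)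

theorem act_iso (g : GL ι F) : fr.q.Iso (fr.act g) := by
  intro w
  by_cases hg : g ∈ N R
  · have h := fr.sq_of_pm (fr.act_spec hg w)
    rw [show g * fr.cl w * g⁻¹ * (g * fr.cl w * g⁻¹) = g * (fr.cl w * fr.cl w) * g⁻¹ by group, fr.cl_sq,
      mul_sg, sg_mul, mul_one, mul_inv_cancel] at h
    exact (fr.sg_inj h).symm
  · rw [Frame.act, dif_neg hg]; rfl

theorem invol_of_sq {g : GL ι F} (hg : g ∈ N R) (h : g * g ∈ R) : fr.q.Invol (fr.act g) := by
  refine ⟨fr.act_iso g, fun w => ?_⟩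
  obtain ⟨r, hr⟩ := fr.surj _ h
  rw [← fr.act_mul hg hg, fr.act_pm hr ((N R).mul_mem hg hg) (fr.cl_mem_N r), fr.act_cl]

include fr in
theorem mem_of_pm_one {g : GL ι F} (h : PM g 1) : g ∈ R :=
  fr.mem_iff.2 ⟨0, by rw [fr.cl_zero]; exact h⟩

theorem invol_of_pm {g : GL ι F} (hg : g ∈ N R) (h : PM (g * g) 1) : fr.q.Invol (fr.act g) :=
  fr.invol_of_sq hg (fr.mem_of_pm_one h)

/-- The difference of the action and the identity. -/
noncomputable abbrev phi (g : GL ι F) : W k →ₗ[ZMod 2] W k := QForm.dif (fr.act g)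

theorem phi_mul {g h : GL ι F} (hg : g ∈ N R) (hh : h ∈ N R) (w : W k) :
    fr.phi (g * h) w = fr.phi g w + fr.phi h w + fr.phi g (fr.phi h w) := by
  simp only [QForm.dif_apply, fr.act_mul hg hh, map_add]
  have key : ∀ a b c d : ZMod 2, a + d = b + d + (c + d) + (a + c + (b + d)) := by decide
  exact funext fun i => key _ _ _ _

theorem phi_pm {g g' : GL ι F} (h : PM g g') (hg : g ∈ N R) (hg' : g' ∈ N R) : fr.phi g = fr.phi g' := by
  rw [Frame.phi, fr.act_pm h hg hg']

theorem phi_cl (r w : W k) : fr.phi (fr.cl r) w = 0 := by rw [QForm.dif_apply, fr.act_cl, vadd_self]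

theorem mem_ker_iff {g : GL ι F} (hg : g ∈ N R) {w : W k} :
    w ∈ LinearMap.ker (fr.phi g) ↔ PM (g * fr.cl w) (fr.cl w * g) := by
  rw [QForm.mem_ker_dif, fr.act_fix_iff hg]

/-- Conjugates commuting up to sign act as commuting maps. -/
theorem phi_commute {g h : GL ι F} (hg : g ∈ N R) (hh : h ∈ N R) (hc : PM (g * h) (h * g)) (w : W k) :
    fr.phi g (fr.phi h w) = fr.phi h (fr.phi g w) := by
  have : fr.act g (fr.act h w) = fr.act h (fr.act g w) := by
    rw [← fr.act_mul hg hh, fr.act_pm hc ((N R).mul_mem hg hh) ((N R).mul_mem hh hg), fr.act_mul hh hg]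
  simp only [QForm.dif_apply, map_add, this]
  abel

section Conj

variable (x : GL ι F)

/-- The conjugate frame. -/
def conj : Frame k (R.map (MulAut.conj x).toMonoidHom) where
  two := fr.two
  ne := fr.ne
  q := fr.q
  cl w := x * fr.cl w * x⁻¹
  neg_mem := ⟨-1, fr.neg_mem, by simp⟩
  cl_mem w := ⟨fr.cl w, fr.cl_mem w, rfl⟩
  surj := by
    rintro _ ⟨g, hg, rfl⟩
    obtain ⟨w, hw⟩ := fr.surj g hg
    exact ⟨w, hw.conj x⟩
  cl_zero := by rw [fr.cl_zero, mul_one, mul_inv_cancel]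
  cl_mul v w := by
    rw [show x * fr.cl v * x⁻¹ * (x * fr.cl w * x⁻¹) = x * (fr.cl v * fr.cl w) * x⁻¹ by group]
    exact (fr.cl_mul v w).conj x
  cl_sq v := by
    rw [show x * fr.cl v * x⁻¹ * (x * fr.cl v * x⁻¹) = x * (fr.cl v * fr.cl v) * x⁻¹ by group, fr.cl_sq,
      mul_sg, sg_mul, mul_one, mul_inv_cancel]
  cl_comm v w := by
    rw [show x * fr.cl v * x⁻¹ * (x * fr.cl w * x⁻¹) = x * (fr.cl v * fr.cl w) * x⁻¹ by group,
      show x * fr.cl w * x⁻¹ * (x * fr.cl v * x⁻¹) = x * (fr.cl w * fr.cl v) * x⁻¹ by group, fr.cl_comm,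
      mul_sg, sg_mul]
  span := by
    refine eq_top_iff.2 fun A _ => ?_
    have hA : ((x⁻¹ : GL ι F) : Matrix ι ι F) * A * (x : Matrix ι ι F) ∈
        Submodule.span F (Set.range fun w => (fr.cl w : Matrix ι ι F)) := fr.span ▸ Submodule.mem_top
    have h2 := Submodule.mem_map_of_mem
      (f := (LinearMap.mulLeft F (x : Matrix ι ι F)).comp
        (LinearMap.mulRight F ((x⁻¹ : GL ι F) : Matrix ι ι F))) hA
    rw [Submodule.map_span, ← Set.range_comp] at h2
    simpa [Function.comp_def, mul_assoc] using h2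

theorem conj_mem_N {g : GL ι F} (hg : g ∈ N R) : x * g * x⁻¹ ∈ N (R.map (MulAut.conj x).toMonoidHom) := by
  refine Subgroup.mem_normalizer_iff.2 fun y => ?_
  have := Subgroup.mem_normalizer_iff.1 hg (x⁻¹ * y * x)
  constructor
  · rintro ⟨a, ha, rfl⟩
    exact ⟨g * a * g⁻¹, (Subgroup.mem_normalizer_iff.1 hg a).1 ha, by
      simp only [MulEquiv.coe_toMonoidHom, MulAut.conj_apply]; group⟩
  · rintro ⟨a, ha, e⟩
    refine ⟨x⁻¹ * y * x, this.2 ?_, by simp only [MulEquiv.coe_toMonoidHom, MulAut.conj_apply]; group⟩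
    simp only [MulEquiv.coe_toMonoidHom, MulAut.conj_apply] at e
    rw [show g * (x⁻¹ * y * x) * g⁻¹ = x⁻¹ * (x * g * x⁻¹ * y * (x * g * x⁻¹)⁻¹) * x by group, ← e]
    simpa [mul_assoc] using ha

theorem mem_N_conj {g : GL ι F} (hg : g ∈ N (R.map (MulAut.conj x).toMonoidHom)) : x⁻¹ * g * x ∈ N R := by
  refine Subgroup.mem_normalizer_iff.2 fun y => ?_
  have := Subgroup.mem_normalizer_iff.1 hg (x * y * x⁻¹)
  constructor
  · intro hy
    obtain ⟨a, ha, e⟩ := this.1 ⟨y, hy, rfl⟩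
    simp only [MulEquiv.coe_toMonoidHom, MulAut.conj_apply] at e
    rw [show x⁻¹ * g * x * y * (x⁻¹ * g * x)⁻¹ = x⁻¹ * (g * (x * y * x⁻¹) * g⁻¹) * x by group, ← e]
    simpa [mul_assoc] using ha
  · intro hy
    obtain ⟨a, ha, e⟩ := this.2 ⟨_, hy, by simp only [MulEquiv.coe_toMonoidHom, MulAut.conj_apply]; group⟩
    simp only [MulEquiv.coe_toMonoidHom, MulAut.conj_apply] at e
    rw [← mul_left_cancel (mul_right_cancel e)]
    exact ha

end Conj

section Isometry

variable {f : (ι → F) → (ι → F) → F} (hf : Cfsg.Geo.IsSymplecticForm f)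
include hf

/-- An isometry acting trivially lies in the group. -/
theorem pm_of_act_id {g : GL ι F} (hg : g ∈ N R) (hgS : g ∈ H95.isoGrp f) (hR : R ≤ H95.isoGrp f)
    (hid : ∀ w, fr.act g w = w) : ∃ r, PM g (fr.cl r) := by
  classical
  have hpm : ∀ w, ∃ e : ZMod 2, g * fr.cl w = sg e (fr.cl w * g) := fun w => by
    rcases (fr.act_fix_iff hg).1 (hid w) with h | h
    · exact ⟨0, by rw [h, sg_zero]⟩
    · exact ⟨1, by rw [h, sg_one]⟩
  choose e he using hpm
  have hadd : ∀ v w, e (v + w) = e v + e w := fun v w => by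
    have h1 : g * (fr.cl v * fr.cl w) = sg (e v + e w) (fr.cl v * fr.cl w * g) := by
      rw [← mul_assoc, he, sg_mul, mul_assoc, he, mul_sg, ← sg_add, mul_assoc]
    rcases fr.cl_mul v w with hm | hm <;> rw [hm] at h1
    · exact fr.sg_inj ((he _).symm.trans h1)
    · rw [mul_neg, neg_mul, ← sg_one, ← sg_one] at h1
      have h2 := congrArg (sg 1) h1
      rw [sg_sg, ← sg_add, ← sg_add, show (1 : ZMod 2) + (e v + e w) + 1 = e v + e w by
        linear_combination z2_self (1 : ZMod 2)] at h2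
      exact fr.sg_inj ((he _).symm.trans h2)
  let ε : W k →ₗ[ZMod 2] ZMod 2 := (AddMonoidHom.mk' e hadd).toZModLinearMap 2
  obtain ⟨r, hr⟩ : ∃ r, ∀ w, fr.q.B r w = e w :=
    ⟨(fr.q.B.toDual fr.q.nondeg).symm ε, fun w => LinearMap.BilinForm.apply_toDual_symm_apply ε w⟩
  have hc : ∀ w, (g * fr.cl r) * fr.cl w = fr.cl w * (g * fr.cl r) := fun w => by
    rw [mul_assoc, fr.cl_comm r w, hr, mul_sg, ← mul_assoc, he, sg_mul, sg_sg, mul_assoc]
  obtain ⟨c, hc'⟩ := fr.scalar (M := ((g * fr.cl r : GL ι F) : Matrix ι ι F)) fun w => by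
    simpa only [Units.val_mul] using congrArg (fun y : GL ι F => (y : Matrix ι ι F)) (hc w)
  have hS : g * fr.cl r ∈ H95.isoGrp f := Subgroup.mul_mem _ hgS (hR (fr.cl_mem r))
  have hc1 : c * c = 1 := by
    obtain ⟨i⟩ := fr.ne
    have hsne : (Pi.single i (1 : F) : ι → F) ≠ 0 := fun e0 => one_ne_zero (α := F) (by simpa using congrFun e0 i)
    obtain ⟨x, hx⟩ := H95.exists_f_eq_one hf hsne
    have h2 := H95.mem_isoGrp.1 hS (Pi.single i 1) x
    rw [hc', Matrix.smul_mulVec, Matrix.smul_mulVec, Matrix.one_mulVec, Matrix.one_mulVec, H95.f_smul_left hf,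
      H95.f_smul_right hf, hx] at h2
    linear_combination h2
  refine ⟨r, ?_⟩
  have h1 : PM (g * fr.cl r) 1 := by
    rcases mul_self_eq_one_iff.1 hc1 with h | h
    · exact .inl (Units.ext (by rw [hc', h, one_smul, Units.val_one]))
    · exact .inr (Units.ext (by rw [hc', h, neg_one_smul, Units.val_neg, Units.val_one]))
  have := h1.mul_right (fr.cl r)⁻¹
  rw [mul_inv_cancel_right, one_mul] at this
  exact this.trans (fr.cl_inv r)

end Isometry

end Frame

end Cfsg.Agent.H57.CSix
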