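import Cfsg.Agent.H57.CSix.Inter

/-!
No singular element of one frame normalises another frame of the overgroup.
-/

set_option autoImplicit false
set_option linter.unusedSectionVars false

namespace Cfsg.Agent.H57.CSix

open Matrix Module

variable {ι : Type} [Fintype ι] [DecidableEq ι] {F : Type*} [Field F] [Fintype F]
variable {f : (ι → F) → (ι → F) → F} {M : Subgroup (GL ι F)} {k : ℕ}
variable {R R' : Subgroup (GL ι F)}

/-- The vectors whose element lies in a subgroup containing -1. -/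
def Frame.pre (fr : Frame k R) (H : Subgroup (GL ι F)) (hneg : (-1 : GL ι F) ∈ H) :
    Submodule (ZMod 2) (W k) where
  carrier := {w | fr.cl w ∈ H}
  add_mem' {v w} hv hw := (fr.cl_mul v w).symm.mem hneg (H.mul_mem hv hw)
  zero_mem' := by show fr.cl 0 ∈ H; rw [fr.cl_zero]; exact H.one_mem
  smul_mem' c w hw := by
    rcases smul_cases c w with e | e <;> show fr.cl (c • w) ∈ H <;> rw [e]
    · rw [fr.cl_zero]; exact H.one_mem
    · exact hw

theorem Frame.mem_pre {fr : Frame k R} {H : Subgroup (GL ι F)} {hneg : (-1 : GL ι F) ∈ H} {w : W k} :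
    w ∈ fr.pre H hneg ↔ fr.cl w ∈ H := Iff.rfl

theorem QForm.exists_lagrangian (q : QForm k) {J : Submodule (ZMod 2) (W k)} (hJ : q.Isotropic J) :
    ∃ L, J ≤ L ∧ q.orth L = L := by
  classical
  have hmax : ∀ n, ∀ L, J ≤ L → q.Isotropic L → k ≤ finrank (ZMod 2) L + n → ∃ L', J ≤ L' ∧ q.orth L' = L' := by
    intro n
    induction n with
    | zero =>
      intro L hJL hL hdim
      have h1 := q.finrank_orth L
      refine ⟨L, hJL, (Submodule.eq_of_le_of_finrank_le (q.isotropic_iff.1 hL) (by omega)).symm⟩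
    | succ n ih =>
      intro L hJL hL hdim
      by_cases he : q.orth L = L
      · exact ⟨L, hJL, he⟩
      · obtain ⟨x, hx, hxL⟩ := SetLike.not_le_iff_exists.1 fun hle => he (le_antisymm hle (q.isotropic_iff.1 hL))
        refine ih (L ⊔ Submodule.span (ZMod 2) {x}) (hJL.trans le_sup_left) ?_ ?_
        · refine hL.sup (fun a ha b hb => ?_) fun a ha b hb => ?_
          · rcases mem_span_one.1 ha with rfl | rfl <;> rcases mem_span_one.1 hb with rfl | rfl <;>
              simp [q.B_self]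
          · rcases mem_span_one.1 hb with rfl | rfl
            · simp
            · exact q.mem_orth.1 hx a ha
        · have : finrank (ZMod 2) L < finrank (ZMod 2) ↥(L ⊔ Submodule.span (ZMod 2) {x}) :=
            Submodule.finrank_lt_finrank_of_lt (lt_of_le_of_ne le_sup_left fun e => hxL (by
              rw [e]; exact Submodule.mem_sup_right (Submodule.mem_span_singleton_self x)))
          omega
  exact hmax k J le_rfl hJ (by omega)

theorem QForm.exists_diag (q : QForm k) {I : Submodule (ZMod 2) (W k)} (hI : q.Isotropic I) :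
    ∃ c, ∀ i ∈ I, q.B c i = q.Q i := by
  let g : I →ₗ[ZMod 2] ZMod 2 := (AddMonoidHom.mk' (fun i : I => q.Q i.1) fun i j => by
    rw [Submodule.coe_add, q.Q_add_of_orth (hI _ i.2 _ j.2)]).toZModLinearMap 2
  obtain ⟨g', hg'⟩ := LinearMap.exists_extend g
  refine ⟨(q.B.toDual q.nondeg).symm g', fun i hi => ?_⟩
  rw [LinearMap.BilinForm.apply_toDual_symm_apply]
  exact LinearMap.congr_fun hg' ⟨i, hi⟩

/-- The value on the diagonal vector is the parity of the rank. -/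
theorem QForm.Invol.diag_value {q : QForm k} {g : W k →ₗ[ZMod 2] W k} (h : q.Invol g) {c : W k}
    (hc : ∀ i ∈ LinearMap.range (QForm.dif g), q.B c i = q.Q i) :
    q.B c (QForm.dif g c) = (finrank (ZMod 2) (LinearMap.range (QForm.dif g)) : ZMod 2) := by
  classical
  obtain ⟨C, hC⟩ := Submodule.exists_isCompl (LinearMap.ker (QForm.dif g))
  have hdim := Submodule.finrank_add_eq_of_isCompl hC
  have hker := h.finrank_ker
  rw [QForm.finrank_W] at hdim
  have hCd : finrank (ZMod 2) C = finrank (ZMod 2) (LinearMap.range (QForm.dif g)) := by omega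
  let b := Module.finBasis (ZMod 2) C
  set φ := QForm.dif g with hφ
  let G : Matrix (Fin (finrank (ZMod 2) C)) (Fin (finrank (ZMod 2) C)) (ZMod 2) :=
    Matrix.of fun i j => q.B (b i).1 (φ (b j).1)
  have hG : G.IsSymm := Matrix.IsSymm.ext fun i j => by
    show q.B (b j).1 (φ (b i).1) = q.B (b i).1 (φ (b j).1)
    rw [← h.B_dif, q.B_symm]
  have hmv : ∀ v i, (G *ᵥ v) i = q.B (b i).1 (φ (b.equivFun.symm v).1) := by
    intro v i
    rw [Basis.equivFun_symm_apply, Submodule.coe_sum, map_sum, map_sum, Matrix.mulVec, dotProduct]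
    refine Finset.sum_congr rfl fun j _ => ?_
    rw [Submodule.coe_smul, map_smul, map_smul, smul_eq_mul, mul_comm]
    rfl
  have hdec : ∀ x : W k, ∃ y ∈ C, φ x = φ y := fun x => by
    obtain ⟨p, hp, y, hy, rfl⟩ := Submodule.mem_sup.1 (hC.sup_eq_top ▸ Submodule.mem_top (x := x))
    exact ⟨y, hy, by rw [map_add, LinearMap.mem_ker.1 hp, zero_add]⟩
  have hinj : Function.Injective G.mulVec := by
    have hzero : ∀ v, G *ᵥ v = 0 → v = 0 := by
      intro v hv
      set y := b.equivFun.symm v with hy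
      have hy0 : φ y.1 = 0 := by
        refine q.eq_of_B_eq fun w => ?_
        obtain ⟨w', hw', e⟩ := hdec w
        rw [h.B_dif, e, ← h.B_dif, q.B_symm, map_zero, LinearMap.zero_apply]
        have hspan : ∀ x : C, q.B x.1 (φ y.1) = 0 := by
          intro x
          rw [← b.sum_repr x, Submodule.coe_sum, map_sum, LinearMap.sum_apply]
          refine Finset.sum_eq_zero fun i _ => ?_
          have := congrFun hv i
          rw [hmv] at this
          rw [Submodule.coe_smul, map_smul, LinearMap.smul_apply, this]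
          simp
        exact hspan ⟨w', hw'⟩
      have := Submodule.disjoint_def.1 hC.disjoint y.1 (LinearMap.mem_ker.2 hy0) y.2
      have hy00 : y = 0 := Subtype.ext this
      exact b.equivFun.symm.injective (hy00.trans (map_zero _).symm)
    intro u v e
    exact sub_eq_zero.1 (hzero _ (by rw [Matrix.mulVec_sub, sub_eq_zero]; exact e))
  have hu : IsUnit G := Matrix.mulVec_injective_iff_isUnit.1 hinj
  obtain ⟨H, hGH, hHG⟩ : ∃ H, G * H = 1 ∧ H * G = 1 :=
    ⟨G⁻¹, Matrix.mul_nonsing_inv _ ((Matrix.isUnit_iff_isUnit_det _).1 hu),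
      Matrix.nonsing_inv_mul _ ((Matrix.isUnit_iff_isUnit_det _).1 hu)⟩
  have hH : H.IsSymm := by
    have h1 : Hᵀ * G = 1 := by
      have := congrArg Matrix.transpose hGH
      rwa [Matrix.transpose_mul, hG.eq, Matrix.transpose_one] at this
    calc Hᵀ = Hᵀ * (G * H) := by rw [hGH, mul_one]
      _ = H := by rw [← mul_assoc, h1, one_mul]
  have hdiag : ∀ i, G i i = q.Q (φ (b i).1) := fun i => by
    show q.B (b i).1 (φ (b i).1) = _
    rw [h.iso.Q_dif]
  obtain ⟨y, hy, hcy⟩ := hdec c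
  set v := b.equivFun ⟨y, hy⟩ with hv
  have hGv : G *ᵥ v = fun i => G i i := funext fun i => by
    rw [hmv, hv, LinearEquiv.symm_apply_apply, hdiag, ← hc _ ⟨_, rfl⟩]
    show q.B (b i).1 (φ y) = _
    rw [← hcy, ← h.B_dif, q.B_symm]
  have hvv : v = H *ᵥ fun i => G i i := by rw [← hGv, Matrix.mulVec_mulVec, hHG, Matrix.one_mulVec]
  rw [← hCd, ← Fintype.card_fin (finrank (ZMod 2) C), ← diag_form_eq_card G H hG hH hGH]
  have e1 : q.B c (φ c) = ∑ i, v i * G i i := by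
    rw [← h.B_dif, hcy, h.B_dif]
    have : (⟨y, hy⟩ : C) = ∑ i, v i • b i := (b.sum_equivFun _).symm
    rw [show y = (∑ i, v i • b i : C).1 from congrArg Subtype.val this, Submodule.coe_sum, map_sum,
      LinearMap.sum_apply]
    refine Finset.sum_congr rfl fun i _ => ?_
    rw [Submodule.coe_smul, map_smul, LinearMap.smul_apply, smul_eq_mul, ← h.B_dif, q.B_symm, hdiag,
      hc _ ⟨_, rfl⟩]
  rw [e1]
  refine Finset.sum_congr rfl fun i _ => ?_
  rw [hvv, Matrix.mulVec, dotProduct, Finset.sum_mul]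
  exact Finset.sum_congr rfl fun j _ => by ring

namespace Over

variable {fr : Frame k R} {fr' : Frame k R'}

theorem neg_N (fr : Frame k R) : (-1 : GL ι F) ∈ Frame.N R := Subgroup.le_normalizer fr.neg_mem

theorem norm_key (h : Over f M fr) (h' : Over f M fr') (hne : R ≠ R') {v : W k} (hv0 : v ≠ 0)
    (hvQ : fr'.q.Q v = 0) (hv : fr'.cl v ∈ Frame.N R) :
    (finrank (ZMod 2) (fr.pre (Frame.N R') (neg_N fr')) = k ∧
      (∃ p, p ≠ 0 ∧ fr.q.Q p = 0 ∧ fr.cl p ∈ Frame.N R')) ∧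
    (∃ q0, fr'.cl q0 ∈ Frame.N R ∧ fr'.q.Q q0 = 1) ∧
    (∀ q w, fr'.cl q ∈ Frame.N R → fr.cl w ∈ Frame.N R' → fr.phi (fr'.cl q) w = 0) ∧
    (finrank (ZMod 2) (fr'.pre (Frame.N R) (neg_N fr)) = k → ∀ q, q ≠ 0 → fr'.q.Q q = 0 →
      fr'.cl q ∈ Frame.N R →
      LinearMap.range (fr.phi (fr'.cl q)) = fr.pre (Frame.N R') (neg_N fr') ∧
      LinearMap.ker (fr.phi (fr'.cl q)) = fr.pre (Frame.N R') (neg_N fr')) := by
  set P0 := fr.pre (Frame.N R') (neg_N fr') with hP0
  set Q0 := fr'.pre (Frame.N R) (neg_N fr) with hQ0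
  have h3 := h.three
  have kerP : ∀ q, q ≠ 0 → fr'.q.Q q = 0 → fr'.cl q ∈ Frame.N R → LinearMap.ker (fr.phi (fr'.cl q)) ≤ P0 :=
    fun q hq hqQ hqN w hw => h'.cent q _ hq hqQ (h.cl_mem w) ((fr.mem_ker_iff hqN).1 hw).symm
  have hinv : ∀ q, fr'.cl q ∈ Frame.N R → fr.q.Invol (fr.act (fr'.cl q)) := fun q hq =>
    fr.invol_of_pm hq (fr'.cl_sq_pm q)
  -- an element of the common part in an image
  have dB : ∀ q w d', fr'.cl q ∈ Frame.N R → fr.phi (fr'.cl q) w ≠ 0 →
      PM (fr.cl (fr.phi (fr'.cl q) w)) (fr'.cl d') → fr'.q.B q d' = 1 := by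
    intro q w d' hq hd hdd
    set d := fr.phi (fr'.cl q) w
    have hdQ : fr.q.Q d = 1 := common_anisotropic h h' hne (hdd.mem fr'.neg_mem (fr'.cl_mem d')) hd
    have h1 : PM (fr'.cl q * fr.cl w * (fr'.cl q)⁻¹) (fr.cl w * fr.cl d) := by
      refine (fr.act_spec hq w).trans ((PM.of_eq ?_).trans (fr.cl_mul _ _).symm)
      rw [QForm.apply_eq_dif, add_comm]
    have h2 : PM ((fr.cl w)⁻¹ * fr'.cl q * fr.cl w) (fr'.cl (d' + q)) := by
      have := (h1.mul_right (fr'.cl q)).mul_left (fr.cl w)⁻¹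
      rw [inv_mul_cancel_right, ← mul_assoc, mul_assoc (fr.cl w), inv_mul_cancel_left] at this
      exact this.trans ((hdd.mul_right _).trans (fr'.cl_mul _ _))
    have h3 := fr'.sq_of_pm h2
    rw [show (fr.cl w)⁻¹ * fr'.cl q * fr.cl w * ((fr.cl w)⁻¹ * fr'.cl q * fr.cl w) =
      (fr.cl w)⁻¹ * (fr'.cl q * fr'.cl q) * fr.cl w by group, fr'.cl_sq, mul_sg, sg_mul, mul_one,
      inv_mul_cancel] at h3
    have h4 := fr'.sg_inj h3
    rw [fr'.q.Q_add, Q_transfer fr fr' hdd, hdQ, fr'.q.B_symm] at h4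
    linear_combination -h4 - z2_self (1 : ZMod 2)
  have hP : ∀ q w, fr'.cl q ∈ Frame.N R → fr.cl w ∈ Frame.N R' → fr.cl (fr.phi (fr'.cl q) w) ∈ R' := by
    intro q w hq hw
    have h2 : PM (fr'.cl q * (fr.cl w * (fr'.cl q)⁻¹ * (fr.cl w)⁻¹)) (fr.cl (fr.phi (fr'.cl q) w)) := by
      rw [show fr'.cl q * (fr.cl w * (fr'.cl q)⁻¹ * (fr.cl w)⁻¹) = fr'.cl q * fr.cl w * (fr'.cl q)⁻¹ *
        (fr.cl w)⁻¹ by group]
      exact ((fr.act_spec hq w).mul (fr.cl_inv w)).trans (fr.cl_mul _ _)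
    exact h2.symm.mem fr'.neg_mem (R'.mul_mem (fr'.cl_mem q)
      ((Subgroup.mem_normalizer_iff.1 hw _).1 (R'.inv_mem (fr'.cl_mem q))))
  -- the other side
  obtain ⟨p, hpmem, hp0, hpQ⟩ := fr.q.exists_singular (U := P0) (by
    have h1 := Submodule.finrank_mono (kerP v hv0 hvQ hv)
    have h2 := (hinv v hv).finrank_ker
    have h4 := (hinv v hv).isotropic.finrank_le
    simp only [Frame.phi] at h1
    omega)
  have hQorth : fr'.q.orth Q0 ≤ Q0 := by
    have hk : LinearMap.ker (fr'.phi (fr.cl p)) ≤ Q0 := fun w hw =>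
      h.cent p _ hp0 hpQ (h'.cl_mem w) ((fr'.mem_ker_iff hpmem).1 hw).symm
    have hi := fr'.invol_of_pm hpmem (fr.cl_sq_pm p)
    refine (fr'.q.orth_le hk).trans ?_
    rw [show fr'.phi (fr.cl p) = QForm.dif (fr'.act (fr.cl p)) from rfl, hi.ker_eq, fr'.q.orth_orth]
    exact hi.range_le_ker.trans hk
  set D' := fr'.pre R fr.neg_mem with hD'
  set rad := D' ⊓ fr'.q.orth D' with hrad
  have hDQ : D' ≤ Q0 := fun w hw => Subgroup.le_normalizer hw
  have hJ : fr'.q.Isotropic (fr'.q.orth Q0 ⊔ rad) := by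
    refine QForm.Isotropic.sup ?_ ?_ fun a ha b hb => ?_
    · exact fun a ha b hb => fr'.q.mem_orth.1 hb a (hQorth ha)
    · exact fun a ha b hb => fr'.q.mem_orth.1 hb.2 a ha.1
    · exact fr'.q.mem_orth'.1 ha b (hDQ hb.1)
  obtain ⟨L, hJL, hL⟩ := fr'.q.exists_lagrangian hJ
  have hLQ : L ≤ Q0 := by
    have := fr'.q.orth_le (le_sup_left.trans hJL)
    rwa [hL, fr'.q.orth_orth] at this
  have hLi : fr'.q.Isotropic L := fr'.q.isotropic_iff.2 hL.ge
  have hLd : finrank (ZMod 2) L = k := by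
    have := fr'.q.finrank_orth L
    rw [hL] at this
    omega
  -- elements of the common part in images lie in the radical
  have noD : ∀ q w, q ∈ L → fr.cl (fr.phi (fr'.cl q) w) ∈ R' → fr.phi (fr'.cl q) w = 0 := by
    intro q w hqL hd
    by_contra hd0
    have hq : fr'.cl q ∈ Frame.N R := hLQ hqL
    obtain ⟨d', hd'⟩ := fr'.surj _ hd
    have hd'D : d' ∈ D' := hd'.symm.mem fr.neg_mem (fr.cl_mem _)
    have hd'rad : d' ∈ rad := by
      refine ⟨hd'D, fr'.q.mem_orth.2 fun e' he' => ?_⟩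
      obtain ⟨e, he⟩ := fr.surj _ he'
      have heR' : fr.cl e ∈ R' := he.symm.mem fr'.neg_mem (fr'.cl_mem e')
      rw [B_transfer fr fr' he.symm hd', fr.q.B_symm]
      have hek : e ∈ LinearMap.ker (fr.phi (fr'.cl q)) :=
        (fr.mem_ker_iff hq).2 (commute_of_common fr heR' fr' (fr'.cl_mem q))
      rw [(hinv q hq).ker_eq] at hek
      exact fr.q.mem_orth.1 hek _ ⟨w, rfl⟩
    have := dB q w d' hq hd0 hd'
    rw [hLi q hqL d' (hJL (Submodule.mem_sup_right hd'rad))] at this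
    exact zero_ne_one this
  have hPL : ∀ q w, q ∈ L → w ∈ P0 → fr.phi (fr'.cl q) w = 0 := fun q w hq hw =>
    noD q w hq (hP q w (hLQ hq) hw)
  have hkerK : ∀ q, q ∈ L → q ≠ 0 → fr'.q.Q q = 0 → LinearMap.ker (fr.phi (fr'.cl q)) = P0 :=
    fun q hq hq0 hqQ => le_antisymm (kerP q hq0 hqQ (hLQ hq)) fun w hw => hPL q w hq hw
  set I := fr.q.orth P0 with hI
  have hrangeK : ∀ q, q ∈ L → q ≠ 0 → fr'.q.Q q = 0 → LinearMap.range (fr.phi (fr'.cl q)) = I := by
    intro q hq hq0 hqQ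
    rw [hI, ← hkerK q hq hq0 hqQ, show fr.phi (fr'.cl q) = QForm.dif (fr.act (fr'.cl q)) from rfl,
      (hinv q (hLQ hq)).ker_eq, fr.q.orth_orth]
  let ℓ : L →ₗ[ZMod 2] ZMod 2 := (AddMonoidHom.mk' (fun x : L => fr'.q.Q x.1) fun x y => by
    rw [Submodule.coe_add, fr'.q.Q_add_of_orth (hLi _ x.2 _ y.2)]).toZModLinearMap 2
  set K := (LinearMap.ker ℓ).map L.subtype with hK
  have hKmem : ∀ {q}, q ∈ K ↔ q ∈ L ∧ fr'.q.Q q = 0 := by
    intro q
    constructor
    · rintro ⟨x, hx, rfl⟩; exact ⟨x.2, hx⟩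
    · exact fun hq => ⟨⟨q, hq.1⟩, hq.2, rfl⟩
  have hKd : k ≤ finrank (ZMod 2) K + 1 := by
    rw [hK, Submodule.finrank_map_subtype_eq]
    have h1 := LinearMap.finrank_range_add_finrank_ker ℓ
    have h2 := Submodule.finrank_le (LinearMap.range ℓ)
    rw [Module.finrank_self] at h2
    omega
  -- the action is linear on K
  have hadd : ∀ x y, x ∈ L → y ∈ L → (∀ w, fr.phi (fr'.cl x) (fr.phi (fr'.cl y) w) = 0) → ∀ w,
      fr.phi (fr'.cl (x + y)) w = fr.phi (fr'.cl x) w + fr.phi (fr'.cl y) w := by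
    intro x y hx hy h0 w
    rw [← fr.phi_pm (fr'.cl_mul x y) ((Frame.N R).mul_mem (hLQ hx) (hLQ hy)) (hLQ (L.add_mem hx hy)),
      fr.phi_mul (hLQ hx) (hLQ hy), h0, add_zero]
  have hzero : ∀ w, fr.phi (fr'.cl 0) w = 0 := fun w => by
    rw [fr'.cl_zero, QForm.dif_apply, fr.act_one, vadd_self]
  obtain ⟨q1, hq1⟩ : ∃ q1, q1 ∈ K ∧ q1 ≠ 0 := Submodule.exists_mem_ne_zero_of_ne_bot fun e => by
    rw [e, finrank_bot] at hKd; omega
  have hIP : I ≤ P0 := by
    rw [← hrangeK q1 (hKmem.1 hq1.1).1 hq1.2 (hKmem.1 hq1.1).2,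
      ← hkerK q1 (hKmem.1 hq1.1).1 hq1.2 (hKmem.1 hq1.1).2]
    exact (hinv q1 (hLQ (hKmem.1 hq1.1).1)).range_le_ker
  have hIi : fr.q.Isotropic I := fun a ha b hb => fr.q.mem_orth'.1 ha b (hIP hb)
  let ψ : W k → K →ₗ[ZMod 2] W k := fun x => (AddMonoidHom.mk' (fun q : K => fr.phi (fr'.cl q.1) x) fun a b => by
    rw [Submodule.coe_add]
    refine hadd _ _ (hKmem.1 a.2).1 (hKmem.1 b.2).1 (fun w => ?_) x
    rcases eq_or_ne b.1 0 with e | e
    · rw [e, hzero, map_zero]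
    · exact hPL _ _ (hKmem.1 a.2).1 (hIP (hrangeK _ (hKmem.1 b.2).1 e (hKmem.1 b.2).2 ▸ ⟨w, rfl⟩))).toZModLinearMap 2
  have hψI : ∀ x (q : K), ψ x q ∈ I := by
    intro x q
    show fr.phi (fr'.cl q.1) x ∈ I
    rcases eq_or_ne q.1 0 with e | e
    · rw [e, hzero]; exact I.zero_mem
    · exact hrangeK _ (hKmem.1 q.2).1 e (hKmem.1 q.2).2 ▸ ⟨x, rfl⟩
  -- the dimension count
  have hbound : ∀ x, x ∉ P0 → (∀ q : K, fr.q.B x (ψ x q) = 0) →
      finrank (ZMod 2) K < finrank (ZMod 2) I := by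
    intro x hx hB
    have hinjψ : Function.Injective (ψ x) := by
      rw [← LinearMap.ker_eq_bot, LinearMap.ker_eq_bot']
      intro q hq
      by_contra hne'
      have hne'' : q.1 ≠ 0 := fun e => hne' (Subtype.ext e)
      exact hx (hkerK _ (hKmem.1 q.2).1 hne'' (hKmem.1 q.2).2 ▸ LinearMap.mem_ker.2 hq)
    have hlt : I ⊓ fr.q.orth (Submodule.span (ZMod 2) {x}) < I := lt_of_le_of_ne inf_le_left fun e => hx (by
      have : I ≤ fr.q.orth (Submodule.span (ZMod 2) {x}) := inf_eq_left.1 e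
      have := fr.q.orth_le this
      rw [fr.q.orth_orth, hI, fr.q.orth_orth] at this
      exact this (Submodule.mem_span_singleton_self x))
    have h1 := LinearMap.finrank_range_of_inj hinjψ
    have h2 : LinearMap.range (ψ x) ≤ I ⊓ fr.q.orth (Submodule.span (ZMod 2) {x}) := by
      rintro _ ⟨q, rfl⟩
      exact ⟨hψI x q, fr.q.mem_orth_one.2 (hB q)⟩
    have h4 := Submodule.finrank_mono h2
    have h5 := Submodule.finrank_lt_finrank_of_lt hlt
    omega
  have hPI := fr.q.finrank_orth P0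
  rw [← hI] at hPI
  obtain ⟨c, hc⟩ := fr.q.exists_diag hIi
  have hIk := hIi.finrank_le
  have hm0 : ¬ fr.q.Singular I := by
    intro hts
    have hlt := fr.q.minus I hts
    obtain ⟨x, hx⟩ : ∃ x, x ∉ P0 := by
      by_contra hno
      push Not at hno
      rw [Submodule.eq_top_iff'.2 hno, finrank_top, QForm.finrank_W] at hPI
      have := hkerK q1 (hKmem.1 hq1.1).1 hq1.2 (hKmem.1 hq1.1).2
      have hid : ∀ w, fr.phi (fr'.cl q1) w = 0 := fun w => LinearMap.mem_ker.1 (this ▸ hno w)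
      obtain ⟨r, hr⟩ := fr.pm_of_act_id h.symp (hLQ (hKmem.1 hq1.1).1) (h'.Rle (fr'.cl_mem q1)) h.Rle fun w => by
        rw [QForm.apply_eq_dif]; show fr.phi (fr'.cl q1) w + w = w; rw [hid, zero_add]
      exact zero_ne_one ((hKmem.1 hq1.1).2.symm.trans (common_anisotropic h' h hne.symm
        (hr.mem fr.neg_mem (fr.cl_mem r)) hq1.2))
    have := hbound x hx fun q => by
      show fr.q.B x (fr.phi (fr'.cl q.1) x) = 0
      rw [← (fr.act_iso _).Q_dif]
      exact hts _ (hψI x q)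
    omega
  obtain ⟨i1, hi1, hi1Q⟩ : ∃ i ∈ I, fr.q.Q i ≠ 0 := by
    simpa [QForm.Singular] using hm0
  have hcP : c ∉ P0 := fun hcP => hi1Q ((hc i1 hi1).symm.trans (fr.q.mem_orth.1 hi1 c hcP))
  have hval : ∀ q : K, q ≠ 0 → fr.q.B c (ψ c q) = (finrank (ZMod 2) I : ZMod 2) := by
    intro q hq
    have hne'' : q.1 ≠ 0 := fun e => hq (Subtype.ext e)
    show fr.q.B c (QForm.dif (fr.act (fr'.cl q.1)) c) = _
    have hr := hrangeK _ (hKmem.1 q.2).1 hne'' (hKmem.1 q.2).2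
    rw [(hinv _ (hLQ (hKmem.1 q.2).1)).diag_value fun i hi => hc i (hr ▸ hi)]
    rw [show QForm.dif (fr.act (fr'.cl q.1)) = fr.phi (fr'.cl q.1) from rfl, hr]
  have hzeroc : ∀ q : K, fr.q.B c (ψ c q) = 0 := by
    intro q
    rcases eq_or_ne q 0 with rfl | hq
    · rw [map_zero, map_zero]
    obtain ⟨q', hq', hq''⟩ : ∃ q', q' ≠ 0 ∧ q' ≠ q := by
      by_contra hno
      push Not at hno
      have hle : (⊤ : Submodule (ZMod 2) K) ≤ Submodule.span (ZMod 2) {q} := fun x _ =>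
        mem_span_one.2 (or_iff_not_imp_left.2 (hno x))
      have := Submodule.finrank_mono hle
      rw [finrank_top, finrank_span_singleton (K := ZMod 2) hq] at this
      omega
    have hsum : q + q' ≠ 0 := fun e => hq'' (vadd_eq_zero e).symm
    have e := hval (q + q') hsum
    rw [map_add, map_add, hval q hq, hval q' hq', z2_self] at e
    rw [hval q hq, ← e]
  have hlt := hbound c hcP hzeroc
  have hIeq : finrank (ZMod 2) I = k := by omega
  have hP0d : finrank (ZMod 2) P0 = k := by omega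
  have hIP' : I = P0 := Submodule.eq_of_le_of_finrank_le hIP (by omega)
  have hq0 : ∃ q0, q0 ∈ L ∧ fr'.q.Q q0 = 1 := fr'.q.exists_nonsingular (by omega)
  obtain ⟨q0, hq0L, hq0Q⟩ := hq0
  refine ⟨⟨hP0d, p, hp0, hpQ, hpmem⟩, ⟨q0, hLQ hq0L, hq0Q⟩, ?_, fun hQd q hq hqQ hqN => ?_⟩
  · intro q w hq hw
    by_contra hd0
    have hd := hP q w hq hw
    have hdP : fr.phi (fr'.cl q) w ∈ I := by
      rw [hIP']; exact Subgroup.le_normalizer hd
    rw [← hrangeK q1 (hKmem.1 hq1.1).1 hq1.2 (hKmem.1 hq1.1).2] at hdP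
    obtain ⟨w1, hw1⟩ := hdP
    exact hd0 (hw1.symm.trans (noD q1 w1 (hKmem.1 hq1.1).1 (by rw [hw1]; exact hd)))
  · have hLeq : L = Q0 := Submodule.eq_of_le_of_finrank_le hLQ (by omega)
    have hqL : q ∈ L := hLeq ▸ hqN
    exact ⟨by rw [hrangeK q hqL hq hqQ, hIP'], hkerK q hqL hq hqQ⟩

/-- No singular element of another frame lies in the normaliser. -/
theorem no_singular_norm (h : Over f M fr) (h' : Over f M fr') (hne : R ≠ R') {v : W k} (hv0 : v ≠ 0)
    (hvQ : fr'.q.Q v = 0) : fr'.cl v ∉ Frame.N R := by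
  intro hv
  obtain ⟨⟨hPd, p, hp0, hpQ, hp⟩, ⟨q0, hq0, hq0Q⟩, hD, hR⟩ := norm_key h h' hne hv0 hvQ hv
  obtain ⟨⟨hQd, -⟩, -, -, hR'⟩ := norm_key h' h hne.symm hp0 hpQ hp
  set P0 := fr.pre (Frame.N R') (neg_N fr')
  set Q0 := fr'.pre (Frame.N R) (neg_N fr)
  have hR := hR hQd
  have hR' := hR' hPd
  have hPiso : fr.q.Isotropic P0 := by
    have hi := fr.invol_of_pm hv (fr'.cl_sq_pm v)
    exact (hR v hv0 hvQ hv).1 ▸ hi.isotropic
  have hPorth : fr.q.orth P0 = P0 := (Submodule.eq_of_le_of_finrank_le (fr.q.isotropic_iff.1 hPiso)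
    (by have := fr.q.finrank_orth P0; omega)).symm
  have hrank : ∀ x, fr'.cl x ∈ Frame.N R → fr'.q.Q x = 1 →
      finrank (ZMod 2) (LinearMap.range (fr.phi (fr'.cl x))) ≤ 1 := by
    intro x hx hxQ
    have hi := fr.invol_of_pm hx (fr'.cl_sq_pm x)
    have hsub : LinearMap.range (fr.phi (fr'.cl x)) ≤ P0 := by
      rw [show fr.phi (fr'.cl x) = QForm.dif (fr.act (fr'.cl x)) from rfl, ← fr.q.orth_orth
        (LinearMap.range (QForm.dif (fr.act (fr'.cl x)))), ← hi.ker_eq, ← hPorth]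
      refine fr.q.orth_le fun w hw => LinearMap.mem_ker.2 ?_
      exact hD x w hx hw
    by_contra hgt
    push Not at hgt
    obtain ⟨s, hs, hs0, hsQ⟩ := hi.isotropic.exists_singular hgt
    have hsP := hsub hs
    obtain ⟨w, rfl⟩ := hs
    have hxmem : x ∈ LinearMap.range (fr'.phi (fr.cl (fr.phi (fr'.cl x) w))) := by
      rw [(hR' _ hs0 hsQ hsP).1]; exact hx
    obtain ⟨y, hy⟩ := hxmem
    set S := fr.cl (fr.phi (fr'.cl x) w) with hS
    set A := fr'.cl x with hA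
    have hSS : S * S = 1 := fr.cl_sq_zero hsQ
    have hAA : A * A = -1 := by rw [hA, fr'.cl_sq, hxQ, sg_one]
    have h1 : PM ((fr.cl w)⁻¹ * A * fr.cl w) (S * A) := by
      have e : PM (A * fr.cl w * A⁻¹) (fr.cl w * S) := (fr.act_spec hx w).trans
        ((PM.of_eq (by rw [QForm.apply_eq_dif, add_comm])).trans (fr.cl_mul _ _).symm)
      have := (e.mul_right A).mul_left (fr.cl w)⁻¹
      rwa [inv_mul_cancel_right, ← mul_assoc, mul_assoc (fr.cl w), inv_mul_cancel_left] at this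
    have h2 : PM ((fr'.cl y)⁻¹ * S * fr'.cl y) (A * S) := by
      have e : PM (S * fr'.cl y * S⁻¹) (fr'.cl y * A) := (fr'.act_spec hsP y).trans
        ((PM.of_eq (by rw [QForm.apply_eq_dif, add_comm]; exact congrArg (fun u => fr'.cl (y + u)) hy)).trans
          (fr'.cl_mul _ _).symm)
      have := (e.mul_right S).mul_left (fr'.cl y)⁻¹
      rwa [inv_mul_cancel_right, ← mul_assoc, mul_assoc (fr'.cl y), inv_mul_cancel_left] at this
    have e1 : S * A * (S * A) = -1 := by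
      rw [← h1.sq_eq, show (fr.cl w)⁻¹ * A * fr.cl w * ((fr.cl w)⁻¹ * A * fr.cl w) =
        (fr.cl w)⁻¹ * (A * A) * fr.cl w by group, hAA, mul_neg_one, neg_mul, inv_mul_cancel]
    have e2 : A * S * (A * S) = 1 := by
      rw [← h2.sq_eq, show (fr'.cl y)⁻¹ * S * fr'.cl y * ((fr'.cl y)⁻¹ * S * fr'.cl y) =
        (fr'.cl y)⁻¹ * (S * S) * fr'.cl y by group, hSS, mul_one, inv_mul_cancel]
    have e3 : S * A * (S * A) = S * (A * S * (A * S)) * S⁻¹ := by group
    rw [e1, e2, mul_one, mul_inv_cancel] at e3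
    exact fr.ne_neg 1 e3.symm
  have hsum : fr'.q.Q (q0 + v) = 1 := by
    rw [fr'.q.Q_add, hq0Q, hvQ]
    have hQiso : fr'.q.Isotropic Q0 := by
      have hi := fr'.invol_of_pm hp (fr.cl_sq_pm p)
      exact (hR' p hp0 hpQ hp).1 ▸ hi.isotropic
    rw [hQiso q0 hq0 v hv, add_zero, add_zero]
  have hqv : fr'.cl (q0 + v) ∈ Frame.N R := Q0.add_mem hq0 hv
  have h1 := hrank q0 hq0 hq0Q
  have h2 := hrank _ hqv hsum
  have hle : P0 ≤ LinearMap.range (fr.phi (fr'.cl (q0 + v))) ⊔ LinearMap.range (fr.phi (fr'.cl q0)) := by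
    rw [← (hR v hv0 hvQ hv).1]
    rintro _ ⟨w, rfl⟩
    have hvanish : fr.phi (fr'.cl q0) (fr.phi (fr'.cl v) w) = 0 :=
      hD q0 _ hq0 (show fr.phi (fr'.cl v) w ∈ P0 from (hR v hv0 hvQ hv).1 ▸ ⟨w, rfl⟩)
    have e : fr.phi (fr'.cl (q0 + v)) w = fr.phi (fr'.cl q0) w + fr.phi (fr'.cl v) w := by
      rw [← fr.phi_pm (fr'.cl_mul q0 v) ((Frame.N R).mul_mem hq0 hv) hqv, fr.phi_mul hq0 hv, hvanish, add_zero]
    refine Submodule.mem_sup.2 ⟨_, ⟨w, rfl⟩, _, ⟨w, rfl⟩, ?_⟩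
    rw [e, add_comm (fr.phi (fr'.cl q0) w), vadd_cancel']
  have h4 := Submodule.finrank_mono hle
  have h5 := Submodule.finrank_add_le_finrank_add_finrank (LinearMap.range (fr.phi (fr'.cl (q0 + v))))
    (LinearMap.range (fr.phi (fr'.cl q0)))
  have h6 := h.three
  omega

end Over

end Cfsg.Agent.H57.CSix
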