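import Cfsg.Agent.H57.CSix.F2Quad

/-!
Commuting involutive isometries with ranges of dimension two.
-/

set_option autoImplicit false
set_option linter.unusedSectionVars false

namespace Cfsg.Agent.H57.CSix

open Module

namespace QForm

variable {k : ℕ} {q : QForm k}

/-- An involution with totally singular range of dimension two is determined by its range. -/
theorem Invol.eq_plane {g : W k →ₗ[ZMod 2] W k} (h : q.Invol g) {a b : W k} (ha0 : a ≠ 0) (hb0 : b ≠ 0)
    (hab : a ≠ b) (hts : q.Singular (LinearMap.range (dif g)))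
    (hr : LinearMap.range (dif g) = Submodule.span (ZMod 2) {a, b}) (x : W k) :
    dif g x = q.B b x • a + q.B a x • b := by
  have hk : ∀ y, q.B a y = 0 → q.B b y = 0 → dif g y = 0 := fun y h1 h2 => by
    rw [← LinearMap.mem_ker, h.ker_eq, hr, q.mem_orth_two]; exact ⟨h1, h2⟩
  have hval : ∀ {a b : W k}, a ≠ b → (∀ y, dif g y ∈ Submodule.span (ZMod 2) ({a, b} : Set (W k))) →
      (∀ y, q.B a y = 1 → q.B b y = 0 → dif g y ≠ 0) → ∀ y, q.B a y = 1 → q.B b y = 0 → dif g y = b := by
    intro a b hab hmem hne y h1 h2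
    have hQ := h.iso.Q_dif y
    rw [hts _ ⟨y, rfl⟩] at hQ
    rcases mem_span_two.1 (hmem y) with e | e | e | e
    · exact absurd e (hne y h1 h2)
    · rw [e, q.B_symm, h1] at hQ; exact absurd hQ zero_ne_one
    · exact e
    · rw [e, map_add, q.B_symm y a, q.B_symm y b, h1, h2, add_zero] at hQ; exact absurd hQ zero_ne_one
  have hne : ∀ y, q.B a y = 1 ∨ q.B b y = 1 → dif g y ≠ 0 := fun y hy e => by
    have : y ∈ LinearMap.ker (dif g) := e
    rw [h.ker_eq, hr, q.mem_orth_two] at this
    rcases hy with e' | e' <;> simp [this.1, this.2] at e'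
  obtain ⟨p, hp1, hp2⟩ := q.exists_B_one_zero ha0 hab
  obtain ⟨p', hp1', hp2'⟩ := q.exists_B_one_zero hb0 hab.symm
  have e1 : dif g p = b := hval hab (fun y => hr ▸ ⟨y, rfl⟩) (fun y h1 _ => hne y (.inl h1)) p hp1 hp2
  have e2 : dif g p' = a := hval hab.symm (fun y => by rw [Set.pair_comm, ← hr]; exact ⟨y, rfl⟩)
    (fun y h1 _ => hne y (.inr h1)) p' hp1' hp2'
  have h0 : dif g (x + (q.B a x • p + q.B b x • p')) = 0 := by
    refine hk _ ?_ ?_
    · simp [hp1, hp2', z2_self]
    · simp [hp1', hp2, z2_self]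
  rw [map_add, map_add, map_smul, map_smul, e1, e2] at h0
  rw [vadd_eq_zero h0, add_comm]

/-- The two possible positions of two commuting planes. -/
theorem plane_pair {g g' : W k →ₗ[ZMod 2] W k} (h : q.Invol g) (h' : q.Invol g')
    (hc : ∀ x, dif g (dif g' x) = dif g' (dif g x))
    (hts : q.Singular (LinearMap.range (dif g))) (hts' : q.Singular (LinearMap.range (dif g')))
    (hd : finrank (ZMod 2) (LinearMap.range (dif g)) = 2) (hd' : finrank (ZMod 2) (LinearMap.range (dif g')) = 2)
    (hne : LinearMap.range (dif g) ≠ LinearMap.range (dif g')) :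
    (q.Singular (LinearMap.range (dif g) ⊔ LinearMap.range (dif g')) ∧
      LinearMap.range (dif g) ⊓ LinearMap.range (dif g') = ⊥ ∧
      4 ≤ finrank (ZMod 2) ↥(LinearMap.range (dif g) ⊔ LinearMap.range (dif g'))) ∨
    ∃ m a b, q.Q m = 0 ∧ q.Q a = 0 ∧ q.Q b = 0 ∧ q.B m a = 0 ∧ q.B m b = 0 ∧ a + b ≠ 0 ∧ m ≠ a + b ∧
      LinearMap.range (dif g) = Submodule.span (ZMod 2) {m, a} ∧
      LinearMap.range (dif g') = Submodule.span (ZMod 2) {m, b} ∧
      ((q.B a b = 0 ∧ q.Singular (LinearMap.range (dif g) ⊔ LinearMap.range (dif g')) ∧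
          3 ≤ finrank (ZMod 2) ↥(LinearMap.range (dif g) ⊔ LinearMap.range (dif g'))) ∨ q.B a b = 1) ∧
      (∀ x, dif g x + dif g' x + dif g (dif g' x) =
        (q.B (a + b) x + q.B m x * q.B a b) • m + q.B m x • (a + b)) := by
  set L := LinearMap.range (dif g) with hL
  set J := LinearMap.range (dif g') with hJ
  have hdim := Submodule.finrank_sup_add_finrank_inf_eq L J
  rcases eq_or_ne (L ⊓ J) ⊥ with hbot | hbot
  · left
    have horth : ∀ u ∈ L, ∀ v ∈ J, q.B u v = 0 := by
      intro u hu v hv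
      obtain ⟨y, rfl⟩ := hv
      have h0 : dif g (dif g' y) = 0 := by
        have : dif g (dif g' y) ∈ L ⊓ J := ⟨⟨_, rfl⟩, hc y ▸ ⟨_, rfl⟩⟩
        rwa [hbot, Submodule.mem_bot] at this
      have : dif g' y ∈ LinearMap.ker (dif g) := h0
      rw [h.ker_eq] at this
      exact q.mem_orth.1 this u hu
    refine ⟨hts.sup hts' horth, hbot, ?_⟩
    rw [hbot, finrank_bot] at hdim
    omega
  · right
    obtain ⟨m, hm, hm0⟩ := (L ⊓ J).ne_bot_iff.1 hbot
    have hget : ∀ (U : Submodule (ZMod 2) (W k)), finrank (ZMod 2) U = 2 → m ∈ U →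
        ∃ a, a ≠ 0 ∧ m ≠ a ∧ U = Submodule.span (ZMod 2) {m, a} := by
      intro U hU hmU
      obtain ⟨a, ha, hna⟩ := SetLike.not_le_iff_exists.1 (show ¬ U ≤ Submodule.span (ZMod 2) {m} from fun hle => by
        have := Submodule.finrank_mono hle
        rw [finrank_span_singleton (K := ZMod 2) hm0] at this
        omega)
      rw [mem_span_one, not_or] at hna
      refine ⟨a, hna.1, fun e => hna.2 e.symm, (Submodule.eq_of_le_of_finrank_le ?_ ?_).symm⟩
      · rw [Submodule.span_le]
        rintro x (rfl | rfl)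
        exacts [hmU, ha]
      · rw [finrank_span_two hm0 hna.1 fun e => hna.2 e.symm]; omega
    obtain ⟨a, ha0, hma, hLa⟩ := hget L hd hm.1
    obtain ⟨b, hb0, hmb, hJb⟩ := hget J hd' hm.2
    have haL : a ∈ L := by rw [hLa]; exact Submodule.subset_span (by simp)
    have hbJ : b ∈ J := by rw [hJb]; exact Submodule.subset_span (by simp)
    have hmaB : q.B m a = 0 := hts.isotropic _ hm.1 _ haL
    have hmbB : q.B m b = 0 := hts'.isotropic _ hm.2 _ hbJ
    refine ⟨m, a, b, hts _ hm.1, hts _ haL, hts' _ hbJ, hmaB, hmbB, fun e => hne ?_, fun e => hne ?_, hLa, hJb,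
      ?_, fun x => ?_⟩
    · rw [hLa, hJb, vadd_eq_zero e]
    · rw [hLa, hJb]
      have hb : b = m + a := by rw [e, add_comm a b, vadd_cancel']
      refine le_antisymm ?_ ?_ <;> rw [Submodule.span_le] <;> rintro x (e' | e') <;>
        simp only [SetLike.mem_coe, mem_span_two, hb, vadd_cancel, show x = _ from e'] <;> simp
    · rcases z2_cases (q.B a b) with e | e
      · refine .inl ⟨e, hts.sup hts' fun u hu v hv => ?_, ?_⟩
        · rw [hLa, mem_span_two] at hu
          rw [hJb, mem_span_two] at hv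
          rcases hu with e1 | e1 | e1 | e1 <;> rcases hv with e2 | e2 | e2 | e2 <;>
            simp [e1, e2, q.B_self, hmbB, e, q.B_symm a m, hmaB]
        · have : finrank (ZMod 2) ↥(L ⊓ J) ≤ 1 := by
            by_contra hgt
            have h1 : L ⊓ J = L := Submodule.eq_of_le_of_finrank_le inf_le_left (by omega)
            have h2 : L ⊓ J = J := Submodule.eq_of_le_of_finrank_le inf_le_right (by omega)
            exact hne (h1.symm.trans h2)
          omega
      · exact .inr e
    · have eg := h.eq_plane hm0 ha0 hma hts hLa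
      have eg' := h'.eq_plane hm0 hb0 hmb hts' hJb
      rw [eg x, eg' x, map_add, map_smul, map_smul, eg m, eg b, q.B_self m, q.B_symm a m, hmaB, hmbB]
      simp only [zero_smul, add_zero, smul_zero, zero_add, smul_smul, map_add, LinearMap.add_apply, add_smul,
        smul_add]
      abel

/-- The shape of the isometry of a non-totally-singular plane with singular vector c. -/
def PlaneShape (q : QForm k) (g : W k →ₗ[ZMod 2] W k) (c d : W k) : Prop :=
  q.Q c = 0 ∧ q.Q d = 1 ∧ q.B c d = 0 ∧ c ≠ 0 ∧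
    (LinearMap.range (dif g) = Submodule.span (ZMod 2) {c, d}) ∧
    ∀ x, dif g x = (q.B c x + q.B d x) • c + q.B c x • d

theorem PlaneShape.change {g : W k →ₗ[ZMod 2] W k} {c d : W k} (h : PlaneShape q g c d) :
    PlaneShape q g c (c + d) := by
  obtain ⟨h1, h2, h3, h4, h5, h6⟩ := h
  refine ⟨h1, by rw [q.Q_add_of_orth h3, h1, h2, zero_add], by rw [map_add, q.B_self, h3, add_zero], h4,
    h5.trans ?_, fun x => ?_⟩
  · refine le_antisymm ?_ ?_ <;> rw [Submodule.span_le] <;> rintro y (rfl | rfl) <;>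
      simp only [SetLike.mem_coe, mem_span_two, vadd_cancel] <;> simp
  · rw [h6 x, map_add, LinearMap.add_apply, smul_add, ← add_assoc, ← add_smul,
      show q.B c x + (q.B c x + q.B d x) + q.B c x = q.B c x + q.B d x by
        linear_combination z2_self (q.B c x)]

theorem PlaneShape.ne {g : W k →ₗ[ZMod 2] W k} {c d : W k} (h : PlaneShape q g c d) : d ≠ 0 ∧ c ≠ d :=
  ⟨fun e => zero_ne_one ((q.Q_zero.symm.trans (congrArg q.Q e.symm)).trans h.2.1),
    fun e => zero_ne_one (h.1.symm.trans ((congrArg q.Q e).trans h.2.1))⟩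

theorem PlaneShape.finrank_range {g : W k →ₗ[ZMod 2] W k} {c d : W k} (h : PlaneShape q g c d) :
    finrank (ZMod 2) (LinearMap.range (dif g)) = 2 := by
  rw [h.2.2.2.2.1]; exact finrank_span_two h.2.2.2.1 h.ne.1 h.ne.2

theorem PlaneShape.not_singular {g : W k →ₗ[ZMod 2] W k} {c d : W k} (h : PlaneShape q g c d) :
    ¬ q.Singular (LinearMap.range (dif g)) := fun hts => by
  have hd : d ∈ LinearMap.range (dif g) := by rw [h.2.2.2.2.1]; exact Submodule.subset_span (by simp)
  exact one_ne_zero (h.2.1.symm.trans (hts d hd))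

theorem PlaneShape.adapt {g : W k →ₗ[ZMod 2] W k} {c d m : W k} (h : PlaneShape q g c d)
    (hm : m ∈ LinearMap.range (dif g)) (hmQ : q.Q m = 1) : PlaneShape q g c m := by
  rw [h.2.2.2.2.1, mem_span_two] at hm
  rcases hm with rfl | rfl | rfl | rfl
  · rw [q.Q_zero] at hmQ; exact absurd hmQ zero_ne_one
  · rw [h.1] at hmQ; exact absurd hmQ zero_ne_one
  · exact h
  · exact h.change

/-- Two such planes meeting in a line and orthogonal: the sum has rank at most two. -/
theorem PlaneShape.pair_small {g g' : W k →ₗ[ZMod 2] W k} {c d c' d' : W k} (h : PlaneShape q g c d)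
    (h' : PlaneShape q g' c' d') {m : W k} (hm0 : m ≠ 0) (hm : m ∈ LinearMap.range (dif g))
    (hm' : m ∈ LinearMap.range (dif g')) :
    ∃ u v, ∀ x, dif g x + dif g' x ∈ Submodule.span (ZMod 2) ({u, v} : Set (W k)) := by
  rcases z2_cases (q.Q m) with hQ | hQ
  · have hsame : ∀ {g : W k →ₗ[ZMod 2] W k} {c d : W k}, PlaneShape q g c d → m ∈ LinearMap.range (dif g) →
        m = c := by
      intro g c d h hm
      rw [h.2.2.2.2.1, mem_span_two] at hm
      rcases hm with rfl | rfl | rfl | rfl
      · exact absurd rfl hm0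
      · rfl
      · exact absurd (hQ.symm.trans h.2.1) zero_ne_one
      · exact absurd (hQ.symm.trans h.change.2.1) zero_ne_one
    have e1 := hsame h hm
    have e2 := hsame h' hm'
    refine ⟨m, d + d', fun x => ?_⟩
    rw [h.2.2.2.2.2, h'.2.2.2.2.2, ← e1, ← e2]
    have key : ∀ α δ δ' u v v' : ZMod 2,
        (α + δ) * u + α * v + ((α + δ') * u + α * v') = (δ + δ') * u + α * (v + v') := by decide
    rw [show (q.B m x + q.B d x) • m + q.B m x • d + ((q.B m x + q.B d' x) • m + q.B m x • d') =
      (q.B d x + q.B d' x) • m + q.B m x • (d + d') from funext fun i => key _ _ _ _ _ _]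
    exact Submodule.add_mem _ (Submodule.smul_mem _ _ (Submodule.subset_span (by simp)))
      (Submodule.smul_mem _ _ (Submodule.subset_span (by simp)))
  · have s := h.adapt hm hQ
    have s' := h'.adapt hm' hQ
    refine ⟨c + m, c' + m, fun x => ?_⟩
    rw [s.2.2.2.2.2, s'.2.2.2.2.2]
    have key : ∀ α β α' u v u' : ZMod 2,
        (α + β) * u + α * v + ((α' + β) * u' + α' * v) = (α + β) * (u + v) + (α' + β) * (u' + v) := by decide
    rw [show (q.B c x + q.B m x) • c + q.B c x • m + ((q.B c' x + q.B m x) • c' + q.B c' x • m) =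
      (q.B c x + q.B m x) • (c + m) + (q.B c' x + q.B m x) • (c' + m) from funext fun i => key _ _ _ _ _ _]
    exact Submodule.add_mem _ (Submodule.smul_mem _ _ (Submodule.subset_span (by simp)))
      (Submodule.smul_mem _ _ (Submodule.subset_span (by simp)))

end QForm

end Cfsg.Agent.H57.CSix
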