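import Cfsg.Agent.H57.CSix.Elements
import Cfsg.Agent.Symplectic.AltStd

/-!
The two eigenspaces of a singular element: coordinates, compression, lifting and the smaller frame.
-/

set_option autoImplicit false
set_option linter.unusedSectionVars false

namespace Cfsg.Agent.H57.CSix

open Matrix Module

/-- The index set of a symplectic space. -/
abbrev SI (m : ℕ) : Type := Fin m ⊕ Fin m

variable {F : Type*} [Field F] [Fintype F] {m : ℕ} {k : ℕ}
variable {R : Subgroup (GL (SI m) F)}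

/-- Coordinates on the fixed space of a singular element Z, and an involution X exchanging the two eigenspaces. -/
structure Split (fr : Frame k R) (m' : ℕ) where
  z : W k
  x : W k
  z0 : z ≠ 0
  zQ : fr.q.Q z = 0
  xQ : fr.q.Q x = 0
  zx : fr.q.B z x = 1
  J : Matrix (SI m) (SI m') F
  K : Matrix (SI m') (SI m) F
  KJ : K * J = 1
  JK : J * K = (2 : F)⁻¹ • (1 + (fr.cl z : Matrix (SI m) (SI m) F))
  dim : m = 2 * m'
  pos : 0 < m'
  form : ∀ u v, Cfsg.sympForm m F (J *ᵥ u) (J *ᵥ v) = Cfsg.sympForm m' F u v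

namespace Frame

variable (fr : Frame k R)

theorem exists_split (hR : R ≤ Cfsg.spGL m F) {z : W k} (hz0 : z ≠ 0) (hzQ : fr.q.Q z = 0) :
    ∃ m', ∃ S : Split fr m', S.z = z := by
  classical
  obtain ⟨x0, hx0⟩ := fr.q.exists_B_one hz0
  obtain ⟨x, hxQ, hzx⟩ : ∃ x, fr.q.Q x = 0 ∧ fr.q.B z x = 1 := by
    rcases z2_cases (fr.q.Q x0) with e | e
    · exact ⟨x0, e, hx0⟩
    · exact ⟨x0 + z, by rw [fr.q.Q_add, e, hzQ, fr.q.B_symm, hx0, add_zero, z2_self],
        by rw [map_add, fr.q.B_self, add_zero, hx0]⟩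
  set Z := (fr.cl z : Matrix (SI m) (SI m) F) with hZ
  set X := (fr.cl x : Matrix (SI m) (SI m) F) with hX
  set P := (2 : F)⁻¹ • (1 + Z) with hP
  have hZZ : Z * Z = 1 := by rw [hZ, ← Units.val_mul, fr.cl_sq_zero hzQ, Units.val_one]
  have hXX : X * X = 1 := by rw [hX, ← Units.val_mul, fr.cl_sq_zero hxQ, Units.val_one]
  have hXZ : X * Z = -(Z * X) := by
    rw [hZ, hX, ← Units.val_mul, fr.anti (v := x) (w := z) (by rw [fr.q.B_symm]; exact hzx), Units.val_neg,
      Units.val_mul]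
  have h22 : (2 : F)⁻¹ * 2 = 1 := inv_mul_cancel₀ fr.two
  have hPP : P * P = P := by
    rw [hP, smul_mul_smul_comm, add_mul, one_mul, mul_add, mul_one, hZZ,
      show (1 : Matrix (SI m) (SI m) F) + Z + (Z + 1) = (2 : F) • (1 + Z) by rw [two_smul]; abel,
      smul_smul, mul_assoc, h22, mul_one]
  have hPX : ∀ v, P *ᵥ (X *ᵥ v) = X *ᵥ v - X *ᵥ (P *ᵥ v) := fun v => by
    have e : P * X = X - X * P := by
      rw [hP, smul_mul_assoc, mul_smul_comm, add_mul, mul_add, one_mul, mul_one, hXZ]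
      have : X = (2 : F)⁻¹ • (X + X) := by rw [← two_smul F X, smul_smul, h22, one_smul]
      conv_rhs => arg 1; rw [this]
      rw [← smul_sub]
      congr 1
      abel
    rw [mulVec_mulVec, mulVec_mulVec, ← sub_mulVec, e]
  have hsp := fun g (hg : g ∈ R) => H95.mem_isoGrp.1 (hR hg)
  have hfS : Cfsg.Geo.IsSymplecticForm (Cfsg.sympForm m F) := H95.isSymplecticForm_sympForm m
  have hZadj : ∀ u v, Cfsg.sympForm m F (Z *ᵥ u) v = Cfsg.sympForm m F u (Z *ᵥ v) := fun u v => by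
    conv_lhs => rw [← hsp _ (fr.cl_mem z), ← hZ, mulVec_mulVec, hZZ, one_mulVec]
  have hPadj : ∀ u v, Cfsg.sympForm m F (P *ᵥ u) v = Cfsg.sympForm m F u (P *ᵥ v) := fun u v => by
    simp only [hP, smul_mulVec, add_mulVec, one_mulVec, H95.f_smul_left hfS, H95.f_smul_right hfS,
      H95.f_add_left hfS, H95.f_add_right hfS, hZadj]
  set V := LinearMap.range P.mulVecLin with hV
  have hfix : ∀ v ∈ V, P *ᵥ v = v := by
    rintro _ ⟨u, rfl⟩
    rw [mulVecLin_apply, mulVec_mulVec, hPP]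
  let B : LinearMap.BilinForm F (SI m → F) := Symplectic.spB m F
  have hBapp : ∀ u v, B u v = Cfsg.sympForm m F u v := fun u v => Symplectic.spB_apply u v
  have hAlt : (B.restrict V).IsAlt := fun v => by
    show B v.1 v.1 = 0
    rw [hBapp]; exact H95.f_self hfS v.1
  have hnd : (B.restrict V).Nondegenerate := by
    have hleft : ∀ v : V, (∀ u, (B.restrict V) v u = 0) → v = 0 := ?_
    · exact ⟨hleft, fun v hv => hleft v fun u => hAlt.isRefl _ _ (hv u)⟩
    intro v hv
    by_contra hne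
    have hv0 : v.1 ≠ 0 := fun e => hne (Subtype.ext e)
    obtain ⟨y, hy⟩ := H95.exists_f_eq_one hfS hv0
    have := hv ⟨P *ᵥ y, y, rfl⟩
    rw [show (B.restrict V) v ⟨P *ᵥ y, y, rfl⟩ = B v.1 (P *ᵥ y) from rfl, hBapp, ← hPadj, hfix _ v.2, hy] at this
    exact one_ne_zero this
  obtain ⟨m', e, hdim, he⟩ := Symplectic.exists_std_equiv hAlt hnd
  let Jl : (SI m' → F) →ₗ[F] (SI m → F) := V.subtype.comp e.symm.toLinearMap
  let Kl : (SI m → F) →ₗ[F] (SI m' → F) :=
    e.toLinearMap.comp (P.mulVecLin.codRestrict V fun v => ⟨v, rfl⟩)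
  have hKJ : ∀ u, Kl (Jl u) = u := fun u => by
    show e ⟨P *ᵥ (e.symm u).1, _⟩ = u
    refine (congrArg e (Subtype.ext (hfix _ (e.symm u).2))).trans ?_
    exact e.apply_symm_apply u
  have hJK : ∀ v, Jl (Kl v) = P *ᵥ v := fun v => by
    show (e.symm (e ⟨P *ᵥ v, _⟩)).1 = P *ᵥ v
    rw [e.symm_apply_apply]
  -- X exchanges the two parts
  have hdim2 : m = 2 * m' := by
    have h1 := LinearMap.finrank_range_add_finrank_ker P.mulVecLin
    have hXmem : ∀ v, v ∈ LinearMap.ker P.mulVecLin → X *ᵥ v ∈ V := fun v hv => by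
      refine ⟨X *ᵥ v, ?_⟩
      rw [mulVecLin_apply, hPX, show P *ᵥ v = 0 from hv, mulVec_zero, sub_zero]
    have hXmem' : ∀ v, v ∈ V → X *ᵥ v ∈ LinearMap.ker P.mulVecLin := fun v hv => by
      rw [LinearMap.mem_ker, mulVecLin_apply, hPX, hfix v hv, sub_self]
    let eq' : LinearMap.ker P.mulVecLin ≃ₗ[F] V :=
      { toFun := fun v => ⟨X *ᵥ v.1, hXmem _ v.2⟩
        invFun := fun v => ⟨X *ᵥ v.1, hXmem' _ v.2⟩
        map_add' := fun a b => Subtype.ext (by show X *ᵥ (a.1 + b.1) = X *ᵥ a.1 + X *ᵥ b.1; exact mulVec_add _ _ _)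
        map_smul' := fun c a => Subtype.ext (by show X *ᵥ (c • a.1) = c • (X *ᵥ a.1); exact mulVec_smul _ _ _)
        left_inv := fun v => Subtype.ext (by
          show X *ᵥ (X *ᵥ v.1) = v.1
          rw [mulVec_mulVec, hXX, one_mulVec])
        right_inv := fun v => Subtype.ext (by
          show X *ᵥ (X *ᵥ v.1) = v.1
          rw [mulVec_mulVec, hXX, one_mulVec]) }
    rw [eq'.finrank_eq, Module.finrank_pi, Fintype.card_sum, Fintype.card_fin, ← hV] at h1
    omega
  have hpos : 0 < m' := by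
    obtain ⟨i⟩ := fr.ne
    rcases i with i | i <;> have := i.pos <;> omega
  refine ⟨m', ⟨z, x, hz0, hzQ, hxQ, hzx, LinearMap.toMatrix' Jl, LinearMap.toMatrix' Kl, ?_, ?_, hdim2, hpos,
    fun u v => ?_⟩, rfl⟩
  · rw [← LinearMap.toMatrix'_comp, show Kl.comp Jl = LinearMap.id from LinearMap.ext hKJ, LinearMap.toMatrix'_id]
  · rw [← LinearMap.toMatrix'_comp, show Jl.comp Kl = Matrix.toLin' P from LinearMap.ext fun v => by
      rw [LinearMap.comp_apply, hJK, Matrix.toLin'_apply], LinearMap.toMatrix'_toLin']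
  · rw [LinearMap.toMatrix'_mulVec, LinearMap.toMatrix'_mulVec, ← hBapp]
    show (B.restrict V) (e.symm u) (e.symm v) = _
    rw [← he, e.apply_symm_apply, e.apply_symm_apply]

end Frame

namespace Split

variable {fr : Frame k R} {m' : ℕ} (S : Split fr m')

local notation "MM" => Matrix (SI m) (SI m) F

/-- The involution fixing the part. -/
abbrev Z : Matrix (SI m) (SI m) F := (fr.cl S.z : Matrix (SI m) (SI m) F)

/-- The involution exchanging the parts. -/
abbrev X : Matrix (SI m) (SI m) F := (fr.cl S.x : Matrix (SI m) (SI m) F)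

theorem ZZ : S.Z * S.Z = 1 := by rw [← Units.val_mul, fr.cl_sq_zero S.zQ, Units.val_one]

theorem XX : S.X * S.X = 1 := by rw [← Units.val_mul, fr.cl_sq_zero S.xQ, Units.val_one]

theorem XZ : S.X * S.Z = -(S.Z * S.X) := by
  rw [← Units.val_mul, fr.anti (v := S.x) (w := S.z) (by rw [fr.q.B_symm]; exact S.zx), Units.val_neg,
    Units.val_mul]

theorem KP : S.K * (S.J * S.K) = S.K := by rw [← Matrix.mul_assoc, S.KJ, Matrix.one_mul]

theorem PJ : S.J * S.K * S.J = S.J := by rw [Matrix.mul_assoc, S.KJ, Matrix.mul_one]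

theorem ZP : S.Z * (S.J * S.K) = S.J * S.K := by
  rw [S.JK, mul_smul_comm, mul_add, mul_one, S.ZZ, add_comm]

theorem PZ : S.J * S.K * S.Z = S.J * S.K := by
  rw [S.JK, smul_mul_assoc, add_mul, one_mul, S.ZZ, add_comm]

theorem ZJ : S.Z * S.J = S.J := by
  conv_lhs => rw [← S.PJ]
  rw [← Matrix.mul_assoc, S.ZP, S.PJ]

theorem KZ : S.K * S.Z = S.K := by
  conv_lhs => rw [← S.KP]
  rw [Matrix.mul_assoc, S.PZ, S.KP]

include S in
theorem half_add (A : Matrix (SI m) (SI m) F) : (2 : F)⁻¹ • (A + A) = A := by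
  rw [← two_smul F A, smul_smul, inv_mul_cancel₀ fr.two, one_smul]

theorem XPX : S.X * (S.J * S.K) * S.X = 1 - S.J * S.K := by
  rw [S.JK, mul_smul_comm, smul_mul_assoc, mul_add, add_mul, mul_one, S.XX, S.XZ, neg_mul, mul_assoc, S.XX,
    mul_one]
  rw [eq_sub_iff_add_eq, ← smul_add,
    show (1 : Matrix (SI m) (SI m) F) + -S.Z + (1 + S.Z) = 1 + 1 by abel, S.half_add]

theorem KXJ : S.K * S.X * S.J = 0 := by
  have h1 : S.K * S.X * (S.Z * S.J) = -(S.K * S.Z * (S.X * S.J)) := by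
    rw [← Matrix.mul_assoc, Matrix.mul_assoc S.K S.X S.Z, S.XZ, Matrix.mul_neg, Matrix.neg_mul,
      ← Matrix.mul_assoc S.K S.Z S.X, Matrix.mul_assoc (S.K * S.Z) S.X S.J]
  rw [S.ZJ, S.KZ, ← Matrix.mul_assoc] at h1
  have h2 : (2 : F) • (S.K * S.X * S.J) = 0 := by
    rw [two_smul]
    exact eq_neg_iff_add_eq_zero.1 h1
  exact (smul_eq_zero.1 h2).resolve_left fr.two

/-- The compression of a matrix to the fixed space. -/
def comp (A : Matrix (SI m) (SI m) F) : Matrix (SI m') (SI m') F := S.K * A * S.J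

theorem comp_neg (A : MM) : S.comp (-A) = -S.comp A := by rw [comp, Matrix.mul_neg, Matrix.neg_mul]; rfl

theorem comp_one : S.comp 1 = 1 := by rw [comp, Matrix.mul_one, S.KJ]

theorem comp_mul {A : MM} (hA : A * S.Z = S.Z * A) (B : MM) : S.comp (A * B) = S.comp A * S.comp B := by
  have hAP : A * (S.J * S.K) = S.J * S.K * A := by
    rw [S.JK, mul_smul_comm, smul_mul_assoc, mul_add, add_mul, mul_one, one_mul, hA]
  symm
  calc S.comp A * S.comp B = S.K * (A * (S.J * S.K)) * (B * S.J) := by simp only [comp, Matrix.mul_assoc]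
    _ = S.K * (S.J * S.K) * (A * (B * S.J)) := by rw [hAP]; simp only [Matrix.mul_assoc]
    _ = S.comp (A * B) := by rw [S.KP]; simp only [comp, Matrix.mul_assoc]

theorem comp_Z_mul (A : MM) : S.comp (S.Z * A) = S.comp A := by
  rw [comp, ← Matrix.mul_assoc, S.KZ]; rfl

/-- The block matrix with given compressions. -/
def liftM (a b : Matrix (SI m') (SI m') F) : Matrix (SI m) (SI m) F :=
  S.J * a * S.K + S.X * (S.J * b * S.K) * S.X

theorem liftM_one : S.liftM 1 1 = 1 := by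
  rw [liftM, Matrix.mul_one, S.XPX, add_sub_cancel]

theorem liftM_neg (a b : Matrix (SI m') (SI m') F) : S.liftM (-a) (-b) = -S.liftM a b := by
  simp only [liftM, Matrix.mul_neg, Matrix.neg_mul, neg_add]

theorem liftM_mul (a b c d : Matrix (SI m') (SI m') F) : S.liftM a b * S.liftM c d = S.liftM (a * c) (b * d) := by
  have h1 : ∀ (A : MM) (B : Matrix (SI m') (SI m) F), A * S.J * a * S.K * (S.X * (S.J * B)) =
      A * S.J * a * (S.K * S.X * S.J) * B := fun A B => by simp only [Matrix.mul_assoc]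
  simp only [liftM, Matrix.add_mul, Matrix.mul_add]
  have e1 : S.J * a * S.K * (S.J * c * S.K) = S.J * (a * c) * S.K := by
    calc S.J * a * S.K * (S.J * c * S.K) = S.J * a * (S.K * S.J) * (c * S.K) := by simp only [Matrix.mul_assoc]
      _ = _ := by rw [S.KJ, Matrix.mul_one]; simp only [Matrix.mul_assoc]
  have e2 : S.J * a * S.K * (S.X * (S.J * d * S.K) * S.X) = 0 := by
    calc S.J * a * S.K * (S.X * (S.J * d * S.K) * S.X) = S.J * a * (S.K * S.X * S.J) * (d * S.K * S.X) := by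
          simp only [Matrix.mul_assoc]
      _ = 0 := by rw [S.KXJ, Matrix.mul_zero, Matrix.zero_mul]
  have e3 : S.X * (S.J * b * S.K) * S.X * (S.J * c * S.K) = 0 := by
    calc S.X * (S.J * b * S.K) * S.X * (S.J * c * S.K) = S.X * (S.J * b) * (S.K * S.X * S.J) * (c * S.K) := by
          simp only [Matrix.mul_assoc]
      _ = 0 := by rw [S.KXJ, Matrix.mul_zero, Matrix.zero_mul]
  have e4 : S.X * (S.J * b * S.K) * S.X * (S.X * (S.J * d * S.K) * S.X) = S.X * (S.J * (b * d) * S.K) * S.X := by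
    calc S.X * (S.J * b * S.K) * S.X * (S.X * (S.J * d * S.K) * S.X) =
          S.X * (S.J * b * S.K) * (S.X * S.X) * (S.J * d * S.K * S.X) := by simp only [Matrix.mul_assoc]
      _ = S.X * (S.J * b) * (S.K * S.J) * (d * S.K * S.X) := by
          rw [S.XX, Matrix.mul_one]; simp only [Matrix.mul_assoc]
      _ = _ := by rw [S.KJ, Matrix.mul_one]; simp only [Matrix.mul_assoc]
  rw [e1, e2, e3, e4, zero_add, add_zero]

theorem liftM_Z (a b : Matrix (SI m') (SI m') F) : S.liftM a b * S.Z = S.Z * S.liftM a b := by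
  have e1 : S.J * a * S.K * S.Z = S.Z * (S.J * a * S.K) := by
    rw [Matrix.mul_assoc, S.KZ, ← Matrix.mul_assoc S.Z, ← Matrix.mul_assoc S.Z, S.ZJ]
  have hXZ' : S.Z * S.X = -(S.X * S.Z) := by rw [S.XZ, neg_neg]
  rw [liftM, add_mul, mul_add, e1]
  congr 1
  have e2 : S.J * b * S.K * S.Z = S.Z * (S.J * b * S.K) := by
    rw [Matrix.mul_assoc, S.KZ, ← Matrix.mul_assoc S.Z, ← Matrix.mul_assoc S.Z, S.ZJ]
  calc S.X * (S.J * b * S.K) * S.X * S.Z = -(S.X * (S.J * b * S.K * S.Z) * S.X) := by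
        rw [mul_assoc _ S.X S.Z, S.XZ, mul_neg]; simp only [mul_assoc]
    _ = S.Z * (S.X * (S.J * b * S.K) * S.X) := by
        rw [e2]; conv_rhs => rw [← mul_assoc, ← mul_assoc, hXZ']
        simp only [neg_mul, mul_assoc]

theorem comp_liftM (a b : Matrix (SI m') (SI m') F) : S.comp (S.liftM a b) = a := by
  rw [comp, liftM, Matrix.mul_add, Matrix.add_mul]
  have e2 : S.K * (S.X * (S.J * b * S.K) * S.X) * S.J = 0 := by
    calc S.K * (S.X * (S.J * b * S.K) * S.X) * S.J = S.K * S.X * S.J * (b * S.K * (S.X * S.J)) := by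
          simp only [Matrix.mul_assoc]
      _ = 0 := by rw [S.KXJ, Matrix.zero_mul]
  rw [e2, add_zero]
  calc S.K * (S.J * a * S.K) * S.J = S.K * S.J * a * (S.K * S.J) := by simp only [Matrix.mul_assoc]
    _ = a := by rw [S.KJ, Matrix.one_mul, Matrix.mul_one]

theorem X_liftM (a b : Matrix (SI m') (SI m') F) : S.X * S.liftM a b * S.X = S.liftM b a := by
  rw [liftM, liftM, mul_add, add_mul, add_comm]
  congr 1
  calc S.X * (S.X * (S.J * b * S.K) * S.X) * S.X = (S.X * S.X) * (S.J * b * S.K) * (S.X * S.X) := by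
        simp only [mul_assoc]
    _ = _ := by rw [S.XX, one_mul, mul_one]

theorem eq_liftM {A : MM} (hA : A * S.Z = S.Z * A) : A = S.liftM (S.comp A) (S.comp (S.X * A * S.X)) := by
  have hP : ∀ {B : MM}, B * S.Z = S.Z * B → S.J * S.comp B * S.K = B * (S.J * S.K) := by
    intro B hB
    have hBP : B * (S.J * S.K) = S.J * S.K * B := by
      rw [S.JK, mul_smul_comm, smul_mul_assoc, mul_add, add_mul, mul_one, one_mul, hB]
    calc S.J * S.comp B * S.K = S.J * S.K * B * (S.J * S.K) := by simp only [comp, Matrix.mul_assoc]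
      _ = B * (S.J * S.K) * (S.J * S.K) := by rw [hBP]
      _ = B * (S.J * (S.K * (S.J * S.K))) := by simp only [Matrix.mul_assoc]
      _ = _ := by rw [S.KP]
  have hXAX : S.X * A * S.X * S.Z = S.Z * (S.X * A * S.X) := by
    have hXZ' : S.Z * S.X = -(S.X * S.Z) := by rw [S.XZ, neg_neg]
    rw [mul_assoc, S.XZ, mul_neg, ← mul_assoc, mul_assoc S.X A S.Z, hA, ← mul_assoc S.X S.Z A, S.XZ]
    simp only [neg_mul, neg_neg, mul_assoc]
  rw [liftM, hP hA, hP hXAX]
  calc A = A * (S.J * S.K) + A * (1 - S.J * S.K) := by rw [← mul_add, add_sub_cancel, mul_one]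
    _ = A * (S.J * S.K) + A * (S.X * (S.J * S.K) * S.X) := by rw [S.XPX]
    _ = _ := by
        congr 1
        calc A * (S.X * (S.J * S.K) * S.X) = (S.X * S.X) * A * (S.X * (S.J * S.K) * S.X) := by rw [S.XX, one_mul]
          _ = _ := by simp only [mul_assoc]

theorem ne_one : S.J * S.K ≠ 0 := by
  intro e
  have := congrArg (fun A => S.K * A * S.J) e
  simp only [Matrix.mul_zero, Matrix.zero_mul] at this
  rw [S.KP, S.KJ] at this
  have : Nonempty (SI m') := ⟨.inl ⟨0, S.pos⟩⟩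
  exact one_ne_zero ‹(1 : Matrix (SI m') (SI m') F) = 0›

end Split

end Cfsg.Agent.H57.CSix
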