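import Cfsg.Agent.H57.CSix.Unique

/-!
The product of a special involution and a singular element of another frame.
-/

set_option autoImplicit false
set_option linter.unusedSectionVars false

namespace Cfsg.Agent.H57.CSix

open Matrix Module

variable {ι : Type} [Fintype ι] [DecidableEq ι] {F : Type*} [Field F] [Fintype F]
variable {f : (ι → F) → (ι → F) → F} {M : Subgroup (GL ι F)} {k : ℕ}
variable {R R' : Subgroup (GL ι F)}

/-- The exceptional companion of a special involution. -/
structure Excep (fr : Frame k R) (fr' : Frame k R') (a b : W k) (t w : GL ι F) : Prop where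
  mem : w ∈ Frame.N R
  mem' : w ∈ Frame.N R'
  sq : PM (w * w) 1
  comm : PM (t * w) (w * t)
  ex : ∃ a' b', fr.LPair a' b' ∧ fr.IsCZ a' b' (t * w) ∧
    fr.q.Singular (Submodule.span (ZMod 2) ({a, b} : Set (W k)) ⊔ Submodule.span (ZMod 2) {a', b'}) ∧
    finrank (ZMod 2) ↥(Submodule.span (ZMod 2) ({a, b} : Set (W k)) ⊔ Submodule.span (ZMod 2) {a', b'}) = 4 ∧
    LinearMap.range (fr.phi w) = Submodule.span (ZMod 2) ({a, b} : Set (W k)) ⊔ Submodule.span (ZMod 2) {a', b'}

namespace Over

variable {fr : Frame k R} {fr' : Frame k R'}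

theorem step (h : Over f M fr) (h' : Over f M fr') (hne : R ≠ R') {a b : W k} {t : GL ι F}
    (hp : fr.LPair a b) (ht : fr.IsCZ a b t) {v : W k} (hv0 : v ≠ 0) (hvQ : fr'.q.Q v = 0) :
    k = 5 ∧ ∃ w, Excep fr fr' a b t w ∧
      ∀ e, PM (e * t) (t * e) → PM (e * fr'.cl v) (fr'.cl v * e) → PM (e * w) (w * e) := by
  have htN := ht.mem_N hp
  have htt : t * t = 1 := ht.sq hp
  have htS := ht.mem_iso hp h.symp h.Rle
  have htInv : fr.q.Invol (fr.act t) := fr.invol_of_pm htN (.inl htt)
  have hL2 := cz_finrank hp ht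
  have htsL := cz_singular hp ht
  have h3 := h.three
  rcases dihedral (h.base t htS htN) (h'.cl_mem v) htt (fr'.cl_sq_zero hvQ) with h1 | h1
  · obtain ⟨g, hg, hgc, -⟩ := h1
    exfalso
    refine not_conj_singular h h' htN hv0 hvQ hg hgc ?_
    by_contra hno
    push Not at hno
    rw [show LinearMap.range (fr.phi t) = ⊥ from LinearMap.range_eq_bot.2 (LinearMap.ext hno), finrank_bot] at hL2
    omega
  obtain ⟨w, hwM, hw1, hww, hwt, hwY, hcomm, hcases⟩ := h1
  have hwN' : w ∈ Frame.N R' := h'.cent v w hv0 hvQ hwM hwY.symm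
  have hwN : w ∈ Frame.N R := cz_fix h hp ht hwM ((PM.conj_of_comm hwt.symm).mem (neg_N fr) htN)
  have hwInv : fr.q.Invol (fr.act w) := fr.invol_of_pm hwN hww
  have htwN : t * w ∈ Frame.N R := (Frame.N R).mul_mem htN hwN
  rcases hcases with ⟨⟨g, hg, htw⟩, -⟩ | ⟨⟨g, hg, htw⟩, -⟩
  swap
  · exfalso
    have hR := h.conj_mem h' hv0 hvQ hg (htw ▸ htwN)
    obtain ⟨r, hr⟩ := fr.surj _ hR
    have hsq : g * fr'.cl v * g⁻¹ * (g * fr'.cl v * g⁻¹) = 1 := by
      rw [show g * fr'.cl v * g⁻¹ * (g * fr'.cl v * g⁻¹) = g * (fr'.cl v * fr'.cl v) * g⁻¹ by group,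
        fr'.cl_sq_zero hvQ, mul_one, mul_inv_cancel]
    have hrQ := fr.Q_of_invol hr hsq
    have hwe : PM w (t * fr.cl r) := by
      have := hr.mul_left t
      rwa [← htw, ← sq_mul_cancel htt] at this
    rcases eq_or_ne r 0 with rfl | hr0
    · rw [fr.cl_zero, mul_one] at hwe
      exact cz_not_both h h' hne hp ht (hwe.symm.mem (neg_N fr') hwN')
    have hrfix : r ∈ LinearMap.ker (fr.phi t) := by
      refine (fr.mem_ker_iff htN).2 ?_
      have e1 : PM (t * (t * w)) (t * w * t) := (hwt.mul_left t).trans (PM.of_eq (mul_assoc _ _ _).symm)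
      rw [htw] at e1
      exact (hr.symm.mul_left t).trans (e1.trans (hr.mul_right t))
    have hphi : fr.act w = fr.act t := LinearMap.ext fun x => by
      rw [fr.act_pm hwe hwN ((Frame.N R).mul_mem htN (fr.cl_mem_N r)), fr.act_mul htN (fr.cl_mem_N r), fr.act_cl]
    have hl : finrank (ZMod 2) (LinearMap.range (fr.phi w)) = 2 := by rw [Frame.phi, hphi]; exact hL2
    have hk := (range_allowed h h' hne hwN hwN' hww hl.ge).1
    have hrL : r ∈ LinearMap.range (fr.phi t) := by
      refine htsL.mem_of_orth (by omega) ?_ hrQ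
      rw [show fr.phi t = QForm.dif (fr.act t) from rfl, ← htInv.ker_eq]; exact hrfix
    rw [ht.range_eq hp, mem_span_two] at hrL
    obtain ⟨t', ht', htt'⟩ := ht.mul_plane hp (hrL.resolve_left hr0)
    exact cz_not_both h h' hne hp ht' ((htt'.symm.trans hwe.symm).mem (neg_N fr') hwN')
  have hgN : g ∈ Frame.N R := cz_fix h hp ht hg (htw ▸ htwN)
  have hi := fr.act_iso g
  set a' := fr.act g a
  set b' := fr.act g b
  have hp' : fr.LPair a' b' :=
    ⟨fun e => hp.a0 (hi.injective (e.trans (map_zero _).symm)),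
      fun e => hp.b0 (hi.injective (e.trans (map_zero _).symm)), fun e => hp.ne (hi.injective e),
      (hi a).trans hp.qa, (hi b).trans hp.qb, (hi.B_map a b).trans hp.ab⟩
  have ht' : fr.IsCZ a' b' (t * w) := by rw [htw]; exact ht.conj hp hgN
  have htsL' := cz_singular hp' ht'
  have hL2' := cz_finrank hp' ht'
  have ht'Inv : fr.q.Invol (fr.act (t * w)) := fr.invol_of_pm htwN (.inl (ht'.sq hp'))
  have hcc : PM (t * (t * w)) (t * w * t) := (hwt.mul_left t).trans (PM.of_eq (mul_assoc _ _ _).symm)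
  have hc' := fr.phi_commute htN htwN hcc
  have hphw : ∀ x, fr.phi w x = fr.phi t x + fr.phi (t * w) x + fr.phi t (fr.phi (t * w) x) := fun x => by
    rw [← fr.phi_mul htN htwN, ← sq_mul_cancel htt]
  set I := LinearMap.range (fr.phi w) with hIdef
  set L := LinearMap.range (fr.phi t) with hLdef
  set L' := LinearMap.range (fr.phi (t * w)) with hL'def
  have hIi : finrank (ZMod 2) I ≤ k := hwInv.isotropic.finrank_le
  by_cases hl0 : finrank (ZMod 2) I = 0
  · exfalso
    obtain ⟨r, hr, hrQ⟩ := trivial_nonsingular h h' hne hwN hwN' (h.le hwM) hw1 fun x => by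
      have : fr.phi w x ∈ I := ⟨x, rfl⟩
      rwa [Submodule.finrank_eq_zero.1 hl0, Submodule.mem_bot] at this
    have hmem : r ∈ LinearMap.ker (fr.phi t) :=
      (fr.mem_ker_iff htN).2 ((hr.symm.mul_left t).trans (hwt.trans (hr.mul_right t)))
    rw [show fr.phi t = QForm.dif (fr.act t) from rfl, htInv.ker_eq,
      show QForm.dif (fr.act t) = fr.phi t from rfl, ht.range_eq hp, fr.q.mem_orth_two] at hmem
    have hexact : w * t = t * w := ht.commute_cl hp hr (by rw [fr.q.B_symm]; exact hmem.1)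
      (by rw [fr.q.B_symm]; exact hmem.2)
    have e := ht'.sq hp'
    rw [show t * w * (t * w) = t * (w * t) * w by group, hexact, ← mul_assoc, htt, one_mul, fr.sq_of_pm hr, hrQ,
      sg_one] at e
    exact fr.ne_neg 1 e.symm
  by_cases hl1 : finrank (ZMod 2) I = 1
  · exfalso
    obtain ⟨u, huQ, hu0, hu⟩ := QForm.Iso.range_one hwInv hl1
    have hu' : ∀ x, fr.phi w x = fr.q.B u x • u := hu
    obtain ⟨y, hy⟩ := fr.q.exists_B_one hu0
    have htu : fr.phi t u = 0 := by
      have e1 : fr.phi w y = u := by rw [hu', hy, one_smul]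
      have e2 : fr.phi t u = fr.q.B u (fr.phi t y) • u := by
        rw [← e1, fr.phi_commute htN hwN hwt, e1]; exact hu' _
      rcases z2_cases (fr.q.B u (fr.phi t y)) with e' | e'
      · rw [e2, e', zero_smul]
      · rw [e', one_smul] at e2
        have h5 : u ∈ LinearMap.range (fr.phi t) := ⟨u, e2⟩
        exact LinearMap.mem_ker.1 (htInv.range_le_ker h5)
    have hsum : ∀ x, fr.phi (t * w) x = fr.phi t x + fr.q.B u x • u := fun x => by
      rw [fr.phi_mul htN hwN, hu', map_smul, htu, smul_zero, add_zero]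
    have huL : u ∉ L := fun hm => zero_ne_one ((htsL u hm).symm.trans huQ)
    obtain ⟨x, hx1, hx2⟩ : ∃ x, fr.phi t x = 0 ∧ fr.q.B u x = 1 := by
      by_contra hno
      push Not at hno
      apply huL
      rw [hLdef, ← fr.q.orth_orth (LinearMap.range (fr.phi t)),
        show fr.phi t = QForm.dif (fr.act t) from rfl, ← htInv.ker_eq]
      exact fr.q.mem_orth'.2 fun x hx => z2_ne_one (hno x (LinearMap.mem_ker.1 hx))
    have huL' : u ∈ L' := ⟨x, by rw [hsum, hx1, hx2, one_smul, zero_add]⟩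
    exact zero_ne_one ((htsL' u huL').symm.trans huQ)
  obtain ⟨hk, hts⟩ := range_allowed h h' hne hwN hwN' hww (show 2 ≤ finrank (ZMod 2) I by omega)
  rw [← hIdef] at hk hts
  have hne' : L ≠ L' := by
    intro heq
    apply hl0
    rw [Submodule.finrank_eq_zero, hIdef, LinearMap.range_eq_bot]
    refine LinearMap.ext fun x => ?_
    have hsame : ∀ y, fr.phi (t * w) y = fr.phi t y := fun y => by
      rw [ht.phi_eq hp, show fr.phi (t * w) y = QForm.dif (fr.act (t * w)) y from rfl,
        ht'Inv.eq_plane hp.a0 hp.b0 hp.ne htsL' (heq.symm.trans (ht.range_eq hp))]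
    rw [hphw, hsame, vadd_self, zero_add, LinearMap.zero_apply]
    exact LinearMap.mem_ker.1 (htInv.range_le_ker ⟨x, rfl⟩)
  rcases QForm.plane_pair htInv ht'Inv hc' htsL htsL' hL2 hL2' hne' with
    ⟨hsing, hbot, h4⟩ | ⟨m, p, p', hmQ, hpQ, hp'Q, -, -, -, -, hLm, hL'm, hcase, hform⟩
  · -- the exceptional configuration
    have h4k := fr.q.minus _ hsing
    have hzero : ∀ x, fr.phi t (fr.phi (t * w) x) = 0 := fun x => by
      have : fr.phi t (fr.phi (t * w) x) ∈ L ⊓ L' := ⟨⟨_, rfl⟩, hc' x ▸ ⟨_, rfl⟩⟩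
      rwa [show L ⊓ L' = ⊥ from hbot, Submodule.mem_bot] at this
    have hle : I ≤ L ⊔ L' := by
      rintro _ ⟨x, rfl⟩
      rw [hphw, hzero, add_zero]
      exact Submodule.add_mem _ (Submodule.mem_sup_left ⟨x, rfl⟩) (Submodule.mem_sup_right ⟨x, rfl⟩)
    have hd1 := Submodule.finrank_mono hle
    have hd2 := Submodule.finrank_sup_add_finrank_inf_eq L L'
    rw [show L ⊓ L' = ⊥ from hbot, finrank_bot] at hd2
    have hIeq : I = L ⊔ L' := Submodule.eq_of_le_of_finrank_le hle (by
      have : finrank (ZMod 2) ↥(L ⊔ L') < k := h4k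
      omega)
    have h4k' : finrank (ZMod 2) ↥(L ⊔ L') < k := h4k
    have h4' : 4 ≤ finrank (ZMod 2) ↥(L ⊔ L') := h4
    refine ⟨by omega, w, ⟨hwN, hwN', hww, hwt, a', b', hp', ht', ?_, ?_, ?_⟩, hcomm⟩
    all_goals rw [← ht.range_eq hp, ← ht'.range_eq hp', ← hLdef, ← hL'def]
    · exact hsing
    · omega
    · exact hIeq
  · exfalso
    have hle : I ≤ Submodule.span (ZMod 2) {m, p + p'} := by
      rintro _ ⟨x, rfl⟩
      rw [hphw, show _ + _ + _ = _ from hform x]
      exact Submodule.add_mem _ (Submodule.smul_mem _ _ (Submodule.subset_span (by simp)))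
        (Submodule.smul_mem _ _ (Submodule.subset_span (by simp)))
    have h1 := Submodule.finrank_mono hle
    have h8 : finrank (ZMod 2) (Submodule.span (ZMod 2) ({m, p + p'} : Set (W k))) ≤ 2 := by
      refine (finrank_span_le_card (R := ZMod 2) ({m, p + p'} : Set (W k))).trans ?_
      rw [Set.toFinset_insert, Set.toFinset_singleton]
      exact Finset.card_le_two
    rcases hcase with ⟨-, hsing, hd⟩ | hpp
    · have := fr.q.minus _ hsing
      omega
    · have hIeq : I = Submodule.span (ZMod 2) {m, p + p'} := Submodule.eq_of_le_of_finrank_le hle (by omega)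
      have hmem : p + p' ∈ I := by rw [hIeq]; exact Submodule.subset_span (by simp)
      have := hts (show finrank (ZMod 2) I < k by omega) _ hmem
      rw [fr.q.Q_add, hpQ, hp'Q, hpp, zero_add, zero_add] at this
      exact one_ne_zero this

end Over

end Cfsg.Agent.H57.CSix
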