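import Cfsg.Agent.H57.CSix.Split

/-!
Compression and lifting of isometries, and the frame of one level lower on the fixed space.
-/

set_option autoImplicit false
set_option linter.unusedSectionVars false

namespace Cfsg.Agent.H57.CSix

open Matrix Module

variable {F : Type*} [Field F] [Fintype F] {m : ℕ} {k : ℕ}
variable {R : Subgroup (GL (SI m) F)}

theorem mem_sp_iff {g : GL (SI m) F} :
    g ∈ Cfsg.spGL m F ↔ ∀ u v, Cfsg.sympForm m F ((g : Matrix (SI m) (SI m) F) *ᵥ u)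
      ((g : Matrix (SI m) (SI m) F) *ᵥ v) = Cfsg.sympForm m F u v :=
  H95.mem_isoGrp

namespace Split

variable {fr : Frame k R} {m' : ℕ} (S : Split fr m')

local notation "MM" => Matrix (SI m) (SI m) F

open Classical in
/-- The lift of two elements acting on the two parts. -/
noncomputable def lift (a b : GL (SI m') F) : GL (SI m) F :=
  ⟨S.liftM a b, S.liftM (a⁻¹ : GL (SI m') F) (b⁻¹ : GL (SI m') F),
    by rw [S.liftM_mul, Units.mul_inv, Units.mul_inv, S.liftM_one],
    by rw [S.liftM_mul, Units.inv_mul, Units.inv_mul, S.liftM_one]⟩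

theorem lift_val (a b : GL (SI m') F) : (S.lift a b : MM) = S.liftM a b := rfl

theorem lift_one : S.lift 1 1 = 1 := Units.ext (by rw [lift_val, Units.val_one, Units.val_one, S.liftM_one])

theorem lift_mul (a b c d : GL (SI m') F) : S.lift a b * S.lift c d = S.lift (a * c) (b * d) :=
  Units.ext (by rw [Units.val_mul, lift_val, lift_val, lift_val, S.liftM_mul, Units.val_mul, Units.val_mul])

theorem lift_inv (a b : GL (SI m') F) : (S.lift a b)⁻¹ = S.lift a⁻¹ b⁻¹ :=
  inv_eq_of_mul_eq_one_right (by rw [lift_mul, mul_inv_cancel, mul_inv_cancel, lift_one])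

theorem lift_neg (a b : GL (SI m') F) : S.lift (-a) (-b) = -S.lift a b :=
  Units.ext (by rw [lift_val, Units.val_neg, Units.val_neg, Units.val_neg, S.liftM_neg, lift_val])

theorem lift_pm {a a' : GL (SI m') F} (h : PM a a') : PM (S.lift a a) (S.lift a' a') := by
  rcases h with rfl | rfl
  · exact .inl rfl
  · exact .inr (S.lift_neg _ _)

theorem lift_comm_Z (a b : GL (SI m') F) : S.lift a b * fr.cl S.z = fr.cl S.z * S.lift a b :=
  Units.ext (by simpa [Units.val_mul, lift_val] using S.liftM_Z a b)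

theorem conj_X_lift (a b : GL (SI m') F) : fr.cl S.x * S.lift a b * fr.cl S.x = S.lift b a :=
  Units.ext (by simpa [Units.val_mul, lift_val] using S.X_liftM a b)

open Classical in
/-- The compression of an element commuting with Z. -/
noncomputable def pr (h : GL (SI m) F) : GL (SI m') F :=
  if hh : IsUnit (S.comp (h : MM)) then hh.unit else 1

theorem pr_val {h : GL (SI m) F} (hh : h * fr.cl S.z = fr.cl S.z * h) :
    (S.pr h : Matrix (SI m') (SI m') F) = S.comp h := by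
  have e : ((h : MM)) * S.Z = S.Z * h := by rw [← Units.val_mul, hh, Units.val_mul]
  have ei : ((h⁻¹ : GL (SI m) F) : MM) * S.Z = S.Z * ((h⁻¹ : GL (SI m) F) : MM) := by
    rw [← Units.val_mul, (Commute.inv_left (show Commute h (fr.cl S.z) from hh)).eq, Units.val_mul]
  have h1 := S.comp_mul e ((h⁻¹ : GL (SI m) F) : MM)
  have h2 := S.comp_mul ei (h : MM)
  rw [Units.mul_inv, S.comp_one] at h1
  rw [Units.inv_mul, S.comp_one] at h2
  have hu : IsUnit (S.comp (h : MM)) := ⟨⟨_, _, h1.symm, h2.symm⟩, rfl⟩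
  rw [pr, dif_pos hu]
  exact IsUnit.unit_spec _

theorem pr_mul {g h : GL (SI m) F} (hg : g * fr.cl S.z = fr.cl S.z * g) (hh : h * fr.cl S.z = fr.cl S.z * h) :
    S.pr (g * h) = S.pr g * S.pr h := by
  have hgh : g * h * fr.cl S.z = fr.cl S.z * (g * h) := by rw [mul_assoc, hh, ← mul_assoc, hg, mul_assoc]
  refine Units.ext ?_
  rw [Units.val_mul (S.pr g), S.pr_val hgh, S.pr_val hg, S.pr_val hh, Units.val_mul]
  exact S.comp_mul (by rw [← Units.val_mul, hg, Units.val_mul]) _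

theorem pr_one : S.pr 1 = 1 := Units.ext (by
  rw [S.pr_val (by rw [one_mul, mul_one]), Units.val_one, Units.val_one, S.comp_one])

theorem pr_lift (a b : GL (SI m') F) : S.pr (S.lift a b) = a :=
  Units.ext (by rw [S.pr_val (S.lift_comm_Z a b), lift_val, S.comp_liftM])

theorem pr_neg {h : GL (SI m) F} (hh : h * fr.cl S.z = fr.cl S.z * h) : S.pr (-h) = -S.pr h :=
  Units.ext (by
    rw [S.pr_val (by rw [neg_mul, mul_neg, hh]), Units.val_neg, Units.val_neg, S.pr_val hh, S.comp_neg])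

theorem conj_X_comm {h : GL (SI m) F} (hh : h * fr.cl S.z = fr.cl S.z * h) :
    fr.cl S.x * h * fr.cl S.x * fr.cl S.z = fr.cl S.z * (fr.cl S.x * h * fr.cl S.x) := by
  have hxz : fr.cl S.x * fr.cl S.z = -(fr.cl S.z * fr.cl S.x) :=
    fr.anti (by rw [fr.q.B_symm]; exact S.zx)
  have hzx : fr.cl S.z * fr.cl S.x = -(fr.cl S.x * fr.cl S.z) := by rw [hxz, neg_neg]
  rw [mul_assoc, hxz, mul_neg, ← mul_assoc, mul_assoc (fr.cl S.x) h, hh, ← mul_assoc (fr.cl S.x) (fr.cl S.z), hxz]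
  simp only [neg_mul, neg_neg, mul_assoc]

theorem eq_lift {h : GL (SI m) F} (hh : h * fr.cl S.z = fr.cl S.z * h) :
    h = S.lift (S.pr h) (S.pr (fr.cl S.x * h * fr.cl S.x)) := by
  refine Units.ext ?_
  rw [lift_val, S.pr_val hh, S.pr_val (S.conj_X_comm hh), Units.val_mul, Units.val_mul]
  exact S.eq_liftM (by rw [← Units.val_mul, hh, Units.val_mul])

section Iso

variable (hR : R ≤ Cfsg.spGL m F)
include hR

theorem adj_P (u v : SI m → F) :
    Cfsg.sympForm m F ((S.J * S.K) *ᵥ u) v = Cfsg.sympForm m F u ((S.J * S.K) *ᵥ v) := by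
  have hf : Cfsg.Geo.IsSymplecticForm (Cfsg.sympForm m F) := H95.isSymplecticForm_sympForm m
  have hZ : ∀ u v, Cfsg.sympForm m F (S.Z *ᵥ u) v = Cfsg.sympForm m F u (S.Z *ᵥ v) := fun u v => by
    conv_lhs => rw [← mem_sp_iff.1 (hR (fr.cl_mem S.z))]
    rw [mulVec_mulVec, S.ZZ, one_mulVec]
  simp only [S.JK, smul_mulVec, add_mulVec, one_mulVec, H95.f_smul_left hf, H95.f_smul_right hf,
    H95.f_add_left hf, H95.f_add_right hf, hZ]

theorem pr_mem {h : GL (SI m) F} (hh : h * fr.cl S.z = fr.cl S.z * h) (hS : h ∈ Cfsg.spGL m F) :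
    S.pr h ∈ Cfsg.spGL m' F := by
  refine mem_sp_iff.2 fun u v => ?_
  rw [S.pr_val hh, ← S.form, comp]
  have hPJ : ∀ w, (S.J * S.K) *ᵥ ((h : MM) *ᵥ (S.J *ᵥ w)) = (h : MM) *ᵥ (S.J *ᵥ w) := fun w => by
    have e : (h : MM) * S.Z = S.Z * (h : MM) := by rw [← Units.val_mul, hh, Units.val_mul]
    have hP : (h : MM) * (S.J * S.K) = S.J * S.K * (h : MM) := by
      rw [S.JK, mul_smul_comm, smul_mul_assoc, mul_add, add_mul, mul_one, one_mul, e]
    rw [mulVec_mulVec, ← hP, ← mulVec_mulVec, mulVec_mulVec _ (S.J * S.K), S.PJ]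
  have e : ∀ w, S.J *ᵥ ((S.K * (h : MM) * S.J) *ᵥ w) = (h : MM) *ᵥ (S.J *ᵥ w) := fun w => by
    rw [← hPJ w, mulVec_mulVec, mulVec_mulVec, mulVec_mulVec]
    simp only [Matrix.mul_assoc]
  rw [e, e, mem_sp_iff.1 hS, S.form]

theorem lift_mem {a b : GL (SI m') F} (ha : a ∈ Cfsg.spGL m' F) (hb : b ∈ Cfsg.spGL m' F) :
    S.lift a b ∈ Cfsg.spGL m F := by
  have hf : Cfsg.Geo.IsSymplecticForm (Cfsg.sympForm m F) := H95.isSymplecticForm_sympForm m
  refine mem_sp_iff.2 fun u v => ?_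
  have hX := mem_sp_iff.1 (hR (fr.cl_mem S.x))
  set P := S.J * S.K with hP
  have hJ : ∀ w, P *ᵥ (S.J *ᵥ w) = S.J *ᵥ w := fun w => by rw [mulVec_mulVec, hP, S.PJ]
  have hcross : ∀ w w', Cfsg.sympForm m F (S.J *ᵥ w) (S.X *ᵥ (S.J *ᵥ w')) = 0 := fun w w' => by
    rw [← hJ w, hP, S.adj_P hR, mulVec_mulVec, mulVec_mulVec,
      show S.J * S.K * S.X * S.J = S.J * (S.K * S.X * S.J) by simp only [Matrix.mul_assoc], S.KXJ,
      Matrix.mul_zero, zero_mulVec, H95.f_zero_right hf]
  have hdiag : ∀ (c : GL (SI m') F), c ∈ Cfsg.spGL m' F → ∀ u v,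
      Cfsg.sympForm m F (S.J *ᵥ ((c : Matrix _ _ F) *ᵥ (S.K *ᵥ u)))
        (S.J *ᵥ ((c : Matrix _ _ F) *ᵥ (S.K *ᵥ v))) = Cfsg.sympForm m F (P *ᵥ u) v := fun c hc u v => by
    rw [S.form, mem_sp_iff.1 hc, ← S.form, mulVec_mulVec, mulVec_mulVec, ← hP]
    conv_lhs => rw [hP, ← S.adj_P hR, ← hP, mulVec_mulVec, hP,
      show S.J * S.K * (S.J * S.K) = S.J * (S.K * (S.J * S.K)) by simp only [Matrix.mul_assoc], S.KP, ← hP]
  have hval : ∀ w, (S.lift a b : MM) *ᵥ w = S.J *ᵥ ((a : Matrix _ _ F) *ᵥ (S.K *ᵥ w)) +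
      S.X *ᵥ (S.J *ᵥ ((b : Matrix _ _ F) *ᵥ (S.K *ᵥ (S.X *ᵥ w)))) := fun w => by
    rw [lift_val, liftM, add_mulVec]
    simp only [mulVec_mulVec, Matrix.mul_assoc]
  rw [hval, hval, H95.f_add_left hf, H95.f_add_right hf, H95.f_add_right hf, hcross,
    H95.f_symm_zero hf (hcross _ _), hX, hdiag a ha, hdiag b hb, add_zero, zero_add]
  conv_lhs => arg 2; rw [← hX]
  rw [mulVec_mulVec, mulVec_mulVec, mulVec_mulVec, S.XX, one_mulVec, hP, S.XPX, ← H95.f_add_left hf,
    ← add_mulVec, add_sub_cancel, one_mulVec]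

end Iso

/-- The orthogonal of the two vectors. -/
def perp : Submodule (ZMod 2) (W k) := fr.q.orth (Submodule.span (ZMod 2) {S.z, S.x})

theorem finrank_perp : finrank (ZMod 2) S.perp = 2 * (k - 1) := by
  have h := fr.q.finrank_orth (Submodule.span (ZMod 2) {S.z, S.x})
  have hx0 : S.x ≠ 0 := fun e => by have := S.zx; rw [e, map_zero] at this; exact zero_ne_one this
  have hne : S.z ≠ S.x := fun e => by have := S.zx; rw [e, fr.q.B_self] at this; exact zero_ne_one this
  rw [finrank_span_two S.z0 hx0 hne] at h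
  rw [perp]
  omega

/-- Coordinates on the orthogonal. -/
noncomputable def emb : W (k - 1) →ₗ[ZMod 2] W k :=
  S.perp.subtype.comp (LinearEquiv.ofFinrankEq (W (k - 1)) S.perp
    (by rw [QForm.finrank_W, S.finrank_perp])).toLinearMap

theorem emb_mem (w : W (k - 1)) : fr.q.B S.z (S.emb w) = 0 ∧ fr.q.B S.x (S.emb w) = 0 :=
  fr.q.mem_orth_two.1 (Subtype.prop _)

theorem emb_injective : Function.Injective S.emb :=
  S.perp.subtype_injective.comp (LinearEquiv.injective _)

theorem emb_surj {u : W k} (hz : fr.q.B S.z u = 0) (hx : fr.q.B S.x u = 0) : ∃ w, S.emb w = u := by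
  obtain ⟨w, hw⟩ := (LinearEquiv.ofFinrankEq (W (k - 1)) S.perp
    (by rw [QForm.finrank_W, S.finrank_perp])).surjective ⟨u, fr.q.mem_orth_two.2 ⟨hz, hx⟩⟩
  exact ⟨w, congrArg Subtype.val hw⟩

theorem decompose (u : W k) :
    ∃ w, u = S.emb w + fr.q.B S.x u • S.z + fr.q.B S.z u • S.x := by
  obtain ⟨w, hw⟩ := S.emb_surj (u := u + fr.q.B S.x u • S.z + fr.q.B S.z u • S.x)
    (by simp [fr.q.B_self, S.zx, z2_self])
    (by simp [fr.q.B_self, fr.q.B_symm S.x S.z, S.zx, z2_self])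
  refine ⟨w, ?_⟩
  rw [hw, add_assoc _ (fr.q.B S.x u • S.z) (fr.q.B S.z u • S.x), add_assoc u,
    vadd_cancel']

theorem cl_comm_Z {u : W k} (h : fr.q.B S.z u = 0) : fr.cl u * fr.cl S.z = fr.cl S.z * fr.cl u :=
  fr.commute_iff.2 (by rw [fr.q.B_symm]; exact h)

theorem cl_emb_lift (w : W (k - 1)) :
    fr.cl (S.emb w) = S.lift (S.pr (fr.cl (S.emb w))) (S.pr (fr.cl (S.emb w))) := by
  obtain ⟨h1, h2⟩ := S.emb_mem w
  conv_lhs => rw [S.eq_lift (S.cl_comm_Z h1)]
  rw [show fr.cl S.x * fr.cl (S.emb w) * fr.cl S.x = fr.cl (S.emb w) by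
    rw [fr.commute_iff.2 h2, mul_assoc, fr.cl_sq_zero S.xQ, mul_one]]

theorem comp_anti {u : W k} (h : fr.q.B S.z u = 1) : S.comp (fr.cl u : MM) = 0 := by
  have hZC : S.Z * (fr.cl u : MM) = -((fr.cl u : MM) * S.Z) := by
    rw [← Units.val_mul, fr.anti h, Units.val_neg, Units.val_mul]
  have h1 : S.comp (fr.cl u : MM) = -S.comp (fr.cl u : MM) := by
    conv_lhs => rw [← S.comp_Z_mul, hZC, S.comp_neg, comp, ← Matrix.mul_assoc, Matrix.mul_assoc _ S.Z S.J, S.ZJ]
    rfl
  have h2 : (2 : F) • S.comp (fr.cl u : MM) = 0 := by rw [two_smul]; exact eq_neg_iff_add_eq_zero.1 h1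
  exact (smul_eq_zero.1 h2).resolve_left fr.two

theorem pr_Z : S.pr (fr.cl S.z) = 1 := Units.ext (by
  rw [S.pr_val rfl, Units.val_one, ← mul_one (fr.cl S.z : MM), S.comp_Z_mul, S.comp_one])

/-- The sub-element attached to a vector orthogonal to z and x. -/
noncomputable def sub (w : W (k - 1)) : GL (SI m') F := S.pr (fr.cl (S.emb w))

/-- An element commuting with Z has, up to sign, a compression in the smaller group. -/
theorem pr_cl_sub {u : W k} (h : fr.q.B S.z u = 0) :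
    ∃ w, u = S.emb w + fr.q.B S.x u • S.z ∧ PM (S.pr (fr.cl u)) (S.sub w) := by
  obtain ⟨w, hw⟩ := S.decompose u
  rw [h, zero_smul, add_zero] at hw
  refine ⟨w, hw, ?_⟩
  have hwz := S.cl_comm_Z (S.emb_mem w).1
  rcases z2_cases (fr.q.B S.x u) with e | e <;> rw [e] at hw
  · rw [zero_smul, add_zero] at hw
    exact .inl (by rw [hw]; rfl)
  · rw [one_smul] at hw
    have hm := fr.cl_mul (S.emb w) S.z
    rw [← hw] at hm
    have hprod : S.pr (fr.cl (S.emb w) * fr.cl S.z) = S.sub w := by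
      rw [S.pr_mul hwz rfl, S.pr_Z, mul_one]; rfl
    rcases hm with hm | hm
    · exact .inl (by rw [← hm, hprod])
    · rw [show fr.cl u = -(fr.cl (S.emb w) * fr.cl S.z) by rw [hm, neg_neg],
        S.pr_neg (by rw [← mul_assoc, ← hwz]), hprod]
      exact PM.neg_self _

theorem sub_zero : S.sub 0 = 1 := by rw [Split.sub, map_zero, fr.cl_zero, S.pr_one]

theorem sub_mul (v w : W (k - 1)) : PM (S.sub v * S.sub w) (S.sub (v + w)) := by
  rw [Split.sub, Split.sub, Split.sub, ← S.pr_mul (S.cl_comm_Z (S.emb_mem v).1) (S.cl_comm_Z (S.emb_mem w).1),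
    map_add]
  have hc : fr.q.B S.z (S.emb v + S.emb w) = 0 := by rw [map_add, (S.emb_mem v).1, (S.emb_mem w).1, add_zero]
  rcases fr.cl_mul (S.emb v) (S.emb w) with h | h <;> rw [h]
  · exact .inl rfl
  · exact .inr (S.pr_neg (S.cl_comm_Z hc))

/-- The subgroup on the fixed space. -/
def R1 : Subgroup (GL (SI m') F) where
  carrier := {g | ∃ w, PM g (S.sub w)}
  one_mem' := ⟨0, by rw [S.sub_zero]; exact PM.refl 1⟩
  mul_mem' := fun {a b} ha hb => by
    obtain ⟨v, hv⟩ := ha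
    obtain ⟨w, hw⟩ := hb
    exact ⟨v + w, (hv.mul hw).trans (S.sub_mul v w)⟩
  inv_mem' := fun {a} ha => by
    obtain ⟨v, hv⟩ := ha
    refine ⟨v, hv.inv.trans ?_⟩
    have h2 : PM (S.sub v * S.sub v) 1 := (S.sub_mul v v).trans (.inl (by rw [vadd_self, S.sub_zero]))
    have := (h2.mul_left (S.sub v)⁻¹).symm
    rwa [inv_mul_cancel_left, mul_one] at this

/-- The quadratic space on the orthogonal. -/
noncomputable def q1 : QForm (k - 1) where
  B := fr.q.B.comp S.emb S.emb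
  Q w := fr.q.Q (S.emb w)
  Q_add u v := by
    show fr.q.Q (S.emb (u + v)) = fr.q.Q (S.emb u) + fr.q.Q (S.emb v) + fr.q.B (S.emb u) (S.emb v)
    rw [map_add, fr.q.Q_add]
  nondeg := by
    have hleft : ∀ v : W (k - 1), (∀ w, fr.q.B (S.emb v) (S.emb w) = 0) → v = 0 := by
      intro v hv
      refine S.emb_injective ((fr.q.eq_of_B_eq fun u => ?_).trans (map_zero S.emb).symm)
      obtain ⟨w, hw⟩ := S.decompose u
      rw [hw, map_add, map_add, map_smul, map_smul, hv w, fr.q.B_symm (S.emb v) S.z,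
        fr.q.B_symm (S.emb v) S.x, (S.emb_mem v).1, (S.emb_mem v).2]
      simp
    exact ⟨hleft, fun v hv => hleft v fun u => by rw [fr.q.B_symm]; exact hv u⟩
  minus L hL := by
    have hsing : fr.q.Singular (L.map S.emb ⊔ Submodule.span (ZMod 2) {S.z}) := by
      refine QForm.Singular.sup (fun x hx => ?_) (fun x hx => ?_) fun u hu v hv => ?_
      · obtain ⟨w, hw, rfl⟩ := hx; exact hL w hw
      · rcases mem_span_one.1 hx with rfl | rfl
        exacts [fr.q.Q_zero, S.zQ]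
      · obtain ⟨w, -, rfl⟩ := hu
        rcases mem_span_one.1 hv with rfl | rfl
        · simp
        · rw [fr.q.B_symm]; exact (S.emb_mem w).1
    have h1 := fr.q.minus _ hsing
    have hne : L.map S.emb < L.map S.emb ⊔ Submodule.span (ZMod 2) {S.z} :=
      lt_of_le_of_ne le_sup_left fun e => by
        have hz : S.z ∈ L.map S.emb := e ▸ Submodule.mem_sup_right (Submodule.mem_span_singleton_self _)
        obtain ⟨w, -, hw⟩ := hz
        have := (S.emb_mem w).2
        rw [hw, fr.q.B_symm, S.zx] at this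
        exact one_ne_zero this
    have h2 := Submodule.finrank_lt_finrank_of_lt hne
    have h3 : finrank (ZMod 2) (L.map S.emb) = finrank (ZMod 2) L :=
      ((Submodule.equivMapOfInjective S.emb S.emb_injective L).finrank_eq).symm
    omega

theorem sub_sq (v : W (k - 1)) : S.sub v * S.sub v = sg (fr.q.Q (S.emb v)) 1 := by
  have hc := S.cl_comm_Z (S.emb_mem v).1
  rw [Split.sub, ← S.pr_mul hc hc, fr.cl_sq]
  rcases z2_cases (fr.q.Q (S.emb v)) with e | e <;> rw [e]
  · rw [sg_zero, sg_zero, S.pr_one]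
  · rw [sg_one, sg_one, S.pr_neg (by rw [one_mul, mul_one]), S.pr_one]

theorem sub_comm (v w : W (k - 1)) :
    S.sub v * S.sub w = sg (fr.q.B (S.emb v) (S.emb w)) (S.sub w * S.sub v) := by
  have hv := S.cl_comm_Z (S.emb_mem v).1
  have hw := S.cl_comm_Z (S.emb_mem w).1
  rw [Split.sub, Split.sub, ← S.pr_mul hv hw, ← S.pr_mul hw hv, fr.cl_comm]
  rcases z2_cases (fr.q.B (S.emb v) (S.emb w)) with e | e <;> rw [e]
  · rw [sg_zero, sg_zero]
  · rw [sg_one, sg_one, S.pr_neg (by rw [mul_assoc, hv, ← mul_assoc, hw, mul_assoc])]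

/-- The frame of one level lower. -/
noncomputable def frame : Frame (k - 1) S.R1 where
  two := fr.two
  ne := ⟨.inl ⟨0, S.pos⟩⟩
  q := S.q1
  cl := S.sub
  neg_mem := ⟨0, by rw [S.sub_zero]; exact PM.neg_self 1⟩
  cl_mem w := ⟨w, PM.refl _⟩
  surj _ hg := hg
  cl_zero := S.sub_zero
  cl_mul := S.sub_mul
  cl_sq := S.sub_sq
  cl_comm := S.sub_comm
  span := by
    refine eq_top_iff.2 fun A _ => ?_
    have hA : S.J * A * S.K ∈ Submodule.span F (Set.range fun w => (fr.cl w : MM)) := fr.span ▸ Submodule.mem_top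
    have key : ∀ {B : MM}, B ∈ Submodule.span F (Set.range fun w => (fr.cl w : MM)) →
        S.comp B ∈ Submodule.span F (Set.range fun w => ((S.sub w : GL (SI m') F) : Matrix (SI m') (SI m') F)) := by
      intro B hB
      induction hB using Submodule.span_induction with
      | mem _ hx =>
        obtain ⟨u, rfl⟩ := hx
        rcases z2_cases (fr.q.B S.z u) with e | e
        · obtain ⟨w, -, hw⟩ := S.pr_cl_sub e
          show S.comp (fr.cl u : MM) ∈ _
          rw [← S.pr_val (S.cl_comm_Z e)]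
          rcases hw with hw | hw <;> rw [hw]
          · exact Submodule.subset_span ⟨w, rfl⟩
          · rw [Units.val_neg]; exact Submodule.neg_mem _ (Submodule.subset_span ⟨w, rfl⟩)
        · show S.comp (fr.cl u : MM) ∈ _
          rw [S.comp_anti e]; exact Submodule.zero_mem _
      | zero => rw [comp, Matrix.mul_zero, Matrix.zero_mul]; exact Submodule.zero_mem _
      | add a b _ _ h1 h2 => rw [comp, Matrix.mul_add, Matrix.add_mul]; exact Submodule.add_mem _ h1 h2
      | smul c a _ h1 => rw [comp, Matrix.mul_smul, Matrix.smul_mul]; exact Submodule.smul_mem _ c h1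
    have e : S.comp (S.J * A * S.K) = A := by
      calc S.comp (S.J * A * S.K) = S.K * S.J * A * (S.K * S.J) := by simp only [comp, Matrix.mul_assoc]
        _ = A := by rw [S.KJ, Matrix.one_mul, Matrix.mul_one]
    exact e ▸ key hA

theorem R1_le (hR : R ≤ Cfsg.spGL m F) : S.R1 ≤ Cfsg.spGL m' F := by
  rintro g ⟨w, hw⟩
  have hneg : (-1 : GL (SI m') F) ∈ Cfsg.spGL m' F := by
    rw [← S.pr_one, ← S.pr_neg (by rw [one_mul, mul_one])]
    exact S.pr_mem hR (by rw [neg_mul, mul_neg, one_mul, mul_one]) (hR fr.neg_mem)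
  exact hw.mem hneg (S.pr_mem hR (S.cl_comm_Z (S.emb_mem w).1) (hR (fr.cl_mem _)))

/-- Lifting an element of the smaller normaliser to both parts. -/
theorem lift_diag_mem {a : GL (SI m') F} (ha : a ∈ Frame.N S.R1) : S.lift a a ∈ Frame.N R := by
  have key : ∀ u, ∃ v, PM (S.lift a a * fr.cl u * (S.lift a a)⁻¹) (fr.cl v) := by
    have hadd : ∀ u u', (∃ v, PM (S.lift a a * fr.cl u * (S.lift a a)⁻¹) (fr.cl v)) →
        (∃ v, PM (S.lift a a * fr.cl u' * (S.lift a a)⁻¹) (fr.cl v)) →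
        ∃ v, PM (S.lift a a * fr.cl (u + u') * (S.lift a a)⁻¹) (fr.cl v) := by
      rintro u u' ⟨v, hv⟩ ⟨v', hv'⟩
      refine ⟨v + v', ((fr.cl_mul u u').symm.conj _).trans ?_⟩
      rw [show S.lift a a * (fr.cl u * fr.cl u') * (S.lift a a)⁻¹ = S.lift a a * fr.cl u * (S.lift a a)⁻¹ *
        (S.lift a a * fr.cl u' * (S.lift a a)⁻¹) by group]
      exact (hv.mul hv').trans (fr.cl_mul v v')
    have hfix : ∀ u, S.lift a a * fr.cl u = fr.cl u * S.lift a a →
        ∃ v, PM (S.lift a a * fr.cl u * (S.lift a a)⁻¹) (fr.cl v) := fun u h =>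
      ⟨u, .inl (by rw [h, mul_inv_cancel_right])⟩
    have hz := hfix S.z (S.lift_comm_Z a a)
    have hx := hfix S.x (by
      have e := S.conj_X_lift a a
      conv_rhs => rw [← e, ← mul_assoc, ← mul_assoc, fr.cl_sq_zero S.xQ, one_mul])
    have h0 : ∃ v, PM (S.lift a a * fr.cl 0 * (S.lift a a)⁻¹) (fr.cl v) := hfix 0 (by
      rw [fr.cl_zero, mul_one, one_mul])
    have hw : ∀ w, ∃ v, PM (S.lift a a * fr.cl (S.emb w) * (S.lift a a)⁻¹) (fr.cl v) := fun w => by
      obtain ⟨w', hw'⟩ := S.frame.exists_conj ha w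
      refine ⟨S.emb w', ?_⟩
      rw [S.cl_emb_lift w, S.lift_inv, S.lift_mul, S.lift_mul, S.cl_emb_lift w']
      exact S.lift_pm hw'
    intro u
    obtain ⟨w, hu⟩ := S.decompose u
    rw [hu]
    refine hadd _ _ (hadd _ _ (hw w) ?_) ?_
    · rcases smul_cases (fr.q.B S.x u) S.z with e | e <;> rw [e] <;> assumption
    · rcases smul_cases (fr.q.B S.z u) S.x with e | e <;> rw [e] <;> assumption
  exact fr.mem_N_of_forall key

/-- An element of the smaller group on the negated part alone is a block element. -/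
theorem lift_one_sub (w : W (k - 1)) :
    S.lift 1 (S.sub w) = bl (fr.cl S.z) 1 (fr.cl (S.emb w)) := by
  have hW : PM (fr.cl (S.emb w)) (fr.cl (S.emb w)) := PM.refl _
  have hok := fr.blk_ok (PM.refl (fr.cl S.z)) fr.cl_one hW S.zQ (map_zero _) (S.emb_mem w).1
  refine Units.ext ?_
  have hc := S.cl_comm_Z (S.emb_mem w).1
  have e := congrArg (fun g : GL (SI m) F => (g : MM)) (S.cl_emb_lift w)
  simp only [lift_val, liftM] at e
  rw [hok.val, lift_val, liftM, blM, Units.val_one, Units.val_one, Matrix.mul_one, Matrix.mul_one]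
  have hQ : (2 : F)⁻¹ • (1 - S.Z) = 1 - S.J * S.K := by
    rw [eq_sub_iff_add_eq, S.JK, ← smul_add, show (1 : MM) - S.Z + (1 + S.Z) = 1 + 1 by abel, S.half_add]
  rw [smul_add, ← smul_mul_assoc, hQ, ← S.JK]
  congr 1
  symm
  calc (1 - S.J * S.K) * (fr.cl (S.emb w) : MM)
      = (1 - S.J * S.K) * (S.J * (S.sub w : Matrix (SI m') (SI m') F) * S.K) +
        (1 - S.J * S.K) * (S.X * (S.J * (S.sub w : Matrix (SI m') (SI m') F) * S.K) * S.X) := by
        rw [← mul_add]; congr 1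
    _ = _ := by
        have h1 : (1 - S.J * S.K) * (S.J * (S.sub w : Matrix (SI m') (SI m') F) * S.K) = 0 := by
          rw [← Matrix.mul_assoc, ← Matrix.mul_assoc, Matrix.sub_mul, Matrix.one_mul, S.PJ, sub_self,
            Matrix.zero_mul, Matrix.zero_mul]
        rw [h1, zero_add, Matrix.sub_mul, Matrix.one_mul]
        rw [show S.J * S.K * (S.X * (S.J * (S.sub w : Matrix (SI m') (SI m') F) * S.K) * S.X) =
          S.J * (S.K * S.X * S.J) * ((S.sub w : Matrix (SI m') (SI m') F) * S.K * S.X) by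
            simp only [Matrix.mul_assoc], S.KXJ, Matrix.mul_zero, Matrix.zero_mul, _root_.sub_zero]

theorem lift_one_sub_mem (hR : R ≤ Cfsg.spGL m F) (w : W (k - 1)) :
    S.lift 1 (S.sub w) ∈ Frame.N R ⊓ Cfsg.spGL m F := by
  refine ⟨?_, S.lift_mem hR (one_mem _) (S.R1_le hR (S.frame.cl_mem w))⟩
  rw [S.lift_one_sub]
  exact fr.blk_N (PM.refl _) fr.cl_one (PM.refl _) S.zQ (map_zero _) (S.emb_mem w).1

end Split

end Cfsg.Agent.H57.CSix
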