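import Cfsg.Agent.H57.CSix.Meet
import Cfsg.Agent.H57.CSix.Plane

/-!
The special involutions of the normaliser normalise no other frame.
-/

set_option autoImplicit false
set_option linter.unusedSectionVars false

namespace Cfsg.Agent.H57.CSix

open Matrix Module

variable {ι : Type} [Fintype ι] [DecidableEq ι] {F : Type*} [Field F] [Fintype F]
variable {f : (ι → F) → (ι → F) → F} {M : Subgroup (GL ι F)} {k : ℕ}
variable {R R' : Subgroup (GL ι F)}

theorem sq_mul_cancel {G : Type*} [Group G] {X w : G} (h : X * X = 1) : w = X * (X * w) := by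
  rw [← mul_assoc, h, one_mul]

namespace Over

variable {fr : Frame k R} {fr' : Frame k R'}

/-- Elements fixed by no other frame control their own fusion. -/
theorem fix_of_not_both (h : Over f M fr) {X : GL ι F} (hX : X ∈ Frame.N R)
    (hnot : ∀ (R'' : Subgroup (GL ι F)) (fr'' : Frame k R''), Over f M fr'' → R ≠ R'' → X ∉ Frame.N R'')
    {g : GL ι F} (hg : g ∈ M) (hgX : g * X * g⁻¹ ∈ Frame.N R) : g ∈ Frame.N R := by
  have hmem : X ∈ Frame.N (R.map (MulAut.conj g⁻¹).toMonoidHom) := by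
    have := Frame.conj_mem_N g⁻¹ hgX
    rwa [show g⁻¹ * (g * X * g⁻¹) * g⁻¹⁻¹ = X by group] at this
  have heq : R = R.map (MulAut.conj g⁻¹).toMonoidHom := by
    by_contra hne
    exact hnot _ (fr.conj g⁻¹) (h.conj (M.inv_mem hg)) hne hmem
  have : g⁻¹ ∈ Frame.N R := fr.mem_N_of_forall fun w => fr.surj _ (by
    have hh : g⁻¹ * fr.cl w * g⁻¹⁻¹ ∈ R.map (MulAut.conj g⁻¹).toMonoidHom := ⟨_, fr.cl_mem w, rfl⟩
    rwa [← heq] at hh)
  simpa using (Frame.N R).inv_mem this

/-- An involution of the group is no conjugate of a singular element when it acts non-trivially. -/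
theorem not_conj_singular (h : Over f M fr) (h' : Over f M fr') {X : GL ι F} (hX : X ∈ Frame.N R) {v : W k}
    (hv0 : v ≠ 0) (hvQ : fr'.q.Q v = 0) {c : GL ι F} (hc : c ∈ M) (hcX : PM (c * X * c⁻¹) (fr'.cl v))
    (hact : ∃ w, fr.phi X w ≠ 0) : False := by
  have hX' : PM (c⁻¹ * fr'.cl v * c⁻¹⁻¹) X := by
    have := (hcX.conj c⁻¹).symm
    rwa [show c⁻¹ * (c * X * c⁻¹) * c⁻¹⁻¹ = X by group] at this
  have hR := h.conj_mem h' hv0 hvQ (M.inv_mem hc) (hX'.mem (neg_N fr) hX)
  obtain ⟨r, hr⟩ := fr.surj X (hX'.symm.mem fr.neg_mem hR)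
  obtain ⟨w, hw⟩ := hact
  exact hw (by rw [fr.phi_pm hr hX (fr.cl_mem_N r), fr.phi_cl])

/-- A block element with non-totally-singular plane normalises no other frame. -/
theorem shape_not_both (h : Over f M fr) (h' : Over f M fr') (hne : R ≠ R') {X : GL ι F} (hX : X ∈ Frame.N R)
    (hXX : PM (X * X) 1) {c d : W k} (hs : fr.q.PlaneShape (fr.act X) c d) : X ∉ Frame.N R' := by
  intro hX'
  have hr := hs.finrank_range
  obtain ⟨-, h2⟩ := range_allowed h h' hne hX hX' hXX (show 2 ≤ finrank (ZMod 2) _ from hr.ge)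
  have h3 := h.three
  exact hs.not_singular (h2 (by show finrank (ZMod 2) (LinearMap.range (QForm.dif (fr.act X))) < k; omega))

theorem cz_singular {a b : W k} {t : GL ι F} (hp : fr.LPair a b) (ht : fr.IsCZ a b t) :
    fr.q.Singular (LinearMap.range (fr.phi t)) := by
  intro x hx
  rw [ht.range_eq hp, mem_span_two] at hx
  rcases hx with rfl | rfl | rfl | rfl
  · exact fr.q.Q_zero
  · exact hp.qa
  · exact hp.qb
  · rw [fr.q.Q_add_of_orth hp.ab, hp.qa, hp.qb, add_zero]

theorem cz_finrank {a b : W k} {t : GL ι F} (hp : fr.LPair a b) (ht : fr.IsCZ a b t) :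
    finrank (ZMod 2) (LinearMap.range (fr.phi t)) = 2 := by
  rw [ht.range_eq hp]; exact finrank_span_two hp.a0 hp.b0 hp.ne

theorem cz_three_not_both (h : Over f M fr) (h' : Over f M fr') (hne : R ≠ R') (hk : k = 3) {a b : W k}
    {t : GL ι F} (hp : fr.LPair a b) (ht : fr.IsCZ a b t) : t ∉ Frame.N R' := by
  intro htN'
  have htN := ht.mem_N hp
  have htS := ht.mem_iso hp h.symp h.Rle
  have htt : PM (t * t) 1 := .inl (ht.sq hp)
  obtain ⟨e0, he0b, he0a⟩ := fr.q.exists_B_one_zero hp.b0 hp.ne.symm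
  obtain ⟨e, heb, hea, heQ⟩ : ∃ e, fr.q.B b e = 1 ∧ fr.q.B a e = 0 ∧ fr.q.Q e = 0 := by
    rcases z2_cases (fr.q.Q e0) with h0 | h0
    · exact ⟨e0, he0b, he0a, h0⟩
    · refine ⟨e0 + b, by rw [map_add, fr.q.B_self, add_zero, he0b], by rw [map_add, he0a, hp.ab, add_zero], ?_⟩
      rw [fr.q.Q_add, h0, hp.qb, fr.q.B_symm, he0b, add_zero, z2_self]
  obtain ⟨A, B, hA, hB, rfl⟩ := id ht
  have hE : PM (fr.cl e) (fr.cl e) := .inl rfl
  set s := bl A (fr.cl e) B with hsdef
  have hokT := fr.blk_ok hA fr.cl_one hB hp.qa (map_zero _) hp.ab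
  have hokS := fr.blk_ok hA hE hB hp.qa hea hp.ab
  have hsN : s ∈ Frame.N R := fr.blk_N hA hE hB hp.qa hea hp.ab
  have hsS : s ∈ H95.isoGrp f := hokS.bl_mem h.symp (h.Rle (fr.mem_iff.2 ⟨a, hA⟩)) (h.Rle (fr.cl_mem e))
    (h.Rle (fr.mem_iff.2 ⟨b, hB⟩))
  have hss : s * s = 1 := fr.blk_sq hA hE hB hp.qa hea hp.ab heQ hp.qb
  have hst : bl A 1 B * s = s * bl A 1 B := by
    rw [hokT.bl_mul hokS, hokS.bl_mul hokT, one_mul, mul_one]
  have hstval : s * bl A 1 B = bl A (fr.cl e) 1 := by
    rw [hokS.bl_mul hokT, mul_one, fr.pm_sq hB hp.qb]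
  have hdQ : fr.q.Q (e + b) = 1 := by rw [fr.q.Q_add, heQ, hp.qb, fr.q.B_symm, heb]; rfl
  have had : fr.q.B a (e + b) = 0 := by rw [map_add, hea, hp.ab, add_zero]
  have hd0 : e + b ≠ 0 := fun e' => by rw [e', fr.q.Q_zero] at hdQ; exact zero_ne_one hdQ
  have hda : a ≠ e + b := fun e' => by rw [← e', hp.qa] at hdQ; exact zero_ne_one hdQ
  have hshape : fr.q.PlaneShape (fr.act s) a (e + b) := by
    refine ⟨hp.qa, hdQ, had, hp.a0, fr.blk_range hA hE hB hp.qa hea hp.ab hp.a0 hd0 hda, fun x => ?_⟩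
    rw [show QForm.dif (fr.act s) x = fr.phi s x from rfl, fr.blk_phi hA hE hB hp.qa hea hp.ab, hdQ, one_mul,
      add_comm (fr.q.B (e + b) x)]
  have hU := hshape.finrank_range
  have hsInv : fr.q.Invol (fr.act s) := fr.invol_of_pm hsN (.inl hss)
  have htInv : fr.q.Invol (fr.act (bl A 1 B)) := fr.invol_of_pm htN htt
  obtain ⟨v, hv0, hvQ, hvD, htv⟩ := exists_companion h h' hne htN htN' htt
  rcases dihedral (h.base s hsS hsN) (h'.cl_mem v) hss (fr'.cl_sq_zero hvQ) with h1 | h1
  · obtain ⟨g, hg, hgc, -⟩ := h1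
    refine not_conj_singular h h' hsN hv0 hvQ hg hgc ?_
    by_contra hno
    push Not at hno
    have hbot : LinearMap.range (QForm.dif (fr.act s)) = ⊥ := LinearMap.range_eq_bot.2 (LinearMap.ext hno)
    rw [hbot, finrank_bot] at hU
    omega
  obtain ⟨w, hwM, hw1, hww, hws, hwY, hcomm, hcases⟩ := h1
  have hwt : PM (bl A 1 B * w) (w * bl A 1 B) := hcomm _ (.inl hst) htv
  have hwN' : w ∈ Frame.N R' := h'.cent v w hv0 hvQ hwM hwY.symm
  have sfix : ∀ {g : GL ι F}, g ∈ M → g * s * g⁻¹ ∈ Frame.N R → g ∈ Frame.N R := fun {g} hg hgX =>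
    fix_of_not_both h hsN (fun R'' fr'' h'' hne' => shape_not_both h h'' hne' hsN (.inl hss) hshape) hg hgX
  have hwN : w ∈ Frame.N R := sfix hwM ((PM.conj_of_comm hws.symm).mem (neg_N fr) hsN)
  have hwS : w ∈ H95.isoGrp f := h.le hwM
  have hwInv : fr.q.Invol (fr.act w) := fr.invol_of_pm hwN hww
  have hswN : s * w ∈ Frame.N R := (Frame.N R).mul_mem hsN hwN
  rcases hcases with ⟨⟨g, hg, hsw⟩, -⟩ | ⟨⟨g, hg, hsw⟩, -⟩
  swap
  · -- then w acts as s
    obtain ⟨r, hr⟩ := fr.surj _ (h.conj_mem h' hv0 hvQ hg (hsw ▸ hswN))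
    have hwe : PM w (s * fr.cl r) := by
      have := hr.mul_left s
      rwa [← hsw, ← sq_mul_cancel hss] at this
    have hphi : fr.act w = fr.act s := LinearMap.ext fun x => by
      rw [fr.act_pm hwe hwN ((Frame.N R).mul_mem hsN (fr.cl_mem_N r)), fr.act_mul hsN (fr.cl_mem_N r), fr.act_cl]
    exact shape_not_both h h' hne hwN hww (hphi ▸ hshape) hwN'
  have hgN : g ∈ Frame.N R := sfix hg (hsw ▸ hswN)
  -- the shape of the conjugate
  have hshape' : fr.q.PlaneShape (fr.act (s * w)) (fr.act g a) (fr.act g (e + b)) := by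
    have hi := fr.act_iso g
    refine ⟨(hi a).trans hp.qa, (hi _).trans hdQ, (hi.B_map _ _).trans had, fun e' => hp.a0 (hi.injective
      (e'.trans (map_zero _).symm)), ?_, fun x => ?_⟩
    all_goals rw [hsw, hokS.bl_conj g]
    · have hgA := (hA.conj g).trans (fr.act_spec hgN a)
      have hgE := (hE.conj g).trans (fr.act_spec hgN e)
      have hgB := (hB.conj g).trans (fr.act_spec hgN b)
      rw [show QForm.dif (fr.act (bl (g * A * g⁻¹) (g * fr.cl e * g⁻¹) (g * B * g⁻¹))) =
        fr.phi (bl (g * A * g⁻¹) (g * fr.cl e * g⁻¹) (g * B * g⁻¹)) from rfl,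
        fr.blk_range hgA hgE hgB ((hi a).trans hp.qa) ((hi.B_map _ _).trans hea) ((hi.B_map _ _).trans hp.ab)
          (fun e' => hp.a0 (hi.injective (e'.trans (map_zero _).symm)))
          (fun e' => hd0 (hi.injective (by rw [map_add, e', map_zero])))
          (fun e' => hda (hi.injective (by rw [map_add, e']))), map_add]
    · have hgA := (hA.conj g).trans (fr.act_spec hgN a)
      have hgE := (hE.conj g).trans (fr.act_spec hgN e)
      have hgB := (hB.conj g).trans (fr.act_spec hgN b)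
      rw [show QForm.dif (fr.act (bl (g * A * g⁻¹) (g * fr.cl e * g⁻¹) (g * B * g⁻¹))) x =
        fr.phi (bl (g * A * g⁻¹) (g * fr.cl e * g⁻¹) (g * B * g⁻¹)) x from rfl,
        fr.blk_phi hgA hgE hgB ((hi a).trans hp.qa) ((hi.B_map _ _).trans hea) ((hi.B_map _ _).trans hp.ab),
        ← map_add (fr.act g), (hi _).trans hdQ, one_mul, add_comm (fr.q.B (fr.act g (e + b)) x)]
  have hU' := hshape'.finrank_range
  have hswsq : s * w * (s * w) = 1 := by
    rw [hsw, show g * s * g⁻¹ * (g * s * g⁻¹) = g * (s * s) * g⁻¹ by group, hss, mul_one, mul_inv_cancel]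
  have hswInv : fr.q.Invol (fr.act (s * w)) := fr.invol_of_pm hswN (.inl hswsq)
  have hsc : ∀ x, fr.phi s (fr.phi w x) = fr.phi w (fr.phi s x) := fr.phi_commute hsN hwN hws
  have hscomm' : PM (s * (s * w)) (s * w * s) := (hws.mul_left s).trans (PM.of_eq (mul_assoc _ _ _).symm)
  have hphw : ∀ x, fr.phi w x = fr.phi s x + fr.phi (s * w) x + fr.phi s (fr.phi (s * w) x) := fun x => by
    rw [← fr.phi_mul hsN hswN, ← sq_mul_cancel hss]
  have hphsw : ∀ x, fr.phi (s * w) x = fr.phi s x + fr.phi w x + fr.phi s (fr.phi w x) := fr.phi_mul hsN hwN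
  have hwl := hwInv.isotropic.finrank_le
  set U := LinearMap.range (QForm.dif (fr.act s)) with hUdef
  set U' := LinearMap.range (QForm.dif (fr.act (s * w))) with hU'def
  set I := LinearMap.range (QForm.dif (fr.act w)) with hIdef
  by_cases hl0 : finrank (ZMod 2) I = 0
  · obtain ⟨r, hr, hrQ⟩ := trivial_nonsingular h h' hne hwN hwN' hwS hw1 fun x => by
      have : fr.phi w x ∈ I := ⟨x, rfl⟩
      rwa [Submodule.finrank_eq_zero.1 hl0, Submodule.mem_bot] at this
    have hperp : ∀ {u : W k} {X : GL ι F}, X ∈ Frame.N R → PM (X * w) (w * X) → fr.q.Invol (fr.act X) →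
        u ∈ LinearMap.range (QForm.dif (fr.act X)) → fr.q.B u r = 0 := fun {u X} hX hXw hi hu => by
      have hmem : r ∈ LinearMap.ker (fr.phi X) :=
        (fr.mem_ker_iff hX).2 ((hr.symm.mul_left X).trans (hXw.trans (hr.mul_right X)))
      rw [show fr.phi X = QForm.dif (fr.act X) from rfl, hi.ker_eq] at hmem
      exact fr.q.mem_orth.1 hmem u hu
    have h1 : fr.q.B a r = 0 := hperp hsN hws hsInv (by rw [hshape.2.2.2.2.1]; exact Submodule.subset_span (by simp))
    have h2 : fr.q.B (e + b) r = 0 := hperp hsN hws hsInv (by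
      rw [hshape.2.2.2.2.1]; exact Submodule.subset_span (by simp))
    have h3' : fr.q.B b r = 0 := hperp htN hwt htInv (by
      rw [show QForm.dif (fr.act (bl A 1 B)) = fr.phi (bl A 1 B) from rfl, ht.range_eq hp]
      exact Submodule.subset_span (by simp))
    have h4 : fr.q.B e r = 0 := by rwa [map_add, LinearMap.add_apply, h3', add_zero] at h2
    have hW : PM w (fr.cl r) := hr
    have hexact : w * s = s * w := hokS.commute_bl (fr.pm_commute hW hA (by rw [fr.q.B_symm]; exact h1))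
      (fr.pm_commute hW hE (by rw [fr.q.B_symm]; exact h4)) (fr.pm_commute hW hB (by rw [fr.q.B_symm]; exact h3'))
    rw [show s * w * (s * w) = s * (w * s) * w by group, hexact, ← mul_assoc, hss, one_mul, fr.sq_of_pm hW, hrQ,
      sg_one] at hswsq
    exact fr.ne_neg 1 hswsq.symm
  by_cases hl1 : finrank (ZMod 2) I = 1
  · obtain ⟨u, huQ, hu0, hu⟩ := QForm.Iso.range_one hwInv hl1
    obtain ⟨y, hy⟩ := fr.q.exists_B_one hu0
    have hsu : fr.phi s u = 0 := by
      have e1 : fr.phi w y = u := by rw [show fr.phi w y = QForm.dif (fr.act w) y from rfl, hu, hy, one_smul]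
      have e2 : fr.phi s u = fr.q.B u (fr.phi s y) • u := by rw [← e1, hsc, e1]; exact hu _
      rcases z2_cases (fr.q.B u (fr.phi s y)) with e' | e'
      · rw [e2, e', zero_smul]
      · rw [e', one_smul] at e2
        have := hsInv.range_le_ker ⟨u, rfl⟩
        rw [LinearMap.mem_ker] at this
        rw [show QForm.dif (fr.act s) u = u from e2] at this
        rw [show fr.phi s u = u from e2]
        exact e2.symm.trans this
    have hsum : ∀ x, fr.phi (s * w) x = fr.phi s x + fr.q.B u x • u := fun x => by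
      rw [hphsw, show fr.phi w x = fr.q.B u x • u from hu x, map_smul, hsu, smul_zero, add_zero]
    by_cases huU : u ∈ U
    · have hsh := hshape.adapt huU huQ
      have hle : U' ≤ Submodule.span (ZMod 2) {a + u} := by
        rintro _ ⟨x, rfl⟩
        rw [show QForm.dif (fr.act (s * w)) x = fr.phi (s * w) x from rfl, hsum,
          show fr.phi s x = QForm.dif (fr.act s) x from rfl, hsh.2.2.2.2.2]
        have key : ∀ α β u v : ZMod 2, (α + β) * u + α * v + β * v = (α + β) * (u + v) := by decide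
        rw [show (fr.q.B a x + fr.q.B u x) • a + fr.q.B a x • u + fr.q.B u x • u =
          (fr.q.B a x + fr.q.B u x) • (a + u) from funext fun i => key _ _ _ _]
        exact Submodule.smul_mem _ _ (Submodule.mem_span_singleton_self _)
      have := Submodule.finrank_mono hle
      have h5 := finrank_span_le_card (R := ZMod 2) ({a + u} : Set (W k))
      simp at h5
      omega
    · have hu1 : ∃ x, fr.phi s x = 0 ∧ fr.q.B u x = 1 := by
        by_contra hno
        push Not at hno
        apply huU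
        rw [hUdef, ← fr.q.orth_orth (LinearMap.range (QForm.dif (fr.act s))), ← hsInv.ker_eq]
        exact fr.q.mem_orth'.2 fun x hx => z2_ne_one (hno x (LinearMap.mem_ker.1 hx))
      obtain ⟨x, hx1, hx2⟩ := hu1
      have huU' : u ∈ U' := ⟨x, by
        rw [show QForm.dif (fr.act (s * w)) x = fr.phi (s * w) x from rfl, hsum, hx1, hx2, one_smul, zero_add]⟩
      have hle : U ≤ U' := by
        rintro _ ⟨x, rfl⟩
        have : fr.phi s x = fr.phi (s * w) x + fr.q.B u x • u := by rw [hsum, vadd_cancel']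
        rw [show QForm.dif (fr.act s) x = fr.phi s x from rfl, this]
        exact Submodule.add_mem _ ⟨x, rfl⟩ (Submodule.smul_mem _ _ huU')
      exact huU (by rw [Submodule.eq_of_le_of_finrank_le hle (by omega)]; exact huU')
  obtain ⟨-, hts⟩ := range_allowed h h' hne hwN hwN' hww (show 2 ≤ finrank (ZMod 2) I by omega)
  have hts : finrank (ZMod 2) I < k → fr.q.Singular I := hts
  by_cases hl2 : finrank (ZMod 2) I = 2
  · have hI := hts (by omega)
    have htsL := cz_singular hp ht
    by_cases hIL : LinearMap.range (QForm.dif (fr.act (bl A 1 B))) = I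
    · -- then w acts as t
      have hL : I = Submodule.span (ZMod 2) {a, b} := by rw [← hIL]; exact ht.range_eq hp
      have hphi : fr.act w = fr.act (bl A 1 B) := LinearMap.ext fun x => by
        rw [QForm.apply_eq_dif, QForm.apply_eq_dif (fr.act (bl A 1 B)), hwInv.eq_plane hp.a0 hp.b0 hp.ne hI hL,
          show QForm.dif (fr.act (bl A 1 B)) x = fr.phi (bl A 1 B) x from rfl, ht.phi_eq hp]
      have hact : fr.act (s * w) = fr.act (bl A (fr.cl e) 1) := LinearMap.ext fun x => by
        rw [← hstval, fr.act_mul hsN hwN, fr.act_mul hsN htN, hphi]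
      refine hshape'.not_singular ?_
      rw [hact, show QForm.dif (fr.act (bl A (fr.cl e) 1)) = fr.phi (bl A (fr.cl e) 1) from rfl,
        fr.blk_range hA hE fr.cl_one hp.qa hea (map_zero _) hp.a0 (by rw [add_zero]; intro e'; rw [e'] at heb; simp at heb)
          (by rw [add_zero]; intro e'; rw [← e', fr.q.B_symm, hp.ab] at heb; exact zero_ne_one heb), add_zero]
      intro x hx
      rcases mem_span_two.1 hx with rfl | rfl | rfl | rfl
      · exact fr.q.Q_zero
      · exact hp.qa
      · exact heQ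
      · rw [fr.q.Q_add_of_orth hea, hp.qa, heQ, add_zero]
    rcases QForm.plane_pair htInv hwInv (fr.phi_commute htN hwN hwt) htsL hI (cz_finrank hp ht) hl2 hIL with
      ⟨hsing, -, h4⟩ | ⟨m, p, p', hmQ, hpQ, hp'Q, hmp, hmp', hne0, hnem, -, hJ', hcase, hform⟩
    · have := fr.q.minus _ hsing
      omega
    rcases hcase with ⟨-, hsing, h3d⟩ | hpp
    · have := fr.q.minus _ hsing
      omega
    have htwN := (Frame.N R).mul_mem htN hwN
    have htwsq : PM (bl A 1 B * w * (bl A 1 B * w)) 1 := by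
      have e1 : PM (bl A 1 B * w * (bl A 1 B * w)) (bl A 1 B * w * (w * bl A 1 B)) := hwt.mul_left _
      have e2 : PM (bl A 1 B * w * (w * bl A 1 B)) 1 := by
        rw [show bl A 1 B * w * (w * bl A 1 B) = bl A 1 B * (w * w) * bl A 1 B by group]
        have := (hww.mul_left (bl A 1 B)).mul_right (bl A 1 B)
        rwa [mul_one, ht.sq hp] at this
      exact e1.trans e2
    refine shape_not_both h h' hne htwN htwsq (c := m) (d := p + p') ?_ ((Frame.N R').mul_mem htN' hwN')
    have hQd : fr.q.Q (p + p') = 1 := by rw [fr.q.Q_add, hpQ, hp'Q, hpp]; rfl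
    have hBm : fr.q.B m (p + p') = 0 := by rw [map_add, hmp, hmp', add_zero]
    have hm0 : m ≠ 0 := by
      intro e'
      subst e'
      have h5 : LinearMap.range (QForm.dif (fr.act w)) ≤ Submodule.span (ZMod 2) {p'} := by
        rw [← hIdef]
        rw [hIdef, hJ', Submodule.span_insert_zero]
      have := Submodule.finrank_mono h5
      have h6 := finrank_span_le_card (R := ZMod 2) ({p'} : Set (W k))
      simp at h6
      rw [← hIdef] at this
      omega
    have hval : ∀ x, fr.phi (bl A 1 B * w) x = (fr.q.B m x + fr.q.B (p + p') x) • m + fr.q.B m x • (p + p') :=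
      fun x => by
        rw [fr.phi_mul htN hwN, show _ + _ + _ = _ from hform x, hpp, mul_one, add_comm (fr.q.B (p + p') x)]
    refine ⟨hmQ, hQd, hBm, hm0, le_antisymm ?_ ?_, hval⟩
    · rintro _ ⟨x, rfl⟩
      rw [show QForm.dif (fr.act (bl A 1 B * w)) x = fr.phi (bl A 1 B * w) x from rfl, hval]
      exact Submodule.add_mem _ (Submodule.smul_mem _ _ (Submodule.subset_span (by simp)))
        (Submodule.smul_mem _ _ (Submodule.subset_span (by simp)))
    · obtain ⟨x, hx1, hx2⟩ := fr.q.exists_B_one_zero hne0 hnem.symm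
      obtain ⟨y, hy1, hy2⟩ := fr.q.exists_B_one_zero hm0 hnem
      rw [Submodule.span_le]
      have e1 : fr.phi (bl A 1 B * w) x = m := by rw [hval, hx1, hx2]; simp
      rintro z (rfl | rfl)
      · exact ⟨x, e1⟩
      · refine ⟨x + y, ?_⟩
        rw [show QForm.dif (fr.act (bl A 1 B * w)) (x + y) = fr.phi (bl A 1 B * w) (x + y) from rfl, map_add, e1,
          hval, hy1, hy2, add_zero, one_smul, one_smul, vadd_cancel]
  -- range of dimension three
  have hl3 : finrank (ZMod 2) I = 3 := by omega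
  have hIle : I ≤ U ⊔ U' := by
    rintro _ ⟨x, rfl⟩
    rw [show QForm.dif (fr.act w) x = fr.phi w x from rfl, hphw]
    exact Submodule.add_mem _ (Submodule.add_mem _ (Submodule.mem_sup_left ⟨x, rfl⟩)
      (Submodule.mem_sup_right ⟨x, rfl⟩)) (Submodule.mem_sup_left ⟨_, rfl⟩)
  have hd1 := Submodule.finrank_mono hIle
  have hd2 := Submodule.finrank_sup_add_finrank_inf_eq U U'
  have hc' : ∀ x, fr.phi s (fr.phi (s * w) x) = fr.phi (s * w) (fr.phi s x) :=
    fr.phi_commute hsN hswN hscomm'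
  have horth_of : (∀ x, fr.phi s (fr.phi (s * w) x) = 0) → ∀ p ∈ U, ∀ q ∈ U', fr.q.B p q = 0 := by
    intro h0 p hp' q hq
    obtain ⟨y, rfl⟩ := hq
    have : fr.phi (s * w) y ∈ LinearMap.ker (fr.phi s) := h0 y
    rw [show fr.phi s = QForm.dif (fr.act s) from rfl, hsInv.ker_eq] at this
    exact fr.q.mem_orth.1 this p hp'
  by_cases hbot : U ⊓ U' = ⊥
  · have h0 : ∀ x, fr.phi s (fr.phi (s * w) x) = 0 := fun x => by
      have : fr.phi s (fr.phi (s * w) x) ∈ U ⊓ U' := ⟨⟨_, rfl⟩, hc' x ▸ ⟨_, rfl⟩⟩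
      rwa [hbot, Submodule.mem_bot] at this
    have := (hsInv.isotropic.sup hswInv.isotropic (horth_of h0)).finrank_le
    rw [hbot, finrank_bot] at hd2
    rw [← hUdef, ← hU'def] at this
    omega
  obtain ⟨m, hm, hm0⟩ := (U ⊓ U').ne_bot_iff.1 hbot
  have hinf : 1 ≤ finrank (ZMod 2) ↥(U ⊓ U') := by
    rw [Nat.one_le_iff_ne_zero]; exact fun e' => hbot (Submodule.finrank_eq_zero.1 e')
  have hIeq : I = U ⊔ U' := Submodule.eq_of_le_of_finrank_le hIle (by omega)
  have h0 : ∀ x, fr.phi s (fr.phi (s * w) x) = 0 := fun x => by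
    have hmem : fr.phi (s * w) x ∈ LinearMap.ker (fr.phi s) := by
      rw [show fr.phi s = QForm.dif (fr.act s) from rfl, hsInv.ker_eq]
      refine fr.q.mem_orth.2 fun p hp' => ?_
      exact hwInv.isotropic p (by rw [← hIdef, hIeq]; exact Submodule.mem_sup_left hp') _
        (by rw [← hIdef, hIeq]; exact Submodule.mem_sup_right ⟨x, rfl⟩)
    exact LinearMap.mem_ker.1 hmem
  obtain ⟨p, q, hpq⟩ := hshape.pair_small hshape' hm0 hm.1 hm.2
  have hle : I ≤ Submodule.span (ZMod 2) {p, q} := by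
    rintro _ ⟨x, rfl⟩
    rw [show QForm.dif (fr.act w) x = fr.phi w x from rfl, hphw, h0, add_zero]
    exact hpq x
  have h7 := Submodule.finrank_mono hle
  have h8 : finrank (ZMod 2) (Submodule.span (ZMod 2) ({p, q} : Set (W k))) ≤ 2 := by
    refine (finrank_span_le_card (R := ZMod 2) ({p, q} : Set (W k))).trans ?_
    rw [Set.toFinset_insert, Set.toFinset_singleton]
    exact Finset.card_le_two
  omega

/-- An element diag(1,1,1,-1) normalises no other frame. -/
theorem cz_not_both (h : Over f M fr) (h' : Over f M fr') (hne : R ≠ R') {a b : W k} {t : GL ι F}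
    (hp : fr.LPair a b) (ht : fr.IsCZ a b t) : t ∉ Frame.N R' := by
  intro htN'
  by_cases hk : k = 3
  · exact cz_three_not_both h h' hne hk hp ht htN'
  have h2 := cz_finrank hp ht
  have := (range_allowed h h' hne (ht.mem_N hp) htN' (.inl (ht.sq hp)) h2.ge).1
  have h3 := h.three
  omega

theorem cz_fix (h : Over f M fr) {a b : W k} {t : GL ι F} (hp : fr.LPair a b) (ht : fr.IsCZ a b t) {g : GL ι F}
    (hg : g ∈ M) (hgt : g * t * g⁻¹ ∈ Frame.N R) : g ∈ Frame.N R :=
  fix_of_not_both h (ht.mem_N hp) (fun _ _ h'' hne' => cz_not_both h h'' hne' hp ht) hg hgt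

end Over

end Cfsg.Agent.H57.CSix
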